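import Groth.Agent.Lib.SpQuot.HomOut
import Groth.Prelude.Def_StCoarse
import Groth.Agent.Lib.AlgSt.OfSp

/-!
# Moduli spaces of quotient stacks and invariant maps
-/

set_option backward.isDefEq.respectTransparency false
set_option backward.isDefEq.respectTransparency.types false

universe u

open CategoryTheory CategoryTheory.Limits MonoidalCategory CartesianMonoidalCategory MonObj GrpObj AlgebraicGeometry
open Opposite

namespace GrothLib.SpQuot

open _root_.AlgSp _root_.AlgSt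

variable {S : Scheme.{u}}

theorem ofSpMap_injective {F M : Sp S} {a b : F ⟶ M} (h : ofSpMap a = ofSpMap b) : a = b := by
  rw [← GrothLib.AlgSt.spHom_ofSpMap a, h, GrothLib.AlgSt.spHom_ofSpMap]

theorem comp_ofSpMap {F M N : Sp S} (a : F ⟶ M) (b : M ⟶ N) :
    BasedFunctor.comp (ofSpMap a) (ofSpMap b) = ofSpMap (a ≫ b) :=
  basedFunctor_ext_ofSp fun _ => ⟨rfl, HEq.rfl⟩

/-- A representable sheaf is the sheaf of a scheme. -/
theorem exists_iso_yon_of_isRepresentable {N : Sp S} (h : N.obj.IsRepresentable) :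
    ∃ (Z : Over S), Nonempty ((yon S).obj Z ≅ N) := by
  obtain ⟨Z, ⟨r⟩⟩ := h.has_representation
  let m : (yon S).obj Z ⟶ N := (J S).uliftYonedaEquiv.symm (r.homEquiv (𝟙 Z))
  have hb : ∀ T : (Over S)ᵒᵖ, Function.Bijective (m.hom.app T) := fun T => by
    have e : (fun g : ULift.{u + 1} (T.unop ⟶ Z) => r.homEquiv g.down) = m.hom.app T := by
      funext g
      refine (r.homEquiv_eq g.down).trans ?_
      have h1 := sec_comp (F := N) g.down m
      rw [GrothendieckTopology.uliftYonedaEquiv_comp, Equiv.apply_symm_apply] at h1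
      refine h1.symm.trans (congrArg (m.hom.app T) ?_)
      exact GrothendieckTopology.uliftYonedaEquiv_uliftYoneda_map (J S) g.down
    rw [← e]
    exact r.homEquiv.bijective.comp Equiv.ulift.bijective
  have : ∀ T, IsIso (m.hom.app T) := fun T => (isIso_iff_bijective _).2 (hb T)
  have : IsIso m.hom := NatIso.isIso_of_isIso_app _
  have : IsIso ((sheafToPresheaf _ _).map m) := ‹IsIso m.hom›
  have : IsIso m := isIso_of_reflects_iso m (sheafToPresheaf _ _)
  exact ⟨Z, ⟨asIso m⟩⟩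

variable {G : Over S} [GrpObj G] {X : Over S} (aX : AlgGrp.Action G X)

theorem existsUnique_of_invariant {M N : Sp S} (k₀ : (yon S).obj X ⟶ M)
    (π : QuotSt Scheme.fppfPrecoverage G aX ⥤ᵇ ofSp M)
    (hπ : BasedFunctor.comp (quotMap Scheme.fppfPrecoverage G aX) π = ofSpMap k₀)
    (φ : QuotSt Scheme.fppfPrecoverage G aX ⥤ᵇ ofSp N) (k : (yon S).obj X ⟶ N)
    (hk : BasedFunctor.comp (quotMap Scheme.fppfPrecoverage G aX) φ = ofSpMap k) (g : M ⟶ N) :
    Nonempty (BasedFunctor.comp π (ofSpMap g) ≅ φ) ↔ k₀ ≫ g = k := by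
  have hc : BasedFunctor.comp (quotMap Scheme.fppfPrecoverage G aX) (BasedFunctor.comp π (ofSpMap g)) =
      ofSpMap (k₀ ≫ g) := by
    change BasedFunctor.comp (BasedFunctor.comp (quotMap Scheme.fppfPrecoverage G aX) π) (ofSpMap g) = _
    rw [hπ, comp_ofSpMap]
  refine ⟨fun ⟨i⟩ => ?_, fun e => ⟨eqToIso ?_⟩⟩
  · apply ofSpMap_injective
    rw [← hc, eq_of_iso_ofSp i, hk]
  · rw [eq_outFunctor aX k (invariant_of_functor aX k φ hk) φ hk]
    exact eq_outFunctor aX k (invariant_of_functor aX k φ hk) _ (by rw [hc, e])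

/-- Categorical moduli spaces of a quotient stack are categorical quotients. -/
theorem isCatModuliIn_iff (C : ObjectProperty (Sp S)) {M : Sp S} (k₀ : (yon S).obj X ⟶ M)
    (π : QuotSt Scheme.fppfPrecoverage G aX ⥤ᵇ ofSp M)
    (hπ : BasedFunctor.comp (quotMap Scheme.fppfPrecoverage G aX) π = ofSpMap k₀) :
    IsCatModuliIn C π ↔ C M ∧ ∀ (N : Sp S), C N → ∀ k : (yon S).obj X ⟶ N,
      (yon S).map aX.act ≫ k = (yon S).map (snd G X) ≫ k → ∃! g : M ⟶ N, k₀ ≫ g = k := by
  refine and_congr_right fun _ => forall_congr' fun N => imp_congr_right fun _ => ⟨fun h k hk => ?_, fun h φ => ?_⟩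
  · obtain ⟨g, hg, hu⟩ := h (outFunctor aX k hk)
    have hi := existsUnique_of_invariant aX k₀ π hπ (outFunctor aX k hk) k (quotMap_outFunctor aX k hk)
    exact ⟨g, (hi g).1 hg, fun g' hg' => hu g' ((hi g').2 hg')⟩
  · let Φ := BasedFunctor.comp (quotMap Scheme.fppfPrecoverage G aX) φ
    have hk : Φ = ofSpMap (GrothLib.AlgSt.spHom Φ) := eq_of_iso_ofSp (GrothLib.AlgSt.isoOfSpHom Φ)
    obtain ⟨g, hg, hu⟩ := h _ (invariant_of_functor aX _ φ hk)
    have hi := existsUnique_of_invariant aX k₀ π hπ φ _ hk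
    exact ⟨g, (hi g).2 hg, fun g' hg' => hu g' ((hi g').1 hg')⟩

end GrothLib.SpQuot
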