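import Groth.Agent.Lib.SpQuot.Atlas
import Groth.Agent.Lib.AlgSt.DiagLFP

/-!
# Properties of the structure map of a torsor; the atlas of a quotient stack
-/

set_option backward.isDefEq.respectTransparency false
set_option backward.isDefEq.respectTransparency.types false

universe u

open CategoryTheory CategoryTheory.Limits MonoidalCategory CartesianMonoidalCategory MonObj GrpObj AlgebraicGeometry
open Opposite

namespace GrothLib.SpQuot

open _root_.AlgSp _root_.AlgSt

variable {S : Scheme.{u}} {B : Sp S} {G : Over B} [GrpObj G] {X : Over B} {aX : GAction G X}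

theorem isSurjectiveMor_torsor (A : SpQuotObj Scheme.fppfPrecoverage G aX) : IsSurjectiveMor A.π.left := by
  intro x
  obtain ⟨x, rfl⟩ := (Points.schemeHomeo A.base).surjective x
  obtain ⟨V, c, hc, -, -, hx⟩ := GrothLib.AlgSt.exists_family_of_mem_J (secSieve_mem A)
  obtain ⟨v, hv⟩ := hx x
  obtain ⟨s, hs⟩ := hc x
  refine ⟨Points.map s (Points.schemeHomeo (V x) v), ?_⟩
  rw [← Points.map_comp, hs]
  exact (Points.map_yon_map_apply (c x) v).trans (congrArg (Points.schemeHomeo A.base) hv)

/-- A property local on the base passes from `G ⟶ B` to all torsors. -/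
theorem mem_torsor {P : MorphismProperty (Sp S)} (hloc : IsLocalOnBase IsFppfCover P) (hB : IsAlgSpace B)
    (hG : IsAlgSpace G.left) (hP : ∀ (V : Over S) (b : (yon S).obj V ⟶ B), P (pullback.snd G.hom b))
    (A : SpQuotObj Scheme.fppfPrecoverage G aX) : P A.π.left := by
  obtain ⟨V, c, hc, hfl, hlfp, hx⟩ := GrothLib.AlgSt.exists_family_of_mem_J (secSieve_mem A)
  choose s hs using hc
  have hcov : IsFppfCover (fun i => (yon S).obj (V i)) (fun i => (yon S).map (c i)) :=
    ⟨fun i => ⟨GrothLib.AlgSp.EtLocal.locP_of_repWith GrothLib.AlgSp.EtLocal.flat (IsAlgSpace.yon_obj A.base)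
        ((repWith_yon_map_iff _ _).2 (hfl i)),
      GrothLib.AlgSp.EtLocal.locP_of_repWith GrothLib.AlgSp.EtLocal.lfp (IsAlgSpace.yon_obj A.base)
        ((repWith_yon_map_iff _ _).2 (hlfp i))⟩,
      fun x => by
        obtain ⟨x, rfl⟩ := (Points.schemeHomeo A.base).surjective x
        obtain ⟨v, hv⟩ := hx x
        exact ⟨x, Points.schemeHomeo (V x) v,
          (Points.map_yon_map_apply (c x) v).trans (congrArg (Points.schemeHomeo A.base) hv)⟩⟩
  let σ : ∀ i, Over.mk (s i ≫ A.P.hom) ⟶ A.P := fun i => Over.homMk (s i) rfl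
  exact (hloc _ _ (IsAlgSpace.yon_obj A.base) (fun i => IsAlgSpace.yon_obj (V i)) hcov A.π.left
    (isAlgSpace_torsor hB hG A) _ _ _
    (fun i => GrothLib.AlgSp.isAlgSpace_pullback' hB hG (IsAlgSpace.yon_obj (V i)) G.hom (s i ≫ A.P.hom))
    (fun i => isPullback_orbitMap A (σ i) (c i) (hs i))).2 fun i => hP (V i) _

/-- The fibres of `X ⟶ [X/G]`, with a property of the projection. -/
theorem repByAlgSpWith_spQuotMap (hB : IsAlgSpace B) (hG : IsAlgSpace G.left) {P : MorphismProperty (Sp S)}
    (h : ∀ A : SpQuotObj Scheme.fppfPrecoverage G aX, P A.π.left) :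
    RepByAlgSpWith P (spQuotMap Scheme.fppfPrecoverage G aX) := by
  intro T y
  have hA : (y.obj (GrothLib.FibCat.Yon.idObj T)).base = T := y.w_obj (GrothLib.FibCat.Yon.idObj T)
  let A := restr (y.obj (GrothLib.FibCat.Yon.idObj T)) (eqToHom hA.symm)
  obtain ⟨e₀, he₀, -⟩ := exists_factor (restrHom (y.obj (GrothLib.FibCat.Yon.idObj T)) (eqToHom hA.symm)) (𝟙 _)
    (eqToHom hA) (by simp [restrHom_base])
  obtain ⟨e, he, hmap⟩ := exists_fp_spQuotMap y A rfl (fun z => y.map (GrothLib.FibCat.Yon.toId z) ≫ e₀)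
    (fun z => by
      have h1 : (SpQuotSt Scheme.fppfPrecoverage G aX).p.IsHomLift z.hom (y.map (GrothLib.FibCat.Yon.toId z)) :=
        have := GrothLib.FibCat.Yon.toId_lift z
        BasedFunctor.preserves_isHomLift y _ _
      have h2 := (isHomLift_iff z.hom _ (y.w_obj z) hA).1 h1
      rw [eqToHom_refl, Category.comp_id, SpQuotObj.comp_base, he₀]
      exact h2)
    (fun {z z'} m => by rw [← Category.assoc, ← y.map_comp, GrothLib.FibCat.Yon.map_comp_toId])
  refine ⟨⟨A.P.left, isAlgSpace_torsor hB hG A⟩, e, he, ?_⟩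
  have hmap' : spMapOfOver (BasedFunctor.comp e (FibCat.fpFst y (spQuotMap Scheme.fppfPrecoverage G aX))) =
      A.π.left :=
    hmap.trans ((congrArg (A.π.left ≫ ·) ((yon S).map_id _)).trans (Category.comp_id _))
  exact hmap'.symm ▸ h A

end GrothLib.SpQuot
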