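import Groth.Agent.Lib.SpQuot.CompareAff
import Groth.Agent.Lib.SpQuot.AtlasProps
import Groth.Agent.Lib.AlgSt.OfSp
import Groth.Agent.Lib.AlgSp.FpqcProps

/-!
# The atlas of a quotient stack of schemes
-/

set_option backward.isDefEq.respectTransparency false
set_option backward.isDefEq.respectTransparency.types false

universe u

open CategoryTheory CategoryTheory.Limits MonoidalCategory CartesianMonoidalCategory MonObj GrpObj AlgebraicGeometry
open Opposite

namespace GrothLib.SpQuot

open _root_.AlgSp _root_.AlgSt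

attribute [local instance] grpYon

variable {S : Scheme.{u}} {G : Over S} [GrpObj G] {X : Over S}

theorem hom_ext_map_tensor {P Q : Over S} {Z : Over (topSp S)} {f g : Z ⟶ (overYon S).obj (P ⊗ Q)}
    (h₁ : f ≫ (overYon S).map (fst P Q) = g ≫ (overYon S).map (fst P Q))
    (h₂ : f ≫ (overYon S).map (snd P Q) = g ≫ (overYon S).map (snd P Q)) : f = g := by
  rw [← cancel_mono (inv (Functor.LaxMonoidal.μ (overYon S) P Q))]
  apply CartesianMonoidalCategory.hom_ext
  · simpa only [Category.assoc, ← Functor.Monoidal.μ_fst (overYon S) P Q, IsIso.inv_hom_id_assoc] using h₁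
  · simpa only [Category.assoc, ← Functor.Monoidal.μ_snd (overYon S) P Q, IsIso.inv_hom_id_assoc] using h₂

/-- The base point of a section, as a scheme over the final sheaf. -/
noncomputable def baseIso (a : (ofSch X).obj) :
    Over.mk (secYon (X := (overYon S).obj X) a ≫ ((overYon S).obj X).hom) ⟶ (overYon S).obj a.base :=
  Over.homMk (𝟙 _) (topSp_hom_ext _ _)

variable (aX : AlgGrp.Action G X)

/-- The trivial sheaf torsor is the trivial torsor of schemes. -/
noncomputable def trivHom (a : (ofSch X).obj) :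
    (spQuotMap Scheme.fppfPrecoverage ((overYon S).obj G) (yonAct aX)).obj a ⟶
      (compare G X aX).obj ((quotMap Scheme.fppfPrecoverage G aX).obj a) :=
  mkHom (A := (spQuotMap Scheme.fppfPrecoverage ((overYon S).obj G) (yonAct aX)).obj a)
    (A' := (compare G X aX).obj ((quotMap Scheme.fppfPrecoverage G aX).obj a))
    (𝟙 a.base) (topSp_hom_ext _ _)
    ((((overYon S).obj G) ◁ baseIso a) ≫ Functor.LaxMonoidal.μ (overYon S) G a.base)
    (by
      change (((((overYon S).obj G) ◁ baseIso a) ≫ Functor.LaxMonoidal.μ (overYon S) G a.base) ≫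
        (overYon S).map (snd G a.base)).left = (snd ((overYon S).obj G) _).left ≫ (yon S).map (𝟙 a.base)
      rw [Category.assoc, Functor.Monoidal.μ_snd, whiskerLeft_snd, (yon S).map_id]
      rfl)
    (by
      change (spLeftMul ((overYon S).obj G) _).act ≫ (((((overYon S).obj G) ◁ baseIso a) ≫ Functor.LaxMonoidal.μ (overYon S) G a.base)) =
        (((overYon S).obj G) ◁ ((((overYon S).obj G) ◁ baseIso a) ≫ Functor.LaxMonoidal.μ (overYon S) G a.base)) ≫
          Functor.LaxMonoidal.μ (overYon S) G (G ⊗ a.base) ≫ (overYon S).map (leftMul G a.base).act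
      apply hom_ext_map_tensor
      · simp only [Category.assoc, ← Functor.map_comp, leftMul, lift_fst, Functor.Monoidal.μ_fst, spLeftMul,
          whiskerLeft_fst]
        rw [Functor.map_mul, comp_mul, comp_mul]
        simp only [Functor.map_comp, Functor.Monoidal.μ_fst, Functor.Monoidal.μ_snd_assoc, whiskerLeft_fst,
          whiskerLeft_snd_assoc, Category.assoc]
      · simp only [Category.assoc, ← Functor.map_comp, leftMul, lift_snd, Functor.Monoidal.μ_snd, spLeftMul,
          whiskerLeft_snd]
        simp only [Functor.map_comp, Functor.Monoidal.μ_snd_assoc, Functor.Monoidal.μ_snd, whiskerLeft_snd_assoc,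
          Category.assoc, whiskerLeft_snd, lift_snd_assoc])
    (by
      change ((((overYon S).obj G) ◁ baseIso a) ≫ Functor.LaxMonoidal.μ (overYon S) G a.base) ≫
          (overYon S).map ((G ◁ a.sec.down) ≫ aX.act) =
        (((overYon S).obj G) ◁ secOver (X := (overYon S).obj X) a) ≫ Functor.LaxMonoidal.μ (overYon S) G X ≫
          (overYon S).map aX.act
      rw [Functor.map_comp, Category.assoc, ← Functor.LaxMonoidal.μ_natural_right_assoc,
        ← MonoidalCategory.whiskerLeft_comp_assoc]
      refine congrArg (fun t => ((overYon S).obj G ◁ t) ≫ Functor.LaxMonoidal.μ (overYon S) G X ≫ (overYon S).map aX.act)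
        (Over.OverMorphism.ext ?_)
      exact Category.id_comp _)

theorem trivHom_top (a : (ofSch X).obj) : (trivHom aX a).top =
    ((((overYon S).obj G) ◁ baseIso a) ≫ Functor.LaxMonoidal.μ (overYon S) G a.base) := by
  rw [trivHom, mkHom_top]

theorem trivHom_base (a : (ofSch X).obj) : (trivHom aX a).base = 𝟙 a.base := by
  rw [trivHom, mkHom_base]

theorem comp_trivHom_top {a a' : (ofSch X).obj} (m : a ⟶ a') :
    ((spQuotMap Scheme.fppfPrecoverage ((overYon S).obj G) (yonAct aX)).map m ≫ trivHom aX a').top =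
      ((spQuotMap Scheme.fppfPrecoverage ((overYon S).obj G) (yonAct aX)).map m).top ≫ (trivHom aX a').top := rfl

theorem trivHom_comp_top {a a' : (ofSch X).obj} (m : a ⟶ a') :
    (trivHom aX a ≫ (compare G X aX).map ((quotMap Scheme.fppfPrecoverage G aX).map m)).top =
      (trivHom aX a).top ≫ (overYon S).map (G ◁ m.hom) := rfl

theorem spQuotMap_map_base {a a' : (ofSch X).obj} (m : a ⟶ a') :
    ((spQuotMap Scheme.fppfPrecoverage ((overYon S).obj G) (yonAct aX)).map m).base = m.hom := rfl

theorem compare_map_base {a a' : (ofSch X).obj} (m : a ⟶ a') :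
    ((compare G X aX).map ((quotMap Scheme.fppfPrecoverage G aX).map m)).base = m.hom := rfl

theorem trivHom_natural {a a' : (ofSch X).obj} (m : a ⟶ a') :
    (spQuotMap Scheme.fppfPrecoverage ((overYon S).obj G) (yonAct aX)).map m ≫ trivHom aX a' =
      trivHom aX a ≫ (compare G X aX).map ((quotMap Scheme.fppfPrecoverage G aX).map m) := by
  refine SpQuotObj.hom_ext ?_ ((comp_trivHom_top aX m).trans (Eq.trans ?_ (trivHom_comp_top aX m).symm))
  · refine (SpQuotObj.comp_base _ _).trans (Eq.trans ?_ (SpQuotObj.comp_base _ _).symm)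
    refine (congrArg₂ (fun (u : a.base ⟶ a'.base) (v : a'.base ⟶ a'.base) => u ≫ v)
      (spQuotMap_map_base aX m) (trivHom_base aX a')).trans
      (Eq.trans ?_ (congrArg₂ (fun (u : a.base ⟶ a.base) (v : a.base ⟶ a'.base) => u ≫ v)
        (trivHom_base aX a) (compare_map_base aX m)).symm)
    exact (Category.comp_id _).trans (Category.id_comp _).symm
  rw [trivHom_top, trivHom_top]
  change (((overYon S).obj G) ◁ _) ≫ (((overYon S).obj G) ◁ baseIso a') ≫ Functor.LaxMonoidal.μ (overYon S) G a'.base = _
  rw [Category.assoc, ← Functor.LaxMonoidal.μ_natural_right, ← MonoidalCategory.whiskerLeft_comp_assoc,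
    ← MonoidalCategory.whiskerLeft_comp_assoc]
  refine congrArg (fun t => ((overYon S).obj G ◁ t) ≫ Functor.LaxMonoidal.μ (overYon S) G a'.base)
    (Over.OverMorphism.ext ?_)
  rw [Over.comp_left, Over.comp_left]
  show (yon S).map m.hom ≫ 𝟙 ((yon S).obj a'.base) = 𝟙 ((yon S).obj a.base) ≫ (yon S).map m.hom
  rw [Category.comp_id, Category.id_comp]

theorem repByAlgSpWith_quotMap {P : MorphismProperty (Sp S)}
    (h : ∀ A : SpQuotObj Scheme.fppfPrecoverage ((overYon S).obj G) (yonAct aX), P A.π.left) :
    RepByAlgSpWith P (BasedFunctor.comp (ofOverCat X) (quotMap Scheme.fppfPrecoverage G aX)) := by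
  let f' := BasedFunctor.comp (ofOverCat X) (quotMap Scheme.fppfPrecoverage G aX)
  let f := spQuotMap Scheme.fppfPrecoverage ((overYon S).obj G) (yonAct aX)
  have hsG : IsAlgSpace ((overYon S).obj G).left := IsAlgSpace.yon_obj G
  have hiso : ∀ a : (ofSch X).obj, IsIso (trivHom aX a) := fun a =>
    have := (isHomLift_iff (𝟙 a.base) (trivHom aX a) rfl rfl).2 (by simp [trivHom]; rfl)
    GrothLib.FibCat.IsFibGrpd.isIso_of_isHomLift_id (isFibGrpd (aX := yonAct aX)) (R := a.base) (trivHom aX a)
  let e : BasedFunctor.comp f' (compare G X aX) ≅ BasedFunctor.comp (ofOverCat X) f :=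
    GrothLib.FibCat.natIsoOfComponents (fun z => (asIso (trivHom aX ((ofOverCat X).obj z))).symm)
      (fun z => by
        have := (isHomLift_iff (𝟙 z.left) (trivHom aX ((ofOverCat X).obj z)) rfl rfl).2 (by simp [trivHom]; rfl)
        exact @IsHomLift.lift_id_inv _ _ _ _ ((SpQuotSt Scheme.fppfPrecoverage ((overYon S).obj G) (yonAct aX)).p) z.left _ _ (asIso (trivHom aX ((ofOverCat X).obj z))) this)
      (fun {z z'} m => by
        simp only [Iso.symm_hom, asIso_inv, IsIso.eq_inv_comp]
        rw [← Category.assoc, IsIso.comp_inv_eq]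
        exact (trivHom_natural aX ((ofOverCat X).map m)).symm)
  exact GrothLib.AlgSt.repByAlgSpWith_of_square (ofOverCat X) (compare G X aX)
    (GrothLib.AlgSt.isEquivOver_ofOverCat X) e (repByAlgSpWith_spQuotMap (IsAlgSpace.yon_obj _) hsG h)

/-- A property of schemes local for the fpqc topology is fppf local on the base. -/
theorem isLocalOnBase_fppf_locP {Q : MorphismProperty Scheme.{u}} [IsZariskiLocalAtTarget Q]
    [Q.DescendsAlong (@Surjective ⊓ @Flat ⊓ @QuasiCompact)] (hQ : GrothLib.AlgSp.EtLocal Q) :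
    IsLocalOnBase (S := S) IsFppfCover (LocP Q) :=
  GrothLib.AlgSt.isLocalOnBase_fppf_of_fpqc (GrothLib.AlgSp.isLocalOnBase_fpqc_of
    (GrothLib.AlgSp.baseChanges_locP hQ)
    fun _ _ hX hY _ h => GrothLib.AlgSp.locP_of_fpqcLoc hQ hX hY h)

theorem locP_torsor {Q : MorphismProperty Scheme.{u}} [Q.IsStableUnderBaseChange] [IsZariskiLocalAtTarget Q]
    [Q.DescendsAlong (@Surjective ⊓ @Flat ⊓ @QuasiCompact)] (hQ : GrothLib.AlgSp.EtLocal Q) (hG : Q G.hom)
    (A : SpQuotObj Scheme.fppfPrecoverage ((overYon S).obj G) (yonAct aX)) : LocP Q A.π.left := by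
  refine mem_torsor (isLocalOnBase_fppf_locP hQ) (IsAlgSpace.yon_obj _)
    (IsAlgSpace.yon_obj G : IsAlgSpace ((overYon S).obj G).left) (fun V b => ?_) A
  refine GrothLib.AlgSp.EtLocal.locP_of_repWith hQ (IsAlgSpace.yon_obj V)
    (MorphismProperty.of_isPullback (IsPullback.of_hasPullback ((overYon S).obj G).hom b) ?_)
  refine (MorphismProperty.arrow_mk_iso_iff _ ?_).1
    ((repWith_yon_map_iff (S := S) Q (Over.homMk (U := G) (V := Over.mk (𝟙 S)) G.hom (by simp))).2 hG)
  exact Arrow.isoMk (Iso.refl _) (Iso.refl _) (topSp_hom_ext _ _)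

end GrothLib.SpQuot
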