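import Groth.Agent.Lib.SpQuot.DiagGen
import Groth.Agent.Lib.SpQuot.CompareMap
import Groth.Agent.Lib.AlgSt.DiagEquiv
import Groth.Agent.Lib.AlgSp.FpqcAffine

/-!
# The diagonal of a quotient stack of schemes
-/

set_option backward.isDefEq.respectTransparency false
set_option backward.isDefEq.respectTransparency.types false

universe u

open CategoryTheory CategoryTheory.Limits MonoidalCategory CartesianMonoidalCategory MonObj GrpObj AlgebraicGeometry
open Opposite

namespace GrothLib.SpQuot

open _root_.AlgSp _root_.AlgSt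

attribute [local instance] grpYon

variable {S : Scheme.{u}}

/-- The diagonal of a scheme as a sheaf over the final sheaf. -/
theorem repWith_diag_overYon {Q : MorphismProperty Scheme.{u}} [Q.IsStableUnderBaseChange] (X : Over S)
    (h : Q (pullback.diagonal X.hom)) : RepWith Q (pullback.diagonal ((overYon S).obj X).hom) := by
  let d : X ⟶ X ⊗ X := lift (𝟙 X) (𝟙 X)
  have hd : d.left = pullback.diagonal X.hom := by
    apply pullback.hom_ext <;> simp [d, pullback.diagonal] <;> rfl
  have h1 : RepWith Q ((yon S).map d) := (repWith_yon_map_iff Q d).2 (hd ▸ h)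
  have hp : IsPullback ((yon S).map (fst X X)) ((yon S).map (snd X X)) ((overYon S).obj X).hom
      ((overYon S).obj X).hom :=
    ((isPullback_fst_snd X X).map (yon S)).of_iso (Iso.refl _) (Iso.refl _) (Iso.refl _) (Iso.refl _)
        (by simp) (by simp) (topSp_hom_ext (T := X) _ _) (topSp_hom_ext (T := X) _ _)
  refine (MorphismProperty.arrow_mk_iso_iff (RepWith Q) ?_).1 h1
  refine Arrow.isoMk (Iso.refl _) hp.isoPullback ?_
  apply pullback.hom_ext <;>
    simp [pullback.diagonal, d, ← Functor.map_comp] <;> rfl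

theorem isLocalOnBase_fppf_affine : IsLocalOnBase (S := S) IsFppfCover IsAffineMor := by
  refine GrothLib.AlgSt.isLocalOnBase_fppf_of_fpqc (GrothLib.AlgSp.isLocalOnBase_fpqc_of
    (fun X Y X' Y' _ _ _ _ f g fst snd sq hf => GrothLib.AlgSp.isAffineMor_iff.2
      (GrothLib.AlgSp.repWith_of_isPullback sq (GrothLib.AlgSp.isAffineMor_iff.1 hf)))
    fun X Y hX hY f h => GrothLib.AlgSp.isAffineMor_iff.2 ?_)
  exact GrothLib.AlgSp.repWith_of_fpqcLoc_affine (fun _ _ _ hk => hk) hX hY
    (h.mono hX hY fun _ _ _ _ hs => GrothLib.AlgSp.isAffineMor_iff.1 hs)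

theorem isLocalOnBase_fppf_quasiAffine : IsLocalOnBase (S := S) IsFppfCover IsQuasiAffineMor :=
  GrothLib.AlgSt.isLocalOnBase_fppf_of_fpqc (GrothLib.AlgSp.isLocalOnBase_fpqc_of
    GrothLib.AlgSp.baseChanges_quasiAffine fun _ _ hX hY _ h => GrothLib.AlgSp.isQuasiAffineMor_of_fpqcLoc hX hY h)

/-- A quasi-compact immersion followed by an affine morphism is quasi-affine. -/
theorem isQuasiAffineMor_comp {F G H : Sp S} {f : F ⟶ G} {g : G ⟶ H}
    (hf : RepWith (@IsImmersion ⊓ @QuasiCompact : MorphismProperty Scheme.{u}) f) (hg : IsAffineMor g) :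
    IsQuasiAffineMor (f ≫ g) := by
  intro Z hZ z
  obtain ⟨W, i, p, sq, hW⟩ := hg hZ z
  obtain ⟨W', fst, snd, sq'⟩ := GrothLib.AlgSp.exists_isPullback_of_representable hf.1 p
  obtain ⟨hi, hqc⟩ := hf.2 _ _ _ sq'
  refine ⟨W', snd ≫ i, fst, ?_, ?_⟩
  · rw [Functor.map_comp]; exact sq'.paste_vert sq
  · have : IsImmersion snd.left := hi
    have : QuasiCompact snd.left := hqc
    have : CompactSpace W'.left := QuasiCompact.compactSpace_of_compactSpace snd.left
    exact Scheme.IsQuasiAffine.of_isImmersion snd.left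

theorem respectsIso_quasiAffine : (IsQuasiAffineMor : MorphismProperty (Sp S)).RespectsIso := by
  refine MorphismProperty.RespectsIso.mk _ ?_ ?_
  · intro F G H e f hf Z hZ z
    obtain ⟨W, i, p, sq, hW⟩ := hf hZ z
    exact ⟨W, i, p ≫ e.inv, sq.of_iso (Iso.refl _) e.symm (Iso.refl _) (Iso.refl _)
      (by simp) (by simp) (by simp) (by simp), hW⟩
  · intro F G H e f hf Z hZ z
    obtain ⟨W, i, p, sq, hW⟩ := hf hZ (z ≫ e.inv)
    exact ⟨W, i, p, sq.of_iso (Iso.refl _) (Iso.refl _) (Iso.refl _) e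
      (by simp) (by simp) (by simp) (by simp), hW⟩

variable {G : Over S} [GrpObj G] {X : Over S} {aX : AlgGrp.Action G X}

theorem isAffineMor_torsor (hG : IsAffineHom G.hom)
    (A : SpQuotObj Scheme.fppfPrecoverage ((overYon S).obj G) (yonAct aX)) : IsAffineMor A.π.left := by
  refine mem_torsor isLocalOnBase_fppf_affine (IsAlgSpace.yon_obj _)
    (IsAlgSpace.yon_obj G : IsAlgSpace ((overYon S).obj G).left) (fun V b => GrothLib.AlgSp.isAffineMor_iff.2 ?_) A
  refine MorphismProperty.of_isPullback (IsPullback.of_hasPullback ((overYon S).obj G).hom b) ?_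
  refine (MorphismProperty.arrow_mk_iso_iff _ ?_).1
    ((repWith_yon_map_iff (S := S) @IsAffineHom (Over.homMk (U := G) (V := Over.mk (𝟙 S)) G.hom (by simp))).2 hG)
  exact Arrow.isoMk (Iso.refl _) (Iso.refl _) (topSp_hom_ext _ _)

variable (aX) in
theorem repByAlgSpWith_diag_quotSt (hG : IsAffineHom G.hom) {P : MorphismProperty (Sp S)} [P.RespectsIso]
    (hloc : IsLocalOnBase IsFppfCover P)
    (hcomp : ∀ (Q : SpQuotObj Scheme.fppfPrecoverage ((overYon S).obj G) (yonAct aX)) {E : Sp S}
      (n : E ⟶ Q.P.left) (c : E ⟶ ((overYon S).obj X).left)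
      (d : Q.P.left ⟶ pullback ((overYon S).obj X).hom ((overYon S).obj X).hom),
      IsPullback n c d (pullback.diagonal ((overYon S).obj X).hom) → P (n ≫ Q.π.left)) :
    RepByAlgSpWith P (FibCat.diag (FibCat.toSelf (QuotSt Scheme.fppfPrecoverage G aX))) := by
  refine GrothLib.AlgSt.repByAlgSpWith_diag_of_isEquivOver (compare G X aX)
    ((GrothLib.FibCat.isEquivOver_iff _).2 ⟨inferInstance, inferInstance, fun A => ?_⟩)
    (repByAlgSpWith_diag' (IsAlgSpace.yon_obj X) (fun b b' => topSp_hom_ext b b') (IsAlgSpace.yon_obj _)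
      (IsAlgSpace.yon_obj G : IsAlgSpace ((overYon S).obj G).left) hloc hcomp)
  obtain ⟨P₀, ⟨e⟩⟩ := exists_yon_iso_torsor hG A
  exact exists_compare_iso A P₀ e

variable (aX) in
theorem repByAlgSpWith_isAffineMor_diag_quotSt (hG : IsAffineHom G.hom) (hX : IsAffineHom (pullback.diagonal X.hom)) :
    RepByAlgSpWith IsAffineMor (FibCat.diag (FibCat.toSelf (QuotSt Scheme.fppfPrecoverage G aX))) := by
  have : (IsAffineMor : MorphismProperty (Sp S)).RespectsIso := by
    rw [show (IsAffineMor : MorphismProperty (Sp S)) = RepWith @IsAffineHom from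
      funext fun _ => funext fun _ => funext fun _ => propext GrothLib.AlgSp.isAffineMor_iff]
    infer_instance
  refine repByAlgSpWith_diag_quotSt aX hG isLocalOnBase_fppf_affine fun Q E n c d sq =>
    GrothLib.AlgSp.isAffineMor_iff.2 (GrothLib.AlgSp.repWith_comp ?_
      (GrothLib.AlgSp.isAffineMor_iff.1 (isAffineMor_torsor hG Q)))
  exact MorphismProperty.of_isPullback sq.flip (repWith_diag_overYon X hX)

variable (aX) in
theorem repByAlgSpWith_isQuasiAffineMor_diag_quotSt (hG : IsAffineHom G.hom) (hX : QuasiCompact (pullback.diagonal X.hom)) :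
    RepByAlgSpWith IsQuasiAffineMor (FibCat.diag (FibCat.toSelf (QuotSt Scheme.fppfPrecoverage G aX))) := by
  have := respectsIso_quasiAffine (S := S)
  refine repByAlgSpWith_diag_quotSt aX hG isLocalOnBase_fppf_quasiAffine fun Q E n c d sq =>
    isQuasiAffineMor_comp ?_ (isAffineMor_torsor hG Q)
  exact MorphismProperty.of_isPullback sq.flip (repWith_diag_overYon X ⟨inferInstance, hX⟩)

end GrothLib.SpQuot
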