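import Groth.Agent.Lib.SpQuot.ObjGlue
import Groth.Agent.Lib.Stk.Descent

/-!
# The quotient category with sheaf torsors is a stack
-/

set_option backward.isDefEq.respectTransparency false
set_option backward.isDefEq.respectTransparency.types false

universe u

open CategoryTheory CategoryTheory.Limits MonoidalCategory CartesianMonoidalCategory MonObj GrpObj AlgebraicGeometry

namespace GrothLib.SpQuot

open _root_.AlgSp AlgSt

variable {S : Scheme.{u}} {B : Sp S} {G : Over B} [GrpObj G] {X : Over B} {aX : GAction G X}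

/-- The restrictions of an object, as a family. -/
noncomputable abbrev fam (a : SpQuotObj Scheme.fppfPrecoverage G aX) (R : Sieve a.base) : Fam a.P R where
  π := a.π.left
  P _ f _ := (restr a f).P
  πP _ f _ := (restr a f).π.left
  j _ f _ := (restrHom a f).top
  cart _ f _ := isPullback_left (restrHom a f)

theorem hom_ext_of_cover {a b : SpQuotObj Scheme.fppfPrecoverage G aX} {R : Sieve a.base} (hR : R ∈ J S a.base)
    (φ ψ : a ⟶ b) (hb : φ.base = ψ.base)
    (H : ∀ {a' : SpQuotObj Scheme.fppfPrecoverage G aX} (κ : a' ⟶ a), R.arrows κ.base → κ ≫ φ = κ ≫ ψ) : φ = ψ :=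
  SpQuotObj.hom_ext hb ((fam a R).hom_ext hR fun V f hf =>
    congrArg SpQuotObj.Hom.top (H (restrHom a f) hf))

/-- Morphisms factor uniquely through morphisms over the base. -/
theorem exists_factor {a a' a'' : SpQuotObj Scheme.fppfPrecoverage G aX} (κ : a' ⟶ a) (ψ : a'' ⟶ a)
    (g : a''.base ⟶ a'.base) (e : g ≫ κ.base = ψ.base) : ∃ l : a'' ⟶ a', l.base = g ∧ l ≫ κ = ψ := by
  have := isFibGrpd.isStronglyCartesian (p := (SpQuotSt Scheme.fppfPrecoverage G aX).p) κ
  have : (SpQuotSt Scheme.fppfPrecoverage G aX).p.IsHomLift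
      (g ≫ (SpQuotSt Scheme.fppfPrecoverage G aX).p.map κ) ψ := by
    have e' : g ≫ (SpQuotSt Scheme.fppfPrecoverage G aX).p.map κ = (SpQuotSt Scheme.fppfPrecoverage G aX).p.map ψ := e
    rw [e']
    exact IsHomLift.map _ ψ
  obtain ⟨l, ⟨hl1, hl2⟩, -⟩ := Functor.IsStronglyCartesian.universal_property'
    (p := (SpQuotSt Scheme.fppfPrecoverage G aX).p) (f := (SpQuotSt Scheme.fppfPrecoverage G aX).p.map κ) (φ := κ)
    g ψ
  exact ⟨l, (IsHomLift.eq_of_isHomLift (SpQuotSt Scheme.fppfPrecoverage G aX).p g l).symm, hl2⟩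

theorem exists_hom_glue {a b : SpQuotObj Scheme.fppfPrecoverage G aX} {R : Sieve a.base} (hR : R ∈ J S a.base)
    {χ : a.base ⟶ b.base}
    (L : GrothLib.Stk.Descent.Local (SpQuotSt Scheme.fppfPrecoverage G aX).p a b R χ) :
    ∃ α : a ⟶ b, α.base = χ ∧
      ∀ {a' : SpQuotObj Scheme.fppfPrecoverage G aX} (κ : a' ⟶ a) (hκ : R.arrows κ.base), κ ≫ α = L.n κ hκ := by
  have hbase : ∀ {a' : SpQuotObj Scheme.fppfPrecoverage G aX} (κ : a' ⟶ a) (hκ : R.arrows κ.base),
      (L.n κ hκ).base = κ.base ≫ χ := fun κ hκ => L.map_n κ hκ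
  obtain ⟨top, htop⟩ := (fam a R).exists_hom hR (fun V f hf => (L.n (restrHom a f) hf).top)
    fun V' V h f' hf' f hf e T p q h1 h2 => by
      obtain ⟨l, hb, hl2⟩ := exists_factor (restrHom a f) (restrHom a f') h e
      have hq : q = p ≫ l.top.left := by
        refine (isPullback_left (restrHom a f)).hom_ext ?_ ?_
        · rw [Category.assoc, ← Over.comp_left, ← SpQuotObj.comp_top, hl2]
          exact h1.symm
        · rw [Category.assoc, hom_comm_left l, hb]
          exact h2
      have hn : l ≫ L.n (restrHom a f) hf = L.n (restrHom a f') hf' := by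
        have h' : R.arrows (l ≫ restrHom a f).base := by rw [hl2]; exact hf'
        exact (L.comp l (restrHom a f) hf h').trans (L.congr _ hl2 _ _)
      rw [hq, Category.assoc, ← Over.comp_left, ← SpQuotObj.comp_top, hn]
  have hwb : (yon S).map χ ≫ b.b = a.b := hom_ext_cover hR fun V f hf => by
    rw [← Category.assoc, ← Functor.map_comp]
    refine Eq.trans ?_ (SpQuotObj.hom_wb (restrHom a f)).symm
    rw [← SpQuotObj.hom_wb (L.n (restrHom a f) hf), hbase]
    rfl
  have heqv : a.act.act ≫ top = (G ◁ top) ≫ b.act.act := ((fam a R).tensor G).hom_ext hR fun V f hf => by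
    change (G ◁ (restrHom a f).top) ≫ a.act.act ≫ top = (G ◁ (restrHom a f).top) ≫ (G ◁ top) ≫ b.act.act
    rw [← reassoc_of% (restrHom a f).eqv, htop f hf, ← MonoidalCategory.whiskerLeft_comp_assoc, htop f hf,
      (L.n (restrHom a f) hf).eqv]
  have hcomm : top.left ≫ b.π.left = a.π.left ≫ (yon S).map χ := by
    have h0 : top ≫ b.π = a.π ≫ bHom χ hwb := (fam a R).hom_ext hR fun V f hf => by
      rw [reassoc_of% (htop f hf)]
      ext1
      simp only [Over.comp_left]
      rw [hom_comm_left (L.n (restrHom a f) hf), hbase, Functor.map_comp, reassoc_of% (hom_comm_left (restrHom a f))]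
      rfl
    exact congrArg CommaMorphism.left h0
  have hwφ : top ≫ b.φ = a.φ := (fam a R).hom_ext hR fun V f hf => by
    rw [reassoc_of% (htop f hf), (L.n (restrHom a f) hf).wφ]
    exact (restrHom a f).wφ.symm
  refine ⟨mkHom χ hwb top hcomm heqv hwφ, rfl, fun {a'} κ hκ => ?_⟩
  refine SpQuotObj.hom_ext (hbase κ hκ).symm ?_
  obtain ⟨l, -, hl2⟩ := exists_factor (restrHom a κ.base) κ (𝟙 a'.base) (Category.id_comp _)
  have h' : R.arrows (l ≫ restrHom a κ.base).base := by rw [hl2]; exact hκ
  have hn : l ≫ L.n (restrHom a κ.base) hκ = L.n κ hκ := by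
    exact (L.comp l (restrHom a κ.base) hκ h').trans (L.congr _ hl2 _ _)
  change κ.top ≫ top = _
  rw [← congrArg SpQuotObj.Hom.top hl2, ← hn, SpQuotObj.comp_top, SpQuotObj.comp_top, Category.assoc]
  exact congrArg (l.top ≫ ·) (htop κ.base hκ)

theorem isStack : Stk.IsStack (J S) (SpQuotSt Scheme.fppfPrecoverage G aX) := by
  refine ⟨isFibGrpd, fun U R hR => GrothLib.Stk.Descent.isStackFor_of_glue isFibGrpd ?_ ?_ fun c => ?_⟩
  · intro a b ha _ φ ψ hb H
    exact hom_ext_of_cover (GrothendieckTopology.pullback_stable _ (eqToHom ha) hR) φ ψ hb H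
  · intro a b ha hb L
    exact exists_hom_glue (GrothendieckTopology.pullback_stable _ (eqToHom ha) hR) L
  · let z : ∀ ⦃V : Over S⦄ (f : V ⟶ U), R.arrows f → (Stk.sieveCat R).obj :=
      fun V f hf => GrothLib.Stk.arrowObj f hf
    let D : ObjDD R aX :=
      { A := fun V f hf => c.obj (z f hf)
        e := fun V f hf => c.w_obj (z f hf)
        l := fun V' V h f' hf' f hf w => c.map (ObjectProperty.homMk (Over.homMk h w))
        lbase := fun V' V h f' hf' f hf w => by
          have hl : (SpQuotSt Scheme.fppfPrecoverage G aX).p.IsHomLift h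
              (c.map (ObjectProperty.homMk (Over.homMk h w) : z f' hf' ⟶ z f hf)) := by
            have : (Stk.sieveCat R).p.IsHomLift h (ObjectProperty.homMk (Over.homMk h w) : z f' hf' ⟶ z f hf) :=
              IsHomLift.map (Stk.sieveCat R).p (ObjectProperty.homMk (Over.homMk h w) : z f' hf' ⟶ z f hf)
            exact BasedFunctor.preserves_isHomLift c _ _
          exact (isHomLift_iff h _ (c.w_obj (z f' hf')) (c.w_obj (z f hf))).1 hl
        comp := fun V'' V' V h' h f'' hf'' f' hf' f hf w' w => by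
          rw [← c.map_comp]
          rfl }
    obtain ⟨A, hA, m, hm, hmt⟩ := D.exists_glue hR
    refine ⟨A, hA, fun t => m t.obj.hom t.property, fun t => ?_, fun {t t'} φ => ?_⟩
    · exact (isHomLift_iff t.obj.hom _ (c.w_obj t) hA).2 (hm t.obj.hom t.property)
    · exact hmt φ.hom.left t.obj.hom t.property t'.obj.hom t'.property (Over.w φ.hom)

end GrothLib.SpQuot
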