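import Groth.Agent.Lib.SpQuot.TorsorSpace
import Groth.Agent.Lib.AlgSt.RepBy
import Groth.Agent.Lib.FibCat.FibGrpd
import Groth.Agent.Lib.FibCat.Fp
import Groth.Agent.Lib.FibCat.Yoneda

/-!
# The fibres of `X ⟶ [X/G]` are the torsors
-/

set_option backward.isDefEq.respectTransparency false
set_option backward.isDefEq.respectTransparency.types false

universe u

open CategoryTheory CategoryTheory.Limits MonoidalCategory CartesianMonoidalCategory MonObj GrpObj AlgebraicGeometry
open Opposite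

namespace GrothLib.SpQuot

open _root_.AlgSp _root_.AlgSt

variable {S : Scheme.{u}} {B : Sp S} {G : Over B} [GrpObj G] {X : Over B} {aX : GAction G X}

local notation "qMap" => spQuotMap Scheme.fppfPrecoverage G

theorem unit_orbitMap {P : Over B} (a : GAction G P) {Z : Over B} (σ : Z ⟶ P) :
    lift 1 (𝟙 Z) ≫ orbitMap a σ = σ := by
  rw [orbitMap_eq, comp_gm, lift_fst, lift_snd_assoc, Category.id_comp, one_gm]

/-- The point of a section of a torsor. -/
noncomputable abbrev ptX (A : SpQuotObj Scheme.fppfPrecoverage G aX) (a : (ofSp A.P.left).obj) :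
    (yon S).obj a.base ⟶ A.P.left := ((J S).uliftYonedaEquiv).symm a.sec

theorem ptX_comp (A : SpQuotObj Scheme.fppfPrecoverage G aX) {a a' : (ofSp A.P.left).obj} (m : a ⟶ a') :
    (yon S).map m.hom ≫ ptX A a' = ptX A a :=
  secYon_comp (X := A.P) m

/-- The image in `X` of a section of a torsor. -/
noncomputable abbrev imgX (A : SpQuotObj Scheme.fppfPrecoverage G aX) (a : (ofSp A.P.left).obj) :
    (ofSp X.left).obj :=
  (ofSpMap A.φ.left).obj a

theorem secYon_imgX (A : SpQuotObj Scheme.fppfPrecoverage G aX) (a : (ofSp A.P.left).obj) :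
    secYon (imgX A a) = ptX A a ≫ A.φ.left := by
  apply (J S).uliftYonedaEquiv.injective
  rw [GrothendieckTopology.uliftYonedaEquiv_comp, Equiv.apply_symm_apply]
  exact congrArg (A.φ.left.hom.app (op a.base)) (Equiv.apply_symm_apply _ _).symm

noncomputable abbrev arrT (A : SpQuotObj Scheme.fppfPrecoverage G aX) (a : (ofSp A.P.left).obj) :
    a.base ⟶ A.base :=
  (yon S).preimage (ptX A a ≫ A.π.left)

theorem arrT_comp (A : SpQuotObj Scheme.fppfPrecoverage G aX) {a a' : (ofSp A.P.left).obj} (m : a ⟶ a') :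
    m.hom ≫ arrT A a' = arrT A a := by
  apply (yon S).map_injective
  rw [Functor.map_comp, Functor.map_preimage, Functor.map_preimage, ← Category.assoc, ptX_comp]

/-- A section of a torsor over `B`. -/
noncomputable def sigma (A : SpQuotObj Scheme.fppfPrecoverage G aX) (a : (ofSp A.P.left).obj) :
    Over.mk (secYon (imgX A a) ≫ X.hom) ⟶ A.P :=
  Over.homMk (ptX A a) (by
    rw [secYon_imgX, Category.assoc, Over.w A.φ]
    rfl)

/-- The morphism from a trivial torsor given by a section. -/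
noncomputable def orbitHom (A : SpQuotObj Scheme.fppfPrecoverage G aX) (a : (ofSp A.P.left).obj) :
    (qMap aX).obj (imgX A a) ⟶ A :=
  mkHom (A := (qMap aX).obj (imgX A a)) (arrT A a)
    (by
      rw [Functor.map_preimage, Category.assoc]
      refine (congrArg (ptX A a ≫ ·) (Over.w A.π)).trans ?_
      exact Over.w (sigma A a))
    (orbitMap A.act (sigma A a))
    (isPullback_orbitMap A (sigma A a) (arrT A a) ((yon S).map_preimage _).symm).w
    (orbitMap_eqv A.act _)
    (by
      rw [orbitMap, Category.assoc, A.eqv, ← MonoidalCategory.whiskerLeft_comp_assoc,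
        show sigma A a ≫ A.φ = secOver (imgX A a) from by ext1; exact (secYon_imgX A a).symm]
      rfl)

theorem map_orbitHom (A : SpQuotObj Scheme.fppfPrecoverage G aX) {a a' : (ofSp A.P.left).obj} (m : a ⟶ a') :
    (qMap aX).map ((ofSpMap A.φ.left).map m) ≫ orbitHom A a' = orbitHom A a := by
  refine SpQuotObj.hom_ext (arrT_comp A m) ?_
  change (G ◁ _) ≫ orbitMap A.act (sigma A a') = orbitMap A.act (sigma A a)
  rw [orbitMap, ← MonoidalCategory.whiskerLeft_comp_assoc, orbitMap]
  congr 2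
  ext1
  exact ptX_comp A m

theorem exists_orbitHom (A : SpQuotObj Scheme.fppfPrecoverage G aX) (b : (ofSp X.left).obj)
    (ψ : (qMap aX).obj b ⟶ A) :
    ∃ (a : (ofSp A.P.left).obj) (e : imgX A a = b), arrT A a = eqToHom (congrArg (·.base) e) ≫ ψ.base ∧
      (qMap aX).map (eqToHom e) ≫ ψ = orbitHom A a := by
  obtain ⟨V, s⟩ := b
  let β : (yon S).obj V ⟶ B := secYon (X := X) ⟨V, s⟩ ≫ X.hom
  let σ : Over.mk β ⟶ A.P := lift 1 (𝟙 _) ≫ ψ.top
  let a : (ofSp A.P.left).obj := ⟨V, (J S).uliftYonedaEquiv σ.left⟩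
  have hp : ptX A a = σ.left := Equiv.symm_apply_apply _ _
  have hφ : σ ≫ A.φ = secOver (X := X) ⟨V, s⟩ := by
    have h1 : ψ.top ≫ A.φ = (G ◁ secOver (X := X) ⟨V, s⟩) ≫ aX.act := ψ.wφ
    simp only [σ, Category.assoc, h1]
    rw [← Category.assoc, show lift (1 : Over.mk β ⟶ G) (𝟙 _) ≫ (G ◁ secOver (X := X) ⟨V, s⟩) =
      lift 1 (secOver (X := X) ⟨V, s⟩) from by apply CartesianMonoidalCategory.hom_ext <;> simp]
    exact one_gm aX _
  have he : imgX A a = ⟨V, s⟩ := by
    refine congrArg (Stk.EltObj.mk V) ?_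
    have h2 := congrArg CommaMorphism.left hφ
    simp only [Over.comp_left] at h2
    have h3 : (J S).uliftYonedaEquiv (σ.left ≫ A.φ.left) = s := by
      rw [h2]; exact Equiv.apply_symm_apply _ _
    rw [GrothendieckTopology.uliftYonedaEquiv_comp] at h3
    exact h3
  have hb : arrT A a = ψ.base := by
    apply (yon S).map_injective
    rw [Functor.map_preimage, hp]
    simp only [σ, Over.comp_left, Category.assoc]
    rw [hom_comm_left ψ]
    change _ ≫ (snd G (Over.mk β)).left ≫ _ = _
    rw [← Category.assoc, ← Over.comp_left, lift_snd, Over.id_left]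
    exact Category.id_comp _
  have haux : ∀ (b : (ofSp X.left).obj) (e : imgX A a = b) (ψ : (qMap aX).obj b ⟶ A)
      (ψ₀ : (qMap aX).obj (imgX A a) ⟶ A), (qMap aX).map (eqToHom e) ≫ ψ = ψ₀ ↔
        ∀ (ψ' : (qMap aX).obj (imgX A a) ⟶ A), HEq ψ' ψ → ψ' = ψ₀ := by
    intro b e ψ ψ₀
    subst e
    rw [eqToHom_refl, (qMap aX).map_id, Category.id_comp]
    exact ⟨fun h ψ' h' => (eq_of_heq h').trans h, fun h => h ψ HEq.rfl⟩
  refine ⟨a, he, hb.trans (Category.id_comp _).symm, ?_⟩
  have hbase : ((qMap aX).map (eqToHom he) ≫ ψ).base = ψ.base := by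
    change (eqToHom he : imgX A a ⟶ ⟨V, s⟩).hom ≫ ψ.base = ψ.base
    have : (eqToHom he : imgX A a ⟶ ⟨V, s⟩).hom = 𝟙 V :=
      (eqToHom_map (Stk.EltObj.forget X.left.obj) he).trans (eqToHom_refl _ _)
    rw [this]; exact Category.id_comp _
  refine SpQuotObj.hom_ext (hbase.trans hb.symm) ?_
  change (G ◁ _) ≫ ψ.top = orbitMap A.act (sigma A a)
  have htop : ψ.top = orbitMap A.act σ := by
    rw [orbitMap_eq]
    simp only [σ]
    rw [← Category.assoc, ← gm_comp (spLeftMul G (Over.mk β)) ψ.eqv]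
    have : gm (spLeftMul G (Over.mk β)) (fst G (Over.mk β)) (snd G (Over.mk β) ≫ lift 1 (𝟙 _)) = 𝟙 _ := by
      rw [gm, spLeftMul]
      apply CartesianMonoidalCategory.hom_ext
      · simp [comp_mul, Hom.one_def]
      · simp
    rw [this, Category.id_comp]
  rw [htop, orbitMap, ← MonoidalCategory.whiskerLeft_comp_assoc, orbitMap]
  congr 2
  ext1
  change (yon S).map (eqToHom he : imgX A a ⟶ ⟨V, s⟩).hom ≫ σ.left = ptX A a
  have : (eqToHom he : imgX A a ⟶ ⟨V, s⟩).hom = 𝟙 V :=
    (eqToHom_map (Stk.EltObj.forget X.left.obj) he).trans (eqToHom_refl _ _)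
  rw [this]
  exact ((congrArg (· ≫ σ.left) ((yon S).map_id V)).trans (Category.id_comp _)).trans hp.symm

theorem orbitHom_top_injective (A : SpQuotObj Scheme.fppfPrecoverage G aX) {a : (ofSp A.P.left).obj}
    {σ σ' : Over.mk (secYon (imgX A a) ≫ X.hom) ⟶ A.P} (h : orbitMap A.act σ = orbitMap A.act σ') : σ = σ' := by
  rw [← unit_orbitMap A.act σ, h, unit_orbitMap]

/-- The fibre of `X ⟶ [X/G]` at an object is its torsor. -/
theorem exists_fp_spQuotMap {T : Over S} (y : FibCat.overCat T ⥤ᵇ SpQuotSt Scheme.fppfPrecoverage G aX)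
    (A : SpQuotObj Scheme.fppfPrecoverage G aX) (hA : A.base = T)
    (κ : ∀ z : (FibCat.overCat T).obj, y.obj z ⟶ A)
    (hκb : ∀ z, (κ z).base ≫ eqToHom hA = eqToHom (y.w_obj z) ≫ z.hom)
    (hκ : ∀ {z z' : (FibCat.overCat T).obj} (m : z ⟶ z'), y.map m ≫ κ z' = κ z) :
    ∃ e : ofSp A.P.left ⥤ᵇ FibCat.fp y (qMap aX), FibCat.IsEquivOver e ∧
      spMapOfOver (BasedFunctor.comp e (FibCat.fpFst y (qMap aX))) =
        A.π.left ≫ (yon S).map (eqToHom hA) := by
  subst hA
  simp only [eqToHom_refl, Category.comp_id] at hκb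
  have hG := isFibGrpd (aX := aX)
  have hl : ∀ a : (ofSp A.P.left).obj, ∃ i : y.obj (Over.mk (arrT A a)) ≅ (qMap aX).obj (imgX A a),
      i.hom.base = eqToHom (y.w_obj (Over.mk (arrT A a))) ∧ i.hom ≫ orbitHom A a = κ _ := fun a => by
    obtain ⟨l, hl1, hl2⟩ := exists_factor (orbitHom A a) (κ (Over.mk (arrT A a)))
      (eqToHom (y.w_obj (Over.mk (arrT A a)))) (hκb _).symm
    have : IsIso ((SpQuotSt Scheme.fppfPrecoverage G aX).p.map l) := by
      change IsIso l.base; rw [hl1]; infer_instance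
    have := (GrothLib.FibCat.IsFibGrpd.isIso_iff hG l).2 inferInstance
    exact ⟨asIso l, hl1, hl2⟩
  choose i hib hi using hl
  let obj : (ofSp A.P.left).obj → (FibCat.fp y (qMap aX)).obj := fun a =>
    GrothLib.FibCat.Fp.mk (Over.mk (arrT A a)) (imgX A a) (i a)
      ((isHomLift_iff _ _ (y.w_obj (Over.mk (arrT A a))) rfl).2 (by
        simp only [eqToHom_refl, Category.comp_id]; exact (hib a).trans (Category.comp_id _).symm))
  have hw : ∀ {a a' : (ofSp A.P.left).obj} (m : a ⟶ a'),
      y.map (Over.homMk m.hom (arrT_comp A m) : Over.mk (arrT A a) ⟶ Over.mk (arrT A a')) ≫ (i a').hom =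
        (i a).hom ≫ (qMap aX).map ((ofSpMap A.φ.left).map m) := fun {a a'} m => by
    refine GrothLib.FibCat.IsFibGrpd.hom_ext' hG (orbitHom A a') ?_ ?_
    · change (y.map _).base ≫ (i a').hom.base = (i a).hom.base ≫ m.hom
      rw [hib, hib]
      have h1 : (SpQuotSt Scheme.fppfPrecoverage G aX).p.IsHomLift m.hom
          (y.map (Over.homMk m.hom (arrT_comp A m) : Over.mk (arrT A a) ⟶ Over.mk (arrT A a'))) :=
        have : (FibCat.overCat A.base).p.IsHomLift m.hom
            (Over.homMk m.hom (arrT_comp A m) : Over.mk (arrT A a) ⟶ Over.mk (arrT A a')) :=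
          IsHomLift.map (FibCat.overCat A.base).p (Over.homMk m.hom (arrT_comp A m) : Over.mk (arrT A a) ⟶ Over.mk (arrT A a'))
        BasedFunctor.preserves_isHomLift y _ _
      exact (isHomLift_iff _ _ _ _).1 h1
    · rw [Category.assoc, hi, Category.assoc, map_orbitHom, hi, hκ]
  let e : ofSp A.P.left ⥤ᵇ FibCat.fp y (qMap aX) :=
    { toFunctor :=
        { obj := obj
          map := fun {a a'} m => GrothLib.FibCat.Fp.homMk (a := obj a) (b := obj a')
            (Over.homMk m.hom (arrT_comp A m)) ((ofSpMap A.φ.left).map m) (hw m)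
          map_id := fun a => GrothLib.FibCat.Fp.hom_ext (Over.OverMorphism.ext rfl) ((ofSpMap A.φ.left).map_id a)
          map_comp := fun m m' => GrothLib.FibCat.Fp.hom_ext (Over.OverMorphism.ext rfl)
            ((ofSpMap A.φ.left).map_comp m m') }
      w := rfl }
  refine ⟨e, GrothLib.FibCat.isEquivOver_iff e |>.2 ⟨⟨fun {a a'} f => ?_⟩, ⟨fun {a a' m m'} hm => ?_⟩,
    fun w => ?_⟩, ?_⟩
  · have hw' : y.map f.hom.fst ≫ (i a').hom = (i a).hom ≫ (qMap aX).map f.hom.snd := f.hom.w
    have h0 : (qMap aX).map f.hom.snd ≫ orbitHom A a' = orbitHom A a := by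
      rw [← cancel_epi (i a).hom, ← reassoc_of% hw', hi a', hi a]
      exact hκ f.hom.fst
    have hlv : f.hom.snd.hom = f.hom.fst.left := by
      have hl := GrothLib.FibCat.Fp.isHomLift_snd f _ (IsHomLift.map (FibCat.fp y (qMap aX)).p f)
      exact (IsHomLift.fac' (ofSp X.left).p ((FibCat.fp y (qMap aX)).p.map f) f.hom.snd).trans
        ((Category.id_comp _).trans (Category.comp_id _))
    have hpt : (yon S).map f.hom.fst.left ≫ ptX A a' = ptX A a := by
      have h1 := congrArg SpQuotObj.Hom.top h0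
      change (G ◁ _) ≫ orbitMap A.act (sigma A a') = orbitMap A.act (sigma A a) at h1
      rw [orbitMap, ← MonoidalCategory.whiskerLeft_comp_assoc] at h1
      have h2 := congrArg CommaMorphism.left (orbitHom_top_injective A h1)
      simp only [Over.comp_left] at h2
      rw [← hlv]
      exact h2
    let m : a ⟶ a' := ⟨f.hom.fst.left, by
      have h3 := congrArg ((J S).uliftYonedaEquiv) hpt
      rw [sec_comp] at h3
      exact ((congrArg (A.P.left.obj.map f.hom.fst.left.op) (Equiv.apply_symm_apply _ a'.sec)).symm.trans h3).trans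
        (Equiv.apply_symm_apply _ a.sec)⟩
    exact ⟨m, GrothLib.FibCat.Fp.hom_ext (Over.OverMorphism.ext rfl) (Stk.EltObj.hom_ext hlv.symm)⟩
  · exact Stk.EltObj.hom_ext (congrArg (fun t : obj a ⟶ obj a' => t.hom.fst.left) hm)
  · obtain ⟨⟨z, b, j⟩, hj⟩ := w
    change (SpQuotSt Scheme.fppfPrecoverage G aX).p.IsHomLift (𝟙 z.left) j.hom at hj
    have hbz : b.base = z.left :=
      (@IsHomLift.codomain_eq _ _ _ _ (SpQuotSt Scheme.fppfPrecoverage G aX).p _ _ _ _ (𝟙 z.left) j.hom hj)
    obtain ⟨a, he, hab, hψ⟩ := exists_orbitHom A b (j.inv ≫ κ z)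
    have hjb : j.hom.base ≫ eqToHom hbz = eqToHom (y.w_obj z) := by
      have := (isHomLift_iff (𝟙 z.left) j.hom (y.w_obj z) hbz).1 hj
      rwa [Category.comp_id] at this
    have hjinv : j.inv.base = eqToHom (hbz.trans (y.w_obj z).symm) := by
      have h1 : j.inv.base ≫ j.hom.base = 𝟙 _ := congrArg SpQuotObj.Hom.base j.inv_hom_id
      have h2 : j.hom.base = eqToHom ((y.w_obj z).trans hbz.symm) := by
        rw [← cancel_mono (eqToHom hbz), hjb, eqToHom_trans]
      rw [h2] at h1
      rw [← cancel_mono (eqToHom ((y.w_obj z).trans hbz.symm)), eqToHom_trans]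
      exact h1
    have hzw : arrT A a = eqToHom ((congrArg (·.base) he).trans hbz) ≫ z.hom := by
      rw [hab]
      change _ ≫ j.inv.base ≫ (κ z).base = _
      rw [hjinv, hκb, ← Category.assoc, ← Category.assoc, eqToHom_trans, eqToHom_trans]
    let zf : Over.mk (arrT A a) ≅ z := Over.isoMk (eqToIso ((congrArg (·.base) he).trans hbz)) hzw.symm
    refine ⟨a, GrothLib.FibCat.Fp.isoMk (a := obj a) (b := ⟨⟨z, b, j⟩, hj⟩) zf (eqToIso he) ?_, ?_⟩
    · change y.map zf.hom ≫ j.hom = (i a).hom ≫ (qMap aX).map (eqToHom he)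
      refine GrothLib.FibCat.IsFibGrpd.hom_ext' hG (j.inv ≫ κ z) ?_ ?_
      · change (y.map zf.hom).base ≫ j.hom.base = (i a).hom.base ≫ (eqToHom he : imgX A a ⟶ b).hom
        rw [← cancel_mono (eqToHom hbz), Category.assoc, hjb, hib, Category.assoc]
        have h1 : (SpQuotSt Scheme.fppfPrecoverage G aX).p.IsHomLift zf.hom.left (y.map zf.hom) :=
          have : (FibCat.overCat A.base).p.IsHomLift zf.hom.left zf.hom :=
            IsHomLift.map (FibCat.overCat A.base).p zf.hom
          BasedFunctor.preserves_isHomLift y _ _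
        rw [(isHomLift_iff _ _ (y.w_obj _) (y.w_obj z)).1 h1]
        congr 1
        rw [show (eqToHom he : imgX A a ⟶ b).hom = eqToHom (congrArg (·.base) he) from
          eqToHom_map (Stk.EltObj.forget X.left.obj) he, eqToHom_trans]
        rfl
      · rw [Category.assoc, Iso.hom_inv_id_assoc, hκ, Category.assoc, hψ, hi]
    · refine (GrothLib.FibCat.Fp.isHomLift_iff _ _).2 ?_
      refine IsHomLift.of_fac' (FibCat.overCat A.base).p (𝟙 z.left) zf.hom
        ((congrArg (·.base) he).trans hbz) rfl ?_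
      change zf.hom.left = _
      simp [zf]
  · refine GrothLib.AlgSp.hom_ext fun V p => ?_
    rw [eqToHom_refl, (yon S).map_id]
    let a : (ofSp A.P.left).obj := ⟨V, (J S).uliftYonedaEquiv p⟩
    have hp : ptX A a = p := Equiv.symm_apply_apply _ _
    have hπ : p ≫ A.π.left = (yon S).map (arrT A a) := by
      rw [Functor.map_preimage, hp]
    refine Eq.trans ?_ (hπ.symm.trans (congrArg (p ≫ ·) (Category.comp_id _).symm))
    apply (J S).uliftYonedaEquiv.injective
    rw [GrothendieckTopology.uliftYonedaEquiv_comp]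
    refine Eq.trans ?_ (GrothendieckTopology.uliftYonedaEquiv_uliftYoneda_map (J S) (arrT A a)).symm
    change (⟨secHom (BasedFunctor.comp e (FibCat.fpFst y (qMap aX))) a⟩ : ULift (V ⟶ A.base)) = ⟨arrT A a⟩
    exact congrArg ULift.up (Category.id_comp _)

end GrothLib.SpQuot
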