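import Groth.Agent.Lib.SpQuot.Torsor
import Groth.Prelude.Def_FibCat2
import Groth.Agent.Lib.FibCat.Basic

/-!
# The quotient category with sheaf torsors is fibred in groupoids
-/

set_option backward.isDefEq.respectTransparency false
set_option backward.isDefEq.respectTransparency.types false

universe u

open CategoryTheory CategoryTheory.Limits MonoidalCategory CartesianMonoidalCategory MonObj GrpObj AlgebraicGeometry

namespace GrothLib.SpQuot

open _root_.AlgSp AlgSt

variable {S : Scheme.{u}} {B : Sp S} {G : Over B} [GrpObj G] {X : Over B} {aX : GAction G X}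


theorem secSieve_mem (A : SpQuotObj Scheme.fppfPrecoverage G aX) : secSieve A.π.left ∈ J S A.base := (hasSecLoc_fppf_iff _).1 A.loc

theorem hom_comm_left {A A' : SpQuotObj Scheme.fppfPrecoverage G aX} (φ : A ⟶ A') :
    φ.top.left ≫ A'.π.left = A.π.left ≫ (yon S).map φ.base :=
  congrArg CommaMorphism.left φ.cart.w

theorem isPullback_left {A A' : SpQuotObj Scheme.fppfPrecoverage G aX} (φ : A ⟶ A') :
    IsPullback φ.top.left A.π.left A'.π.left ((yon S).map φ.base) :=
  φ.cart.map (Over.forget B)

theorem gm_top {A A' : SpQuotObj Scheme.fppfPrecoverage G aX} (φ : A ⟶ A') {Z : Over B} (g : Z ⟶ G) (x : Z ⟶ A.P) :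
    gm A.act g x ≫ φ.top = gm A'.act g (x ≫ φ.top) :=
  gm_comp A.act φ.eqv g x

/-- An equivariant map compatible with the maps to `X` over a morphism of schemes is a morphism. -/
def mkHom {A A' : SpQuotObj Scheme.fppfPrecoverage G aX} (f : A.base ⟶ A'.base) (w : (yon S).map f ≫ A'.b = A.b) (top : A.P ⟶ A'.P)
    (comm : top.left ≫ A'.π.left = A.π.left ≫ (yon S).map f)
    (eqv : A.act.act ≫ top = (G ◁ top) ≫ A'.act.act) (wφ : top ≫ A'.φ = A.φ) : A ⟶ A' where
  base := f
  wb := w
  top := top
  eqv := eqv
  cart := isPullback_of_eqv A.cart A'.cart (secSieve_mem A) f w top (by ext1; exact comm) eqv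
  wφ := wφ

@[simp] theorem mkHom_base {A A' : SpQuotObj Scheme.fppfPrecoverage G aX} (f : A.base ⟶ A'.base) (w : (yon S).map f ≫ A'.b = A.b)
    (top : A.P ⟶ A'.P) (comm : top.left ≫ A'.π.left = A.π.left ≫ (yon S).map f)
    (eqv : A.act.act ≫ top = (G ◁ top) ≫ A'.act.act) (wφ : top ≫ A'.φ = A.φ) :
    (mkHom f w top comm eqv wφ).base = f := rfl

@[simp] theorem mkHom_top {A A' : SpQuotObj Scheme.fppfPrecoverage G aX} (f : A.base ⟶ A'.base) (w : (yon S).map f ≫ A'.b = A.b)
    (top : A.P ⟶ A'.P) (comm : top.left ≫ A'.π.left = A.π.left ≫ (yon S).map f)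
    (eqv : A.act.act ≫ top = (G ◁ top) ≫ A'.act.act) (wφ : top ≫ A'.φ = A.φ) :
    (mkHom f w top comm eqv wφ).top = top := rfl

section Restrict

variable (A : SpQuotObj Scheme.fppfPrecoverage G aX) {T' : Over S} (f : T' ⟶ A.base)

noncomputable abbrev restrP : Over B := pullback A.π (bHom f (rfl : (yon S).map f ≫ A.b = (yon S).map f ≫ A.b))

noncomputable abbrev restrAct : GAction G (restrP A f) where
  act := pullback.lift ((G ◁ pullback.fst _ _) ≫ A.act.act) (snd G _ ≫ pullback.snd _ _) (by
    rw [Category.assoc, A.cart.w, whiskerLeft_snd_assoc, pullback.condition, Category.assoc])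
  one_act := by
    apply pullback.hom_ext
    · rw [Category.assoc, pullback.lift_fst, ← whisker_exchange_assoc, A.act.one_act, leftUnitor_naturality]
    · rw [Category.assoc, pullback.lift_snd, whiskerRight_snd_assoc, leftUnitor_hom]
  mul_act := by
    apply pullback.hom_ext
    · simp only [Category.assoc, pullback.lift_fst]
      rw [← whisker_exchange_assoc, A.act.mul_act, ← MonoidalCategory.whiskerLeft_comp_assoc, pullback.lift_fst,
        MonoidalCategory.whiskerLeft_comp_assoc]
      simp
    · simp only [Category.assoc, pullback.lift_snd, whiskerRight_snd_assoc, whiskerLeft_snd_assoc]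
      rw [associator_hom_snd_snd_assoc]

/-- The pullback of an object along a morphism of schemes. -/
noncomputable def restr : SpQuotObj Scheme.fppfPrecoverage G aX where
  base := T'
  b := (yon S).map f ≫ A.b
  P := restrP A f
  act := restrAct A f
  π := pullback.snd _ _
  cart := by
    refine IsPullback.of_right (h₁₂ := pullback.fst _ _) (v₁₃ := A.π) (h₂₂ := bHom f rfl) ?_
      (pullback.lift_snd _ _ _) (IsPullback.of_hasPullback _ _)
    rw [pullback.lift_fst, ← pullback.condition]
    exact (isPullback_whiskerLeft' _).paste_horiz A.cart |>.flip.flip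
  loc := by
    rw [hasSecLoc_fppf_iff]
    exact secSieve_mem_of_isPullback ((IsPullback.of_hasPullback A.π
      (bHom f (rfl : (yon S).map f ≫ A.b = (yon S).map f ≫ A.b))).map (Over.forget B)) (secSieve_mem A)
  φ := pullback.fst _ _ ≫ A.φ
  eqv := by
    rw [pullback.lift_fst_assoc, Category.assoc, A.eqv, MonoidalCategory.whiskerLeft_comp_assoc]

noncomputable def restrHom : restr A f ⟶ A where
  base := f
  wb := rfl
  top := pullback.fst _ _
  eqv := pullback.lift_fst _ _ _
  cart := IsPullback.of_hasPullback _ _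
  wφ := rfl

theorem restrHom_base : (restrHom A f).base = f := rfl

end Restrict

theorem isHomLift_iff {R R' : Over S} (f : R ⟶ R') {A A' : SpQuotObj Scheme.fppfPrecoverage G aX} (φ : A ⟶ A') (h : A.base = R) (h' : A'.base = R') :
    (SpQuotSt Scheme.fppfPrecoverage G aX).p.IsHomLift f φ ↔ φ.base ≫ eqToHom h' = eqToHom h ≫ f := by
  subst h h'
  simp only [eqToHom_refl, Category.comp_id, Category.id_comp]
  constructor
  · intro hl
    exact (IsHomLift.eq_of_isHomLift (SpQuotSt Scheme.fppfPrecoverage G aX).p f φ).symm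
  · rintro rfl
    exact IsHomLift.map (SpQuotSt Scheme.fppfPrecoverage G aX).p φ

theorem isFibGrpd : FibCat.IsFibGrpd (SpQuotSt Scheme.fppfPrecoverage G aX).p where
  exists_lift {x V} f := ⟨restr x f, restrHom x f, IsHomLift.map (SpQuotSt Scheme.fppfPrecoverage G aX).p (restrHom x f)⟩
  isStronglyCartesian {y x} φ :=
    { toIsHomLift := IsHomLift.map _ φ
      universal_property' := fun {a} g ψ hψ => by
        have := hψ
        have eb : g ≫ φ.base = ψ.base :=
          IsHomLift.eq_of_isHomLift (SpQuotSt Scheme.fppfPrecoverage G aX).p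
            (g ≫ (SpQuotSt Scheme.fppfPrecoverage G aX).p.map φ) ψ
        have wb : (yon S).map g ≫ y.b = a.b := by
          rw [← ψ.wb, ← φ.wb, ← eb, Functor.map_comp, Category.assoc]
        have hc : ψ.top ≫ x.π = (a.π ≫ bHom g wb) ≫ bHom φ.base φ.wb := by
          rw [ψ.cart.w, Category.assoc, ← bHom_comp g φ.base wb φ.wb (by rw [eb]; exact ψ.wb)]
          congr 1
          ext1
          exact congrArg ((yon S).map) eb.symm
        let top := φ.cart.lift ψ.top (a.π ≫ bHom g wb) hc
        have ht1 : top ≫ φ.top = ψ.top := φ.cart.lift_fst _ _ _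
        have ht2 : top ≫ y.π = a.π ≫ bHom g wb := φ.cart.lift_snd _ _ _
        have eqv : a.act.act ≫ top = (G ◁ top) ≫ y.act.act := by
          refine φ.cart.hom_ext ?_ ?_
          · rw [Category.assoc, ht1, ψ.eqv, Category.assoc, φ.eqv, ← ht1,
              MonoidalCategory.whiskerLeft_comp_assoc]
          · rw [Category.assoc, ht2, ← Category.assoc, a.cart.w, Category.assoc, ← ht2, Category.assoc,
              y.cart.w, whiskerLeft_snd_assoc]
        let χ : a ⟶ y := mkHom g wb top (congrArg CommaMorphism.left ht2) eqv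
          (by rw [← φ.wφ, reassoc_of% ht1, ψ.wφ])
        refine ⟨χ, ⟨IsHomLift.map (SpQuotSt Scheme.fppfPrecoverage G aX).p χ, SpQuotObj.hom_ext eb ht1⟩, ?_⟩
        rintro χ' ⟨h1, h2⟩
        have hb : χ'.base = g :=
          (IsHomLift.eq_of_isHomLift (SpQuotSt Scheme.fppfPrecoverage G aX).p g χ').symm
        refine SpQuotObj.hom_ext hb (φ.cart.hom_ext ?_ ?_)
        · rw [show χ.top = top from rfl, ht1, ← h2]
          rfl
        · rw [show χ.top = top from rfl, ht2, χ'.cart.w]
          congr 1
          ext1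
          exact congrArg ((yon S).map) hb }

end GrothLib.SpQuot
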