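import Groth.Agent.Lib.SpQuot.Compare
import Groth.Agent.Lib.AlgSp.AffineDescent

/-!
# Torsors under affine group schemes are schemes
-/

set_option backward.isDefEq.respectTransparency false
set_option backward.isDefEq.respectTransparency.types false

universe u

open CategoryTheory CategoryTheory.Limits MonoidalCategory CartesianMonoidalCategory MonObj GrpObj AlgebraicGeometry
open Opposite

namespace GrothLib.SpQuot

open _root_.AlgSp _root_.AlgSt

attribute [local instance] grpYon

variable {S : Scheme.{u}}

/-- A morphism to a scheme with local sections is locally surjective. -/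
theorem isLocallySurjective_of_secSieve {T : Over S} {P : Sp S} (π : P ⟶ (yon S).obj T)
    (h : secSieve π ∈ J S T) : Sheaf.IsLocallySurjective π := by
  refine ⟨fun {U} s => ?_⟩
  refine GrothendieckTopology.superset_covering _ ?_ (GrothendieckTopology.pullback_stable _ s.down h)
  rintro W g ⟨p, hp⟩
  refine ⟨(J S).uliftYonedaEquiv p, ?_⟩
  have h1 := congrArg ((J S).uliftYonedaEquiv) hp
  rw [GrothendieckTopology.uliftYonedaEquiv_comp] at h1
  exact h1.trans (GrothendieckTopology.uliftYonedaEquiv_uliftYoneda_map (J S) (g ≫ s.down))

variable {G : Over S} [GrpObj G] {X : Over S} {aX : AlgGrp.Action G X}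

/-- A torsor under an affine group scheme is a scheme. -/
theorem exists_yon_iso_torsor (hG : IsAffineHom G.hom)
    (A : SpQuotObj Scheme.fppfPrecoverage ((overYon S).obj G) (yonAct aX)) :
    ∃ P₀ : Over S, Nonempty ((yon S).obj P₀ ≅ A.P.left) := by
  have hs := isLocallySurjective_of_secSieve A.π.left (secSieve_mem A)
  have hq : RepWith @IsAffineHom (snd ((overYon S).obj G) A.P).left := by
    have h1 : RepWith @IsAffineHom ((overYon S).obj G).hom := by
      refine (MorphismProperty.arrow_mk_iso_iff _ ?_).1
        ((repWith_yon_map_iff (S := S) @IsAffineHom (Over.homMk (U := G) (V := Over.mk (𝟙 S)) G.hom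
          (by simp))).2 hG)
      exact Arrow.isoMk (Iso.refl _) (Iso.refl _) (topSp_hom_ext _ _)
    exact MorphismProperty.of_isPullback (IsPullback.of_hasPullback ((overYon S).obj G).hom A.P.hom) h1
  have hr : Representable A.π.left :=
    GrothLib.AlgSp.representable_of_base_isAffineHom A.π.left (A.cart.map (Over.forget _)) hq
  have := (hr.isPullback (𝟙 _)).isIso_fst_of_isIso
  exact ⟨hr.pullback (𝟙 _), ⟨(asIso (hr.fst (𝟙 _)))⟩⟩

end GrothLib.SpQuot
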