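import Groth.Agent.Lib.SpQuot.CatModuli
import Groth.Agent.Lib.AlgSt.DiagPoints
import Groth.Agent.Lib.SpQuot.CompareMap
import Groth.Agent.Lib.FibCat.FiberFunctor

/-!
# Geometric points of a quotient stack
-/

set_option backward.isDefEq.respectTransparency false
set_option backward.isDefEq.respectTransparency.types false

universe u

open CategoryTheory CategoryTheory.Limits MonoidalCategory CartesianMonoidalCategory MonObj GrpObj AlgebraicGeometry
open Opposite

namespace GrothLib.SpQuot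

open _root_.AlgSp _root_.AlgSt

attribute [local instance] grpYon

variable {S : Scheme.{u}} {G : Over S} [GrpObj G] {X : Over S} (aX : AlgGrp.Action G X)

/-- A point of a torsor gives a morphism from a trivial torsor. -/
theorem exists_quotMap_hom (A : QuotObj Scheme.fppfPrecoverage G aX) {V : Over S} (x : V ⟶ A.P) :
    ∃ ψ : (quotMap Scheme.fppfPrecoverage G aX).obj ⟨V, ⟨x ≫ A.φ⟩⟩ ⟶ A, ψ.base = x ≫ A.π := by
  let A' := (compare G X aX).obj A
  let b : (ofSp A'.P.left).obj := ⟨V, (J S).uliftYonedaEquiv ((yon S).map x)⟩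
  have hb : imgX A' b = ⟨V, ⟨x ≫ A.φ⟩⟩ := by
    refine congrArg (Stk.EltObj.mk V) ?_
    change ((yon S).map A.φ).hom.app (op V) ((J S).uliftYonedaEquiv ((yon S).map x)) = ⟨x ≫ A.φ⟩
    rw [← GrothendieckTopology.uliftYonedaEquiv_comp, ← Functor.map_comp]
    exact GrothendieckTopology.uliftYonedaEquiv_uliftYoneda_map (J S) (x ≫ A.φ)
  have : IsIso (trivHom aX (imgX A' b)) :=
    have := (isHomLift_iff (𝟙 (imgX A' b).base) (trivHom aX (imgX A' b)) rfl rfl).2 (by simp [trivHom]; rfl)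
    GrothLib.FibCat.IsFibGrpd.isIso_of_isHomLift_id (isFibGrpd (aX := yonAct aX)) (R := (imgX A' b).base) _
  let ψ : (quotMap Scheme.fppfPrecoverage G aX).obj (imgX A' b) ⟶ A :=
    (compare G X aX).toFunctor.preimage (inv (trivHom aX (imgX A' b)) ≫ orbitHom A' b)
  have hψ : ψ.base = x ≫ A.π := by
    have h1 : (inv (trivHom aX (imgX A' b)) ≫ orbitHom A' b).base = ψ.base :=
      congrArg SpQuotObj.Hom.base ((compare G X aX).toFunctor.map_preimage _).symm
    have h2 : (trivHom aX (imgX A' b) ≫ inv (trivHom aX (imgX A' b)) ≫ orbitHom A' b).base = (orbitHom A' b).base := by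
      rw [IsIso.hom_inv_id_assoc]
    refine ((h1.symm.trans (Category.id_comp _).symm).trans ((congrArg (· ≫ (inv (trivHom aX (imgX A' b)) ≫ orbitHom A' b).base)
      (trivHom_base aX (imgX A' b)).symm).trans h2)).trans ((yon S).map_injective ?_)
    change (yon S).map ((yon S).preimage (ptX A' b ≫ (yon S).map A.π)) = _
    rw [Functor.map_preimage, Functor.map_comp]
    exact congrArg (· ≫ (yon S).map A.π) (Equiv.symm_apply_apply _ _)
  have key : ∀ (a : (ofSch X).obj), imgX A' b = a →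
      ∃ (ψ' : (quotMap Scheme.fppfPrecoverage G aX).obj a ⟶ A), HEq ψ'.base ψ.base := fun a e => by
    subst e
    exact ⟨ψ, HEq.rfl⟩
  obtain ⟨ψ', hψ'⟩ := key _ hb
  exact ⟨ψ', (eq_of_heq hψ').trans hψ⟩

theorem isIso_of_base {A A' : QuotObj Scheme.fppfPrecoverage G aX} (ψ : A ⟶ A') [IsIso ψ.base] : IsIso ψ := by
  have : IsIso ((SpQuotSt Scheme.fppfPrecoverage ((overYon S).obj G) (yonAct aX)).p.map ((compare G X aX).map ψ)) :=
    ‹IsIso ψ.base›
  have := (GrothLib.FibCat.IsFibGrpd.isIso_iff (isFibGrpd (aX := yonAct aX)) ((compare G X aX).map ψ)).2 inferInstance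
  exact isIso_of_fully_faithful (compare G X aX).toFunctor ψ

/-- Torsors over algebraically closed fields are trivial. -/
theorem exists_section (hG : LocallyOfFinitePresentation G.hom) {Ω : Type u} [Field Ω] [IsAlgClosed Ω]
    {t : Spec (CommRingCat.of Ω) ⟶ S} (A : QuotObj Scheme.fppfPrecoverage G aX) (hA : A.base = Over.mk t) :
    ∃ x : A.base ⟶ A.P, x ≫ A.π = 𝟙 A.base := by
  obtain ⟨base, P, act, π, cart, loc, φ, eqv⟩ := A
  obtain rfl : base = Over.mk t := hA
  let A' := (compare G X aX).obj ⟨Over.mk t, P, act, π, cart, loc, φ, eqv⟩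
  have hlft : LocP @LocallyOfFiniteType A'.π.left :=
    GrothLib.AlgSp.locP_mono (Q := @LocallyOfFiniteType) (fun _ _ g (_ : LocallyOfFinitePresentation g) => inferInstance)
      (locP_torsor aX GrothLib.AlgSp.EtLocal.lfp hG A')
  have hne : Nonempty (AlgSp.Points A'.P.left) := by
    obtain ⟨p, -⟩ := isSurjectiveMor_torsor A' (AlgSp.Points.schemeHomeo (Over.mk t) (IsLocalRing.closedPoint Ω))
    exact ⟨p⟩
  obtain ⟨σ, hσ⟩ := GrothLib.AlgSt.exists_section_of_nonempty (IsAlgSpace.yon_obj P) ((yon S).map π) hlft hne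
  obtain ⟨x, rfl⟩ := (yon S).map_surjective σ
  exact ⟨x, (yon S).map_injective (((yon S).map_comp x π).trans (hσ.trans ((yon S).map_id _).symm))⟩

theorem fibSec_eq {Y : Over S} (f : X ⟶ Y) (π : QuotSt Scheme.fppfPrecoverage G aX ⥤ᵇ ofSch Y)
    (hπ : BasedFunctor.comp (quotMap Scheme.fppfPrecoverage G aX) π = ofSpMap ((yon S).map f))
    (A : QuotObj Scheme.fppfPrecoverage G aX) {x : A.base ⟶ A.P} (hx : x ≫ A.π = 𝟙 A.base) :
    fibSec π (⟨A, rfl⟩ : (QuotSt Scheme.fppfPrecoverage G aX).p.Fiber A.base) = ULift.up ((x ≫ A.φ) ≫ f) := by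
  have key : ∀ (u : (ofSch Y).obj) {T : Over S} (e : u.base = T),
      u = ⟨T, ((yon S).obj Y).obj.map (eqToHom e.symm).op u.sec⟩ := by
    rintro ⟨T, s⟩ T' (rfl : T = T')
    simp
  have hs : π.obj A = ⟨A.base, fibSec π (⟨A, rfl⟩ : (QuotSt Scheme.fppfPrecoverage G aX).p.Fiber A.base)⟩ :=
    key _ ((π.w_obj A).trans rfl)
  have h := sec_spec aX _ π hπ A hs x
  rw [hx, ← Functor.map_comp] at h
  have h2 := congrArg (J S).uliftYonedaEquiv h
  rw [GrothendieckTopology.uliftYonedaEquiv_uliftYoneda_map] at h2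
  refine Eq.trans ?_ h2
  refine ((Equiv.apply_symm_apply (J S).uliftYonedaEquiv _).symm).trans (congrArg (J S).uliftYonedaEquiv ?_)
  exact ((congrArg (· ≫ _) ((yon S).map_id A.base)).trans (Category.id_comp _)).symm

/-- A functor from a quotient stack to a geometric quotient is bijective on geometric points. -/
theorem geomPtBij_quotSt (hG : LocallyOfFinitePresentation G.hom) {Y : Over S} (f : X ⟶ Y)
    (horb : ∀ (Ω : Type u) [Field Ω] [IsAlgClosed Ω] (t : Spec (CommRingCat.of Ω) ⟶ S),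
      (∀ y : Over.mk t ⟶ Y, ∃ x : Over.mk t ⟶ X, x ≫ f = y) ∧
      (∀ x x' : Over.mk t ⟶ X, x ≫ f = x' ≫ f → ∃ g : Over.mk t ⟶ G, lift g x' ≫ aX.act = x))
    (π : QuotSt Scheme.fppfPrecoverage G aX ⥤ᵇ ofSch Y)
    (hπ : BasedFunctor.comp (quotMap Scheme.fppfPrecoverage G aX) π = ofSpMap ((yon S).map f)) :
    GeomPtBij π := by
  intro Ω _ _ t
  obtain ⟨h1, h2⟩ := horb Ω t
  refine ⟨fun m => ?_, fun a b hab => ?_⟩
  · obtain ⟨x, hx⟩ := h1 m.down
    let A := (quotMap Scheme.fppfPrecoverage G aX).obj ⟨Over.mk t, ⟨x⟩⟩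
    refine ⟨⟨A, rfl⟩, ?_⟩
    have hs : lift (1 : Over.mk t ⟶ G) (𝟙 (Over.mk t)) ≫ A.π = 𝟙 A.base := lift_snd _ _
    refine (fibSec_eq aX f π hπ A (x := lift 1 (𝟙 _)) hs).trans (congrArg ULift.up (Eq.trans ?_ hx))
    refine congrArg (· ≫ f) ?_
    change lift (1 : Over.mk t ⟶ G) (𝟙 _) ≫ (G ◁ x) ≫ aX.act = x
    rw [← Category.assoc, lift_whiskerLeft, Category.id_comp]
    change lift (1 : Over.mk t ⟶ G) x ≫ aX.act = x
    have h := aX.one_act
    rw [show lift (1 : Over.mk t ⟶ G) x = lift (toUnit _) x ≫ (η[G] ▷ X) by rw [lift_whiskerRight, Hom.one_def],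
      Category.assoc, h]
    simp
  · have hiso : ∀ (A : QuotObj Scheme.fppfPrecoverage G aX) (hA : A.base = Over.mk t),
        ∃ x : Over.mk t ⟶ X,
          fibSec π (⟨A, hA⟩ : (QuotSt Scheme.fppfPrecoverage G aX).p.Fiber (Over.mk t)) = ULift.up (x ≫ f) ∧
          ∀ (V : Over S) (_ : V = Over.mk t) (x' : V ⟶ X), HEq x' x →
            ∃ ψ : (quotMap Scheme.fppfPrecoverage G aX).obj ⟨V, ⟨x'⟩⟩ ⟶ A,
              IsIso ψ ∧ (QuotSt Scheme.fppfPrecoverage G aX).p.IsHomLift (𝟙 (Over.mk t)) ψ := by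
      intro A hA
      obtain ⟨s, hs⟩ := exists_section aX hG A hA
      revert s hs
      obtain ⟨base, P, act, π₀, cart, loc, φ, eqv⟩ := A
      obtain rfl : base = Over.mk t := hA
      intro s hs
      refine ⟨s ≫ φ, fibSec_eq aX f π hπ ⟨Over.mk t, P, act, π₀, cart, loc, φ, eqv⟩ hs, ?_⟩
      rintro V rfl x' hx'
      obtain rfl := eq_of_heq hx'
      obtain ⟨ψ, hψ⟩ := exists_quotMap_hom aX ⟨Over.mk t, P, act, π₀, cart, loc, φ, eqv⟩ s
      have hψ' : ψ.base = 𝟙 (Over.mk t) := hψ.trans hs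
      refine ⟨ψ, ?_, IsHomLift.of_fac' (QuotSt Scheme.fppfPrecoverage G aX).p (𝟙 (Over.mk t)) ψ rfl rfl (by
        simp only [eqToHom_refl]
        exact hψ'.trans ((Category.id_comp _).trans (Category.id_comp _)).symm)⟩
      have : IsIso ψ.base := by rw [hψ']; exact IsIso.id _
      exact isIso_of_base aX ψ
    obtain ⟨x, hx, hxi⟩ := hiso a.1 a.2
    obtain ⟨y, hy, hyi⟩ := hiso b.1 b.2
    have hxy : x ≫ f = y ≫ f := congrArg ULift.down (hx.symm.trans (hab.trans hy))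
    obtain ⟨g, hg⟩ := h2 x y hxy
    obtain ⟨ψb, hψb, hlb⟩ := hyi _ rfl y HEq.rfl
    let B := (quotMap Scheme.fppfPrecoverage G aX).obj ⟨Over.mk t, ⟨y⟩⟩
    have hgx : lift g (𝟙 (Over.mk t)) ≫ B.φ = x := by
      change lift g (𝟙 _) ≫ (G ◁ y) ≫ aX.act = x
      rw [← Category.assoc, lift_whiskerLeft, Category.id_comp, hg]
    obtain ⟨ψ, hψ⟩ := exists_quotMap_hom aX B (V := Over.mk t) (lift g (𝟙 _))
    have hψ' : ψ.base = 𝟙 (Over.mk t) := hψ.trans (lift_snd _ _)
    have : IsIso ψ.base := by rw [hψ']; exact IsIso.id _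
    have := isIso_of_base aX ψ
    have hlψ : (QuotSt Scheme.fppfPrecoverage G aX).p.IsHomLift (𝟙 (Over.mk t)) ψ :=
      IsHomLift.of_fac' (QuotSt Scheme.fppfPrecoverage G aX).p (𝟙 (Over.mk t)) ψ rfl rfl (by
        simp only [eqToHom_refl]
        exact hψ'.trans ((Category.id_comp _).trans (Category.id_comp _)).symm)
    obtain ⟨ψa, hψa, hla⟩ := hxi _ rfl _ (heq_of_eq hgx)
    exact ⟨GrothLib.FibCat.fiberIso ((asIso ψa).symm ≪≫ asIso ψ ≪≫ asIso ψb) (by
      have := @IsHomLift.lift_id_inv _ _ _ _ (QuotSt Scheme.fppfPrecoverage G aX).p (Over.mk t) _ _ (asIso ψa) hla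
      simp only [Iso.trans_hom, Iso.symm_hom, asIso_hom]
      infer_instance)⟩

end GrothLib.SpQuot
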