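import Groth.Agent.Lib.SpQuot.CompareDiag
import Groth.Agent.Lib.AlgSt.EtaleAtlas
import Groth.Agent.Lib.Torsor21.SmoothSection
import Groth.Agent.Lib.Stk.Basic

/-!
# Quotient stacks by smooth affine groups for the étale topology
-/

set_option backward.isDefEq.respectTransparency false
set_option backward.isDefEq.respectTransparency.types false

universe u

open CategoryTheory CategoryTheory.Limits MonoidalCategory CartesianMonoidalCategory MonObj GrpObj AlgebraicGeometry
open Opposite

namespace GrothLib.SpQuot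

open _root_.AlgSp _root_.AlgSt

attribute [local instance] grpYon

variable {S : Scheme.{u}} (G : Over S) [GrpObj G] {X : Over S} (aX : AlgGrp.Action G X)

theorem etale_le_fppf : Scheme.etalePrecoverage.{u} ≤ Scheme.fppfPrecoverage :=
  Scheme.precoverage_mono fun _ _ f (_ : Etale f) => ⟨inferInstance, inferInstance⟩

/-- An étale torsor is an fppf torsor. -/
def etInc : QuotSt Scheme.etalePrecoverage G aX ⥤ᵇ QuotSt Scheme.fppfPrecoverage G aX where
  toFunctor :=
    { obj := fun A =>
        { base := A.base, P := A.P, act := A.act, π := A.π, cart := A.cart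
          loc := let ⟨R, hR, h⟩ := A.loc; ⟨R, etale_le_fppf _ hR, h⟩
          φ := A.φ, eqv := A.eqv }
      map := fun f => ⟨f.base, f.top, f.eqv, f.cart, f.wφ⟩
      map_id := fun _ => rfl
      map_comp := fun _ _ => rfl }
  w := rfl

instance : (etInc G aX).toFunctor.Faithful :=
  ⟨fun h => QuotObj.hom_ext (congrArg QuotObj.Hom.base h :) (congrArg QuotObj.Hom.top h :)⟩

instance : (etInc G aX).toFunctor.Full :=
  ⟨fun {A A'} f => ⟨⟨f.base, f.top, f.eqv, f.cart, f.wφ⟩, rfl⟩⟩

variable {G aX}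

theorem smooth_surjective_π (hG : Smooth G.hom) (A : QuotObj Scheme.fppfPrecoverage G aX) :
    Smooth A.π.left ∧ Surjective A.π.left := by
  let A' := (compare G X aX).obj A
  refine ⟨?_, ?_⟩
  · exact (repWith_yon_map_iff @Smooth A.π).1
      (GrothLib.AlgSp.EtLocal.repWith_of_locP GrothLib.AlgSp.EtLocal.smooth (IsAlgSpace.yon_obj A.base)
        (representable_yon_map A.π) (locP_torsor aX GrothLib.AlgSp.EtLocal.smooth hG A'))
  · refine ⟨fun x => ?_⟩
    obtain ⟨R, hR, hs⟩ := A.loc
    obtain ⟨I, Y, g, rfl⟩ := R.exists_eq_ofArrows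
    replace hR := (Scheme.ofArrows_mem_precoverage_iff _).1 hR
    obtain ⟨i, y, rfl⟩ := hR.1 x
    obtain ⟨s, hs'⟩ := hs (g i) ⟨i⟩
    exact ⟨s y, (Scheme.Hom.comp_apply _ _ y).symm.trans (congrArg (fun t : Y i ⟶ A.base.left => t y) hs')⟩

theorem exists_etInc_obj (hG : Smooth G.hom) (A : QuotObj Scheme.fppfPrecoverage G aX) :
    ∃ A₀ : QuotObj Scheme.etalePrecoverage G aX, (etInc G aX).obj A₀ = A := by
  obtain ⟨hs, hsur⟩ := smooth_surjective_π hG A
  obtain ⟨U, p, hp⟩ := GrothLib.Torsor21.exists_etale_sections A.π.left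
  refine ⟨{ base := A.base, P := A.P, act := A.act, π := A.π, cart := A.cart, φ := A.φ, eqv := A.eqv
            loc := ⟨_, hp, ?_⟩ }, rfl⟩
  rintro T f ⟨s⟩
  exact ⟨p s, rfl⟩

theorem isEquivOver_etInc (hG : Smooth G.hom) : _root_.FibCat.IsEquivOver (etInc G aX) :=
  (GrothLib.FibCat.isEquivOver_iff _).2 ⟨inferInstance, inferInstance, fun A => by
    obtain ⟨A₀, rfl⟩ := exists_etInc_obj hG A
    exact ⟨A₀, Iso.refl _, by
      have : ((QuotSt Scheme.fppfPrecoverage G aX).p).IsHomLift (𝟙 A₀.base) (𝟙 ((etInc G aX).obj A₀)) :=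
        IsHomLift.id rfl
      exact this⟩⟩

theorem repByAlgSpWith_quotMap_etale {P : MorphismProperty (Sp S)}
    (h : RepByAlgSpWith P (BasedFunctor.comp (ofOverCat X) (quotMap Scheme.fppfPrecoverage G aX))) :
    RepByAlgSpWith P (BasedFunctor.comp (ofOverCat X) (quotMap Scheme.etalePrecoverage G aX)) :=
  GrothLib.AlgSt.repByAlgSpWith_of_square (BasedFunctor.id _) (etInc G aX) (GrothLib.FibCat.IsEquivOver.refl _)
    (Iso.refl _) h

theorem isAlgStack_quotSt_etale (hG : Smooth G.hom) (hGa : IsAffineHom G.hom) :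
    IsAlgStack Scheme.etalePrecoverage (QuotSt Scheme.etalePrecoverage G aX) := by
  have hst : _root_.Stk.IsStack (AlgSp.J S) (QuotSt Scheme.fppfPrecoverage G aX) := by
    refine (GrothLib.Stk.isStack_iff_of_isEquivOver (AlgSp.J S) (compare G X aX)
      ((GrothLib.FibCat.isEquivOver_iff _).2 ⟨inferInstance, inferInstance, fun A => ?_⟩)).2 (isStack (S := S))
    obtain ⟨P₀, ⟨e⟩⟩ := exists_yon_iso_torsor hGa A
    exact exists_compare_iso A P₀ e
  refine GrothLib.AlgSt.isAlgStack_jet_of_atlas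
    ((GrothLib.Stk.isStack_iff_of_isEquivOver _ (etInc G aX) (isEquivOver_etInc hG)).2
      (GrothLib.AlgSt.isStack_jet_of_fppf hst))
    ⟨X, BasedFunctor.comp (ofOverCat X) (quotMap Scheme.etalePrecoverage G aX),
      repByAlgSpWith_quotMap_etale (repByAlgSpWith_quotMap aX (locP_torsor aX GrothLib.AlgSp.EtLocal.smooth hG)),
      repByAlgSpWith_quotMap_etale (repByAlgSpWith_quotMap aX fun A => isSurjectiveMor_torsor A)⟩

theorem repByAlgSpWith_isAffineMor_diag_quotSt_etale (hG : Smooth G.hom) (hGa : IsAffineHom G.hom)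
    (hX : IsAffineHom (pullback.diagonal X.hom)) :
    RepByAlgSpWith IsAffineMor (FibCat.diag (FibCat.toSelf (QuotSt Scheme.etalePrecoverage G aX))) :=
  GrothLib.AlgSt.repByAlgSpWith_diag_of_isEquivOver (etInc G aX) (isEquivOver_etInc hG)
    (repByAlgSpWith_isAffineMor_diag_quotSt aX hGa hX)

end GrothLib.SpQuot
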