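import Groth.Agent.Lib.SpQuot.Stack
import Groth.Agent.Lib.AlgSp.BootstrapFamily
import Groth.Agent.Lib.AlgSt.DescFamily
import Groth.Agent.Lib.FibCat.Equiv

/-!
# Torsors under group spaces are spaces
-/

set_option backward.isDefEq.respectTransparency false
set_option backward.isDefEq.respectTransparency.types false

universe u

open CategoryTheory CategoryTheory.Limits MonoidalCategory CartesianMonoidalCategory MonObj GrpObj AlgebraicGeometry

namespace GrothLib.SpQuot

open _root_.AlgSp _root_.AlgSt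

variable {S : Scheme.{u}} {B : Sp S}

/-- Being an algebraic space is fppf local on the base scheme. -/
theorem isAlgSpace_of_cover {T : Over S} {P : Sp S} (π : P ⟶ (yon S).obj T) {R : Sieve T} (hR : R ∈ J S T)
    (h : ∀ ⦃V : Over S⦄ (f : V ⟶ T), R.arrows f → IsAlgSpace (pullback π ((yon S).map f))) : IsAlgSpace P := by
  obtain ⟨V, c, hc, hfl, hlfp, hx⟩ := GrothLib.AlgSt.exists_family_of_mem_J hR
  refine GrothLib.AlgSp.isAlgSpace_of_repBySp_family (fun i => pullback π ((yon S).map (c i)))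
    (fun i => h (c i) (hc i)) (fun i => pullback.fst _ _) (fun i => ?_) fun T' g t => ?_
  · rw [repBySpWith_hom_iff]
    intro U ξ F' fst snd sq
    have sq' : IsPullback (fst ≫ pullback.snd π ((yon S).map (c i))) snd ((yon S).map (c i)) (ξ ≫ π) := by
      have := sq.paste_horiz (IsPullback.of_hasPullback π ((yon S).map (c i))).flip
      exact this
    obtain ⟨W, w₁, w₂, hW⟩ := GrothLib.AlgSp.exists_isPullback_yon
      (IsAlgSpace.yon_obj (S := S) T).diag ((yon S).map (c i)) (ξ ≫ π)
    refine ⟨IsAlgSpace.of_iso (IsAlgSpace.yon_obj W) (IsPullback.isoIsPullback _ _ hW sq'), ?_, ?_⟩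
    · exact GrothLib.AlgSp.EtLocal.locP_of_repWith GrothLib.AlgSp.EtLocal.flat (IsAlgSpace.yon_obj U)
        (MorphismProperty.of_isPullback sq' ((repWith_yon_map_iff _ _).2 (hfl i)))
    · exact GrothLib.AlgSp.EtLocal.locP_of_repWith GrothLib.AlgSp.EtLocal.lfp (IsAlgSpace.yon_obj U)
        (MorphismProperty.of_isPullback sq' ((repWith_yon_map_iff _ _).2 (hlfp i)))
  · obtain ⟨a, ha⟩ := (yon S).map_surjective (g ≫ π)
    obtain ⟨v, hv⟩ := hx (a.left t)
    refine ⟨a.left t, ?_⟩
    let i := a.left t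
    obtain ⟨W, w₁, w₂, hW⟩ := GrothLib.AlgSp.exists_isPullback_yon
      (IsAlgSpace.yon_obj (S := S) T).diag ((yon S).map (c i)) (g ≫ π)
    let s : (yon S).obj W ⟶ pullback π ((yon S).map (c i)) :=
      pullback.lift ((yon S).map w₂ ≫ g) ((yon S).map w₁) (by rw [Category.assoc, hW.w])
    let r : (yon S).obj W ⟶ pullback (pullback.fst π ((yon S).map (c i))) g :=
      pullback.lift s ((yon S).map w₂) (pullback.lift_fst _ _ _)
    have hW' : IsPullback w₁ w₂ (c i) a := IsPullback.of_map_of_faithful (yon S) (by rw [ha]; exact hW)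
    obtain ⟨w, -, hw⟩ := AlgebraicGeometry.Scheme.exists_preimage_of_isPullback (hW'.map (Over.forget S)) v t hv
    refine ⟨Points.map r (Points.ofScheme W w), ?_⟩
    rw [← Points.map_comp, show r ≫ pullback.snd _ g = (yon S).map w₂ from pullback.lift_snd _ _ _]
    rw [← hw]
    exact Points.map_yon_map_apply w₂ w

variable {G : Over B} [GrpObj G] {X : Over B} {aX : GAction G X}

/-- Left multiplication through a point of a torsor. -/
noncomputable def orbitMap {P : Over B} (a : GAction G P) {Z : Over B} (σ : Z ⟶ P) : G ⊗ Z ⟶ P :=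
  (G ◁ σ) ≫ a.act

theorem orbitMap_eq {P : Over B} (a : GAction G P) {Z : Over B} (σ : Z ⟶ P) :
    orbitMap a σ = gm a (fst G Z) (snd G Z ≫ σ) := by
  rw [orbitMap, gm]
  congr 1
  all_goals apply CartesianMonoidalCategory.hom_ext <;> simp

theorem secSieve_snd {T : Over S} (b : (yon S).obj T ⟶ B) :
    secSieve (snd G (Over.mk b)).left ∈ J S T :=
  (hasSecLoc_fppf_iff _).1 (hasSecLoc_of_section _ (snd G (Over.mk b)).left
    (lift (toUnit _ ≫ η[G]) (𝟙 (Over.mk b))).left (by rw [← Over.comp_left, lift_snd, Over.id_left]; rfl))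

theorem orbitMap_eqv {P : Over B} (a : GAction G P) {Z : Over B} (σ : Z ⟶ P) :
    (spLeftMul G Z).act ≫ orbitMap a σ = (G ◁ orbitMap a σ) ≫ a.act := by
  refine eqv_of_gm _ fun V β g x => ?_
  rw [orbitMap_eq, comp_gm, comp_gm, gm_gm]
  congr 1
  · rw [gm, spLeftMul]
    simp only [Category.assoc, lift_fst, comp_mul, lift_fst_assoc, lift_snd_assoc]
  · rw [gm, spLeftMul]
    simp only [Category.assoc, lift_snd_assoc]

/-- A point trivialises a torsor. -/
theorem isPullback_orbitMap (A : SpQuotObj Scheme.fppfPrecoverage G aX) {V : Over S} {β : (yon S).obj V ⟶ B}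
    (σ : Over.mk β ⟶ A.P) (f : V ⟶ A.base) (hf : σ.left ≫ A.π.left = (yon S).map f) :
    IsPullback (orbitMap A.act σ).left (snd G (Over.mk β)).left A.π.left ((yon S).map f) := by
  have hw : (yon S).map f ≫ A.b = β := by
    rw [← hf, Category.assoc]
    exact (congrArg (σ.left ≫ ·) (Over.w A.π)).trans (Over.w σ)
  have hσ : σ ≫ A.π = bHom f hw := by ext1; exact hf
  refine (isPullback_of_eqv (isPullback_spLeftMul (G := G) (Over.mk β)) A.cart (secSieve_snd β) f hw
    (orbitMap A.act σ) ?_ (orbitMap_eqv A.act σ)).map (Over.forget B)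
  rw [orbitMap_eq, gm_π _ A.cart, Category.assoc, hσ]

theorem isAlgSpace_torsor (hB : IsAlgSpace B) (hG : IsAlgSpace G.left)
    (A : SpQuotObj Scheme.fppfPrecoverage G aX) : IsAlgSpace A.P.left := by
  refine isAlgSpace_of_cover A.π.left (secSieve_mem A) fun V f hf => ?_
  obtain ⟨s, hs⟩ := hf
  let σ : Over.mk (s ≫ A.P.hom) ⟶ A.P := Over.homMk s rfl
  exact IsAlgSpace.of_iso (GrothLib.AlgSp.isAlgSpace_pullback' hB hG (IsAlgSpace.yon_obj V) _ _)
    ((isPullback_orbitMap A σ f hs).isoPullback)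

end GrothLib.SpQuot

namespace GrothLib.SpQuot

open _root_.AlgSp _root_.AlgSt

variable {S : Scheme.{u}} {B : Sp S} {G : Over B} [GrpObj G] {X : Over B} {aX : GAction G X}

theorem isEquivOver_subIncl_isAlgSpace (hB : IsAlgSpace B) (hG : IsAlgSpace G.left) :
    FibCat.IsEquivOver (subIncl (SpQuotSt Scheme.fppfPrecoverage G aX) (fun A => IsAlgSpace A.P.left)) := by
  rw [GrothLib.FibCat.isEquivOver_iff]
  refine ⟨inferInstanceAs (ObjectProperty.ι _).Full, inferInstanceAs (ObjectProperty.ι _).Faithful,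
    fun A => ⟨⟨A, isAlgSpace_torsor hB hG A⟩, Iso.refl _, ?_⟩⟩
  exact IsHomLift.id rfl

end GrothLib.SpQuot
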