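import Groth.Prelude.Def_AlgSt5
import Groth.Agent.Lib.SpQuot.TorsorSpace
import Mathlib.CategoryTheory.Limits.Constructions.LimitsOfProductsAndEqualizers
import Mathlib.CategoryTheory.Limits.Constructions.Over.Connected

/-!
# Scheme torsors as sheaf torsors over the final sheaf
-/

set_option backward.isDefEq.respectTransparency false
set_option backward.isDefEq.respectTransparency.types false

universe u

open CategoryTheory CategoryTheory.Limits MonoidalCategory CartesianMonoidalCategory MonObj GrpObj AlgebraicGeometry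

namespace GrothLib.SpQuot

open _root_.AlgSp _root_.AlgSt

variable (S : Scheme.{u})

/-- The final sheaf. -/
noncomputable abbrev topSp : Sp S := (yon S).obj (Over.mk (𝟙 S))

/-- Schemes over `S` as sheaves over the final sheaf. -/
noncomputable def overYon : Over S ⥤ Over (topSp S) :=
  (Over.equivalenceOfIsTerminal (Over.mkIdTerminal (X := S))).inverse ⋙ Over.post (yon S)

instance : (overYon S).Full := by unfold overYon; infer_instance

instance : (overYon S).Faithful := by unfold overYon; infer_instance

instance : PreservesFiniteLimits (overYon S) := by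
  have : PreservesLimitsOfShape WalkingCospan (Over.post (X := Over.mk (𝟙 S)) (yon S) ⋙ Over.forget _) :=
    inferInstanceAs (PreservesLimitsOfShape WalkingCospan (Over.forget (Over.mk (𝟙 S)) ⋙ yon S))
  have : PreservesLimitsOfShape WalkingCospan (Over.post (X := Over.mk (𝟙 S)) (yon S)) :=
    preservesLimitsOfShape_of_reflects_of_preserves _ (Over.forget _)
  have : PreservesLimitsOfShape (Discrete PEmpty.{1}) (Over.post (X := Over.mk (𝟙 S)) (yon S)) := by
    refine @preservesLimitsOfShape_pempty_of_preservesTerminal _ _ _ _ _ ?_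
    exact preservesLimit_of_preserves_limit_cone (Over.mkIdTerminal (X := Over.mk (𝟙 S)))
      ((isLimitMapConeEmptyConeEquiv _ _).symm (Over.mkIdTerminal.ofIso
        (Over.isoMk (Iso.refl _) (by exact (Category.id_comp _).trans ((yon S).map_id _)))))
  have : PreservesFiniteLimits (Over.post (X := Over.mk (𝟙 S)) (yon S)) :=
    preservesFiniteLimits_of_preservesTerminal_and_pullbacks _
  unfold overYon
  infer_instance

noncomputable instance : (overYon S).Monoidal := Functor.Monoidal.ofChosenFiniteProducts _

variable {S}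

theorem topSp_hom_ext {T : Over S} (b b' : (yon S).obj T ⟶ topSp S) : b = b' := by
  obtain ⟨x, rfl⟩ := (yon S).map_surjective b
  obtain ⟨x', rfl⟩ := (yon S).map_surjective b'
  have h1 := Over.w x
  have h2 := Over.w x'
  simp only [Over.mk_hom, Category.comp_id] at h1 h2
  exact congrArg _ (Over.OverMorphism.ext (h1.trans h2.symm))

/-- A group scheme as a group sheaf. -/
noncomputable abbrev grpYon (G : Over S) [GrpObj G] : GrpObj ((overYon S).obj G) := (overYon S).grpObjObj

attribute [local instance] grpYon

variable {G : Over S} [GrpObj G] {X : Over S}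

/-- An action of schemes as an action of sheaves. -/
noncomputable def yonAct (a : AlgGrp.Action G X) : GAction ((overYon S).obj G) ((overYon S).obj X) where
  act := Functor.LaxMonoidal.μ (overYon S) G X ≫ (overYon S).map a.act
  one_act := by
    change ((Functor.LaxMonoidal.ε (overYon S) ≫ (overYon S).map η[G]) ▷ _) ≫ Functor.LaxMonoidal.μ (overYon S) G X ≫ (overYon S).map a.act = _
    rw [comp_whiskerRight, Category.assoc, Functor.LaxMonoidal.μ_natural_left_assoc, ← Functor.map_comp, a.one_act,
      Functor.LaxMonoidal.left_unitality]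
  mul_act := by
    change ((Functor.LaxMonoidal.μ (overYon S) G G ≫ (overYon S).map μ[G]) ▷ _) ≫ Functor.LaxMonoidal.μ (overYon S) G X ≫ (overYon S).map a.act = _
    rw [comp_whiskerRight, Category.assoc, Functor.LaxMonoidal.μ_natural_left_assoc, ← Functor.map_comp, a.mul_act,
      Functor.map_comp, Functor.map_comp, Functor.LaxMonoidal.associativity_assoc,
      MonoidalCategory.whiskerLeft_comp_assoc, Functor.LaxMonoidal.μ_natural_right_assoc]

theorem yonAct_act (a : AlgGrp.Action G X) :
    (yonAct a).act = Functor.LaxMonoidal.μ (overYon S) G X ≫ (overYon S).map a.act := rfl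

variable {aX : AlgGrp.Action G X}

theorem yonAct_eqv {P P' : Over S} {a : AlgGrp.Action G P} {a' : AlgGrp.Action G P'} {t : P ⟶ P'}
    (h : a.act ≫ t = (G ◁ t) ≫ a'.act) :
    (yonAct a).act ≫ (overYon S).map t = ((overYon S).obj G ◁ (overYon S).map t) ≫ (yonAct a').act := by
  rw [yonAct_act, yonAct_act, Category.assoc, ← Functor.map_comp, h, Functor.map_comp,
    Functor.LaxMonoidal.μ_natural_right_assoc]

theorem eqv_of_yonAct_eqv {P P' : Over S} {a : AlgGrp.Action G P} {a' : AlgGrp.Action G P'} {t : P ⟶ P'}
    (h : (yonAct a).act ≫ (overYon S).map t = ((overYon S).obj G ◁ (overYon S).map t) ≫ (yonAct a').act) :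
    a.act ≫ t = (G ◁ t) ≫ a'.act := by
  apply (overYon S).map_injective
  rw [← cancel_epi (Functor.LaxMonoidal.μ (overYon S) G P), Functor.map_comp, Functor.map_comp,
    ← Functor.LaxMonoidal.μ_natural_right_assoc]
  simpa only [yonAct_act, Category.assoc] using h

theorem isPullback_yonAct {P T : Over S} {a : AlgGrp.Action G P} {π : P ⟶ T}
    (h : IsPullback a.act (snd G P) π π) :
    IsPullback (yonAct a).act (snd ((overYon S).obj G) ((overYon S).obj P)) ((overYon S).map π)
      ((overYon S).map π) := by
  refine (h.map (overYon S)).of_iso (asIso (Functor.LaxMonoidal.μ (overYon S) G P)).symm (Iso.refl _) (Iso.refl _) (Iso.refl _)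
    ?_ ?_ (by simp) (by simp)
  · simp [yonAct_act]
  · simp only [Iso.symm_hom, asIso_inv, Iso.refl_hom, Category.comp_id, IsIso.eq_inv_comp]
    exact Functor.Monoidal.μ_snd _ _ _

theorem isPullback_of_yonAct {P T : Over S} {a : AlgGrp.Action G P} {π : P ⟶ T}
    (h : IsPullback (yonAct a).act (snd ((overYon S).obj G) ((overYon S).obj P)) ((overYon S).map π)
      ((overYon S).map π)) : IsPullback a.act (snd G P) π π := by
  refine IsPullback.of_map_of_faithful (overYon S) ?_
  refine h.of_iso (asIso (Functor.LaxMonoidal.μ (overYon S) G P)) (Iso.refl _) (Iso.refl _) (Iso.refl _)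
    ?_ ?_ (by simp) (by simp)
  · simp [yonAct_act]
  · simp only [asIso_hom, Iso.refl_hom, Category.comp_id]
    exact (Functor.Monoidal.μ_snd _ _ _).symm

theorem hasSecLoc_iff {T P : Over S} (π : P ⟶ T) :
    AlgSt.HasSecLoc Scheme.fppfPrecoverage ((yon S).map π) ↔
      NonAbH1.IsLocallyTrivialFor Scheme.fppfPrecoverage (Over.mk π.left : Over T.left) := by
  refine ⟨fun ⟨R, hR, h⟩ => ⟨R, hR, fun T' f hf => ?_⟩, fun ⟨R, hR, h⟩ => ⟨R, hR, fun T' f hf => ?_⟩⟩
  · obtain ⟨s, hs⟩ := h f hf
    obtain ⟨s, rfl⟩ := (yon S).map_surjective s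
    rw [← Functor.map_comp] at hs
    exact ⟨s.left, congrArg CommaMorphism.left ((yon S).map_injective hs)⟩
  · obtain ⟨s, hs⟩ := h f hf
    have hs' : s ≫ π.left = f := hs
    refine ⟨(yon S).map (Over.homMk s (by
      change s ≫ P.hom = f ≫ T.hom
      rw [← Over.w π, reassoc_of% hs'])), ?_⟩
    rw [← Functor.map_comp]
    exact congrArg _ (Over.OverMorphism.ext hs')

variable (G X aX) in
/-- The quotient category of scheme torsors maps to that of sheaf torsors. -/
noncomputable def compare :
    QuotSt Scheme.fppfPrecoverage G aX ⥤ᵇ SpQuotSt Scheme.fppfPrecoverage ((overYon S).obj G) (yonAct aX) where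
  toFunctor :=
    { obj := fun A =>
        { base := A.base
          b := ((overYon S).obj A.base).hom
          P := (overYon S).obj A.P
          act := yonAct A.act
          π := (overYon S).map A.π
          cart := isPullback_yonAct A.cart
          loc := (hasSecLoc_iff A.π).2 A.loc
          φ := (overYon S).map A.φ
          eqv := yonAct_eqv A.eqv }
      map := fun {A A'} f =>
        { base := f.base
          wb := topSp_hom_ext _ _
          top := (overYon S).map f.top
          eqv := yonAct_eqv f.eqv
          cart := f.cart.map (overYon S)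
          wφ := by rw [← Functor.map_comp, f.wφ] }
      map_id := fun A => SpQuotObj.hom_ext rfl ((overYon S).map_id _)
      map_comp := fun f g => SpQuotObj.hom_ext rfl ((overYon S).map_comp _ _) }
  w := rfl

instance : (compare G X aX).toFunctor.Faithful :=
  ⟨fun {A A' f g} h => QuotObj.hom_ext (congrArg SpQuotObj.Hom.base h :)
    ((overYon S).map_injective (congrArg SpQuotObj.Hom.top h :))⟩

instance : (compare G X aX).toFunctor.Full := by
  refine ⟨fun {A A'} f => ?_⟩
  obtain ⟨t, ht⟩ := (overYon S).map_surjective f.top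
  have hc : IsPullback ((overYon S).map t) ((overYon S).map A.π) ((overYon S).map A'.π)
      ((overYon S).map f.base) := by
    rw [ht]
    exact f.cart
  refine ⟨⟨f.base, t, eqv_of_yonAct_eqv (by rw [ht]; exact f.eqv), IsPullback.of_map_of_faithful (overYon S) hc,
    (overYon S).map_injective (by rw [Functor.map_comp, ht]; exact f.wφ)⟩, SpQuotObj.hom_ext rfl ht⟩

/-- Sheaf torsors with representable total space come from schemes. -/
theorem exists_compare_iso (A : SpQuotObj Scheme.fppfPrecoverage ((overYon S).obj G) (yonAct aX))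
    (P₀ : Over S) (e : (yon S).obj P₀ ≅ A.P.left) :
    ∃ (A₀ : QuotObj Scheme.fppfPrecoverage G aX) (i : (compare G X aX).obj A₀ ≅ A),
      (SpQuotSt Scheme.fppfPrecoverage ((overYon S).obj G) (yonAct aX)).p.IsHomLift (𝟙 A.base) i.hom := by
  obtain ⟨base, b, P, act, π, cart, loc, φ, eqv⟩ := A
  obtain rfl : b = ((overYon S).obj base).hom := topSp_hom_ext _ _
  let j : (overYon S).obj P₀ ≅ P := Over.isoMk e (topSp_hom_ext (T := P₀) _ _)
  let G' := (overYon S).obj G
  let act₀ : G ⊗ P₀ ⟶ P₀ :=
    (overYon S).preimage (inv (Functor.LaxMonoidal.μ (overYon S) G P₀) ≫ (G' ◁ j.hom) ≫ act.act ≫ j.inv)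
  have hact₀ : Functor.LaxMonoidal.μ (overYon S) G P₀ ≫ (overYon S).map act₀ = (G' ◁ j.hom) ≫ act.act ≫ j.inv := by
    rw [Functor.map_preimage, IsIso.hom_inv_id_assoc]
  let a₀ : AlgGrp.Action G P₀ :=
    { act := act₀
      one_act := by
        apply (overYon S).map_injective
        rw [← cancel_epi (Functor.LaxMonoidal.μ (overYon S) (𝟙_ (Over S)) P₀), ← cancel_epi (Functor.LaxMonoidal.ε (overYon S) ▷ (overYon S).obj P₀),
          ← Functor.LaxMonoidal.left_unitality, Functor.map_comp, ← Functor.LaxMonoidal.μ_natural_left_assoc,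
          ← comp_whiskerRight_assoc, hact₀]
        change (η[G'] ▷ _) ≫ (G' ◁ j.hom) ≫ act.act ≫ j.inv = _
        rw [← whisker_exchange_assoc, reassoc_of% act.one_act, leftUnitor_naturality_assoc, j.hom_inv_id,
          Category.comp_id]
      mul_act := by
        apply (overYon S).map_injective
        rw [← cancel_epi (Functor.LaxMonoidal.μ (overYon S) (G ⊗ G) P₀), ← cancel_epi (Functor.LaxMonoidal.μ (overYon S) G G ▷ (overYon S).obj P₀),
          Functor.map_comp, ← Functor.LaxMonoidal.μ_natural_left_assoc, ← comp_whiskerRight_assoc, hact₀,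
          Functor.map_comp, Functor.map_comp, Functor.LaxMonoidal.associativity_assoc,
          ← Functor.LaxMonoidal.μ_natural_right_assoc, hact₀, ← MonoidalCategory.whiskerLeft_comp_assoc,
          ← MonoidalCategory.whiskerLeft_comp_assoc]
        change (μ[G'] ▷ _) ≫ (G' ◁ j.hom) ≫ act.act ≫ j.inv = _
        simp only [Category.assoc]
        rw [show Functor.LaxMonoidal.μ (overYon S) G P₀ ≫ (overYon S).map act₀ ≫ j.hom = (G' ◁ j.hom) ≫ act.act by
            rw [reassoc_of% hact₀, j.inv_hom_id, Category.comp_id],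
          ← whisker_exchange_assoc, reassoc_of% act.mul_act, MonoidalCategory.whiskerLeft_comp_assoc,
          ← associator_naturality_right_assoc] }
  have hj : (yonAct a₀).act ≫ j.hom = (G' ◁ j.hom) ≫ act.act := by
    rw [yonAct_act, Category.assoc]
    change Functor.LaxMonoidal.μ (overYon S) G P₀ ≫ (overYon S).map act₀ ≫ j.hom = _
    rw [reassoc_of% hact₀, j.inv_hom_id, Category.comp_id]
  let π₀ : P₀ ⟶ base := (overYon S).preimage (j.hom ≫ π)
  have hπ₀ : (overYon S).map π₀ = j.hom ≫ π := Functor.map_preimage _ _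
  let φ₀ : P₀ ⟶ X := (overYon S).preimage (j.hom ≫ φ)
  have hφ₀ : (overYon S).map φ₀ = j.hom ≫ φ := Functor.map_preimage _ _
  let A₀ : QuotObj Scheme.fppfPrecoverage G aX :=
    { base := base
      P := P₀
      act := a₀
      π := π₀
      cart := isPullback_of_yonAct (by
        rw [hπ₀]
        refine cart.of_iso (whiskerLeftIso G' j).symm j.symm j.symm (Iso.refl _) ?_ ?_ ?_ ?_
        · simp only [Iso.symm_hom, whiskerLeftIso_inv]
          rw [← cancel_mono j.hom, Category.assoc, j.inv_hom_id, Category.comp_id, Category.assoc, hj,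
            ← MonoidalCategory.whiskerLeft_comp_assoc, j.inv_hom_id, MonoidalCategory.whiskerLeft_id, Category.id_comp]
        · simp only [Iso.symm_hom, whiskerLeftIso_inv]
          exact (whiskerLeft_snd _ _).symm
        · simp only [Iso.symm_hom, Iso.refl_hom, Category.comp_id]
          exact (j.inv_hom_id_assoc _).symm
        · simp only [Iso.symm_hom, Iso.refl_hom, Category.comp_id]
          exact (j.inv_hom_id_assoc _).symm)
      loc := by
        refine (hasSecLoc_iff π₀).1 ?_
        obtain ⟨R, hR, hs⟩ := loc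
        refine ⟨R, hR, fun T' f hf => ?_⟩
        obtain ⟨s, hs'⟩ := hs f hf
        refine ⟨s ≫ e.inv, ?_⟩
        have h1 : (yon S).map π₀ = e.hom ≫ π.left := congrArg CommaMorphism.left hπ₀
        rw [h1, Category.assoc, e.inv_hom_id_assoc]
        exact hs'
      φ := φ₀
      eqv := eqv_of_yonAct_eqv (a := a₀) (a' := aX) (by
        rw [hφ₀, reassoc_of% hj, eqv, MonoidalCategory.whiskerLeft_comp_assoc]) }
  let f : (compare G X aX).obj A₀ ⟶ ⟨base, _, P, act, π, cart, loc, φ, eqv⟩ :=
    { base := 𝟙 _
      wb := topSp_hom_ext _ _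
      top := j.hom
      eqv := hj
      cart := by
        change IsPullback j.hom ((overYon S).map π₀) π (bHom (b := ((overYon S).obj base).hom) (b' := ((overYon S).obj base).hom) (𝟙 base) _)
        have hb : ∀ w, bHom (b := ((overYon S).obj base).hom) (b' := ((overYon S).obj base).hom) (𝟙 base) w =
          𝟙 ((overYon S).obj base) := fun w => bHom_id w
        rw [hb]
        exact IsPullback.of_horiz_isIso ⟨by rw [hπ₀]; exact (Category.comp_id _).symm⟩
      wφ := hφ₀.symm }
  have hf : (SpQuotSt Scheme.fppfPrecoverage ((overYon S).obj G) (yonAct aX)).p.IsHomLift (𝟙 base) f :=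
    IsHomLift.map (SpQuotSt Scheme.fppfPrecoverage ((overYon S).obj G) (yonAct aX)).p f
  have := GrothLib.FibCat.IsFibGrpd.isIso_of_isHomLift_id (isFibGrpd (aX := yonAct aX)) (R := base) f
  exact ⟨A₀, asIso f, hf⟩

end GrothLib.SpQuot
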