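import Groth.Agent.Lib.SpQuot.CompareDiag

/-!
# Affine diagonal of a quotient stack and affine diagonal of the scheme
-/

set_option backward.isDefEq.respectTransparency false
set_option backward.isDefEq.respectTransparency.types false

universe u

open CategoryTheory CategoryTheory.Limits MonoidalCategory CartesianMonoidalCategory MonObj GrpObj AlgebraicGeometry
open Opposite

namespace GrothLib.SpQuot

open _root_.AlgSp _root_.AlgSt

section Unit

variable {S : Scheme.{u}} {B : Sp S} {G : Over B} [GrpObj G] {X : Over B} {aX : GAction G X}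

/-- The unit section of a trivial torsor. -/
theorem exists_unit_section (a : (ofSp X.left).obj) :
    ∃ σ : (yon S).obj a.base ⟶ ((spQuotMap Scheme.fppfPrecoverage G aX).obj a).P.left,
      σ ≫ ((spQuotMap Scheme.fppfPrecoverage G aX).obj a).π.left = (yon S).map (𝟙 a.base) ∧
      σ ≫ ((spQuotMap Scheme.fppfPrecoverage G aX).obj a).φ.left = secYon a := by
  let Z := Over.mk (secYon a ≫ X.hom)
  refine ⟨(lift 1 (𝟙 Z)).left, ?_, ?_⟩
  · change (lift 1 (𝟙 Z)).left ≫ (snd G Z).left = _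
    rw [← Over.comp_left, lift_snd]
    exact ((yon S).map_id _).symm
  · change (lift 1 (𝟙 Z)).left ≫ ((G ◁ secOver a) ≫ aX.act).left = _
    rw [← Over.comp_left, ← Category.assoc,
      show lift (1 : Z ⟶ G) (𝟙 Z) ≫ (G ◁ secOver a) = lift 1 (secOver a) from by
        apply CartesianMonoidalCategory.hom_ext <;> simp]
    exact congrArg CommaMorphism.left (one_gm aX _)

/-- The diagonal of the space is a base change of the sheaf of isomorphisms. -/
theorem repWith_diag_of_proj {Q : MorphismProperty Scheme.{u}} [Q.IsStableUnderBaseChange]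
    [Q.IsStableUnderComposition] {A A' : SpQuotObj Scheme.fppfPrecoverage G aX} (χ : A.base ⟶ A'.base)
    (hb : (yon S).map χ ≫ A'.b = A.b)
    (σ : (yon S).obj A.base ⟶ A.P.left) (hσ : σ ≫ A.π.left = (yon S).map (𝟙 A.base))
    (σ' : (yon S).obj A.base ⟶ A'.P.left) (hσ' : σ' ≫ A'.π.left = (yon S).map χ)
    (hproj : RepWith Q (IsoSec.proj : IsoSec.sheaf A A' χ ⟶ _))
    (hsec : ∀ (R : SpQuotObj Scheme.fppfPrecoverage G aX) (τ : (yon S).obj R.base ⟶ R.P.left),
      τ ≫ R.π.left = (yon S).map (𝟙 R.base) → RepWith Q τ)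
    (hw : (σ' ≫ A'.φ.left) ≫ X.hom = (σ ≫ A.φ.left) ≫ X.hom)
    (hiso : IsIso (pullback.lift (σ' ≫ A'.φ.left) (σ ≫ A.φ.left) hw)) :
    RepWith Q (pullback.diagonal X.hom) := by
  obtain ⟨n, hab, hn, hsq⟩ := IsoSec.exists_isPullback_diag hb (𝟙 A.base) σ hσ
  have hQ := isPullback_left (restrHom A' (𝟙 A.base ≫ χ))
  let τ : (yon S).obj A.base ⟶ (restr A' (𝟙 A.base ≫ χ)).P.left := hQ.lift σ' ((yon S).map (𝟙 A.base)) (by
    rw [hσ', restrHom_base, ← Functor.map_comp]
    exact congrArg _ ((Category.id_comp _).trans (Category.id_comp _)).symm)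
  have hτ : τ ≫ (restr A' (𝟙 A.base ≫ χ)).π.left = (yon S).map (𝟙 A.base) := hQ.lift_snd _ _ _
  have hτQ := hsec (restr A' (𝟙 A.base ≫ χ)) τ hτ
  have haff : RepWith Q (n ≫ (restr A' (𝟙 A.base ≫ χ)).π.left) := by
    rw [hn]
    exact MorphismProperty.of_isPullback (IsPullback.of_hasPullback _ _) hproj
  have h1 : RepWith Q (pullback.snd n τ) := by
    have hfst : RepWith Q (pullback.fst n τ) :=
      MorphismProperty.of_isPullback (IsPullback.of_hasPullback n τ).flip hτQ
    have h2 := GrothLib.AlgSp.repWith_comp hfst haff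
    have e : pullback.fst n τ ≫ n ≫ (restr A' (𝟙 A.base ≫ χ)).π.left = pullback.snd n τ := by
      refine (Category.assoc _ _ _).symm.trans ((congrArg (· ≫ _) pullback.condition).trans ?_)
      refine (Category.assoc _ _ _).trans ((congrArg (pullback.snd n τ ≫ ·) hτ).trans ?_)
      exact (congrArg (pullback.snd n τ ≫ ·) ((yon S).map_id _)).trans (Category.comp_id _)
    rwa [e] at h2
  have hd : τ ≫ pullback.lift _ _ hab = pullback.lift (σ' ≫ A'.φ.left) (σ ≫ A.φ.left) hw := by
    apply pullback.hom_ext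
    · rw [Category.assoc, pullback.lift_fst, pullback.lift_fst, hQ.lift_fst_assoc]
    · rw [Category.assoc, pullback.lift_snd, pullback.lift_snd, reassoc_of% hτ]
      exact (congrArg (· ≫ (σ ≫ A.φ.left)) ((yon S).map_id _)).trans (Category.id_comp _)
  have : IsIso (τ ≫ pullback.lift _ _ hab) := hd ▸ hiso
  have hsq2 := (IsPullback.of_hasPullback n τ).paste_horiz hsq.flip
  have := hsq2.isIso_fst_of_isIso
  refine (MorphismProperty.arrow_mk_iso_iff _ ?_).1 h1
  exact Arrow.isoMk (asIso (pullback.fst n τ ≫ _)) (asIso (τ ≫ pullback.lift _ _ hab)) hsq2.w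

/-- A pair of families over a scheme. -/
def pairY {T : Over S} (F₁ F₂ : FibCat.overCat T ⥤ᵇ SpQuotSt Scheme.fppfPrecoverage G aX) :
    FibCat.overCat T ⥤ᵇ FibCat.fp (FibCat.toSelf (SpQuotSt Scheme.fppfPrecoverage G aX))
      (FibCat.toSelf (SpQuotSt Scheme.fppfPrecoverage G aX)) :=
  FibCat.fpLift F₁ F₂
    (GrothLib.FibCat.natIsoOfComponents
      (fun a => eqToIso ((F₁.w_obj a).trans (F₂.w_obj a).symm :
        (SpQuotSt Scheme.fppfPrecoverage G aX).p.obj (F₁.obj a) = (SpQuotSt Scheme.fppfPrecoverage G aX).p.obj (F₂.obj a)))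
      (fun a => IsHomLift.eqToHom_domain_lift_id (p := (FibCat.selfOver (Over S)).p)
        ((F₁.w_obj a).trans (F₂.w_obj a).symm :
          (SpQuotSt Scheme.fppfPrecoverage G aX).p.obj (F₁.obj a) = (SpQuotSt Scheme.fppfPrecoverage G aX).p.obj (F₂.obj a))
        (F₁.w_obj a))
      (fun {a b} φ => by
        change (SpQuotSt Scheme.fppfPrecoverage G aX).p.map (F₁.map φ) ≫ eqToHom ((F₁.w_obj b).trans (F₂.w_obj b).symm) =
          eqToHom ((F₁.w_obj a).trans (F₂.w_obj a).symm) ≫ (SpQuotSt Scheme.fppfPrecoverage G aX).p.map (F₂.map φ)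
        rw [GrothLib.FibCat.p_map_map, GrothLib.FibCat.p_map_map]
        simp))

/-- A property of the diagonal holds for the sheaf of isomorphisms of two families. -/
theorem mem_proj_of_diag (hXs : IsAlgSpace X.left) (hB : IsAlgSpace B) (hG : IsAlgSpace G.left)
    {P : MorphismProperty (Sp S)} (hiso : GrothLib.AlgSt.IsoInvariant P)
    (h : RepByAlgSpWith P (FibCat.diag (FibCat.toSelf (SpQuotSt Scheme.fppfPrecoverage G aX))))
    (A A' : SpQuotObj Scheme.fppfPrecoverage G aX) {T : Over S} (hA : A.base = T) (hA' : A'.base = T)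
    (hb : (yon S).map (eqToHom (hA.trans hA'.symm)) ≫ A'.b = A.b)
    (F₁ F₂ : FibCat.overCat T ⥤ᵇ SpQuotSt Scheme.fppfPrecoverage G aX)
    (κ : ∀ z, F₁.obj z ⟶ A) (κ' : ∀ z, F₂.obj z ⟶ A')
    (hκb : ∀ z, (κ z).base ≫ eqToHom hA = eqToHom (F₁.w_obj z) ≫ z.hom)
    (hκ'b : ∀ z, (κ' z).base ≫ eqToHom hA' = eqToHom (F₂.w_obj z) ≫ z.hom)
    (hκ : ∀ {z z' : (FibCat.overCat T).obj} (m : z ⟶ z'), F₁.map m ≫ κ z' = κ z)
    (hκ' : ∀ {z z' : (FibCat.overCat T).obj} (m : z ⟶ z'), F₂.map m ≫ κ' z' = κ' z) :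
    P ((IsoSec.proj : IsoSec.sheaf A A' (eqToHom (hA.trans hA'.symm)) ⟶ _) ≫ (yon S).map (eqToHom hA)) := by
  obtain ⟨e, he, hmap⟩ := exists_fp_diag (pairY F₁ F₂) A A' hA hA' κ κ'
    (fun z => F₁.w_obj z) (fun z => F₂.w_obj z) hκb hκ'b (fun m => hκ m) (fun m => hκ' m)
  exact hmap ▸ GrothLib.AlgSt.HasRep.mem (h T (pairY F₁ F₂)) hiso
    ⟨_, IsoSec.isAlgSpace_sheaf' hXs hB hG hb⟩ e he

end Unit

attribute [local instance] grpYon

variable {S : Scheme.{u}} {G : Over S} [GrpObj G] {X : Over S}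

theorem secYon_ofOverCat (z : (FibCat.overCat X).obj) :
    secYon (X := (overYon S).obj X) ((ofOverCat X).obj z) = (yon S).map z.hom :=
  ((J S).uliftYonedaEquiv.symm_apply_eq).2 (GrothendieckTopology.uliftYonedaEquiv_uliftYoneda_map (J S) z.hom).symm


/-- A section of an affine morphism of sheaves from a scheme is affine. -/
theorem repWith_affine_of_section (aX : AlgGrp.Action G X) (hG : IsAffineHom G.hom)
    (Q : SpQuotObj Scheme.fppfPrecoverage ((overYon S).obj G) (yonAct aX))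
    (τ : (yon S).obj Q.base ⟶ Q.P.left) (hτ : τ ≫ Q.π.left = (yon S).map (𝟙 Q.base)) :
    RepWith @IsAffineHom τ := by
  obtain ⟨P₀, ⟨e⟩⟩ := exists_yon_iso_torsor hG Q
  obtain ⟨π₀, hπ₀⟩ := (yon S).map_surjective (e.hom ≫ Q.π.left)
  obtain ⟨τ₀, hτ₀⟩ := (yon S).map_surjective (τ ≫ e.inv)
  have h1 : τ₀ ≫ π₀ = 𝟙 Q.base := (yon S).map_injective (by
    rw [Functor.map_comp, hπ₀, hτ₀, Category.assoc, e.inv_hom_id_assoc, hτ])
  have h2 : RepWith @IsAffineHom ((yon S).map π₀) := by
    rw [hπ₀]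
    exact (MorphismProperty.cancel_left_of_respectsIso _ _ _).2
      (GrothLib.AlgSp.isAffineMor_iff.1 (isAffineMor_torsor hG Q))
  have : IsAffineHom π₀.left := (repWith_yon_map_iff _ π₀).1 h2
  have : IsClosedImmersion (τ₀.left ≫ π₀.left) := by
    rw [← Over.comp_left, h1]
    exact inferInstanceAs (IsClosedImmersion (𝟙 Q.base.left))
  have : IsClosedImmersion τ₀.left := IsClosedImmersion.of_comp τ₀.left π₀.left
  have h3 : RepWith @IsAffineHom ((yon S).map τ₀ ≫ e.hom) :=
    (MorphismProperty.cancel_right_of_respectsIso _ _ _).2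
      ((repWith_yon_map_iff @IsAffineHom τ₀).2 inferInstance)
  rwa [hτ₀, Category.assoc, e.inv_hom_id, Category.comp_id] at h3

/-- The trivial torsor with a point of `X`. -/
noncomputable abbrev trivA (aX : AlgGrp.Action G X) {T : Over S} (x : T ⟶ X) :
    SpQuotObj Scheme.fppfPrecoverage ((overYon S).obj G) (yonAct aX) :=
  (spQuotMap Scheme.fppfPrecoverage ((overYon S).obj G) (yonAct aX)).obj ((ofOverCat X).obj (Over.mk x))

/-- The family of trivial torsors with a point of `X`. -/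
noncomputable abbrev trivF (aX : AlgGrp.Action G X) {T : Over S} (x : T ⟶ X) :
    FibCat.overCat T ⥤ᵇ SpQuotSt Scheme.fppfPrecoverage ((overYon S).obj G) (yonAct aX) :=
  BasedFunctor.comp (BasedFunctor.comp (overMap x) (ofOverCat X))
    (spQuotMap Scheme.fppfPrecoverage ((overYon S).obj G) (yonAct aX))

noncomputable abbrev trivK (aX : AlgGrp.Action G X) {T : Over S} (x : T ⟶ X) (z : (FibCat.overCat T).obj) :
    (trivF aX x).obj z ⟶ trivA aX x :=
  (spQuotMap Scheme.fppfPrecoverage ((overYon S).obj G) (yonAct aX)).map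
    ((ofOverCat X).map (Over.homMk z.hom rfl : (overMap x).obj z ⟶ Over.mk x))

theorem trivK_base (aX : AlgGrp.Action G X) {T : Over S} (x : T ⟶ X) (z : (FibCat.overCat T).obj) :
    (trivK aX x z).base ≫ eqToHom rfl = eqToHom ((trivF aX x).w_obj z) ≫ z.hom := by
  simp only [eqToHom_refl]
  exact (Category.comp_id _).trans (Category.id_comp _).symm

theorem trivK_natural (aX : AlgGrp.Action G X) {T : Over S} (x : T ⟶ X) {z z' : (FibCat.overCat T).obj}
    (m : z ⟶ z') : (trivF aX x).map m ≫ trivK aX x z' = trivK aX x z := by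
  change (spQuotMap Scheme.fppfPrecoverage ((overYon S).obj G) (yonAct aX)).map _ ≫
    (spQuotMap Scheme.fppfPrecoverage ((overYon S).obj G) (yonAct aX)).map _ = _
  rw [← (spQuotMap Scheme.fppfPrecoverage ((overYon S).obj G) (yonAct aX)).map_comp]
  exact congrArg _ (Stk.EltObj.hom_ext (Over.w m))

/-- The sheaf of isomorphisms of the two trivial torsors over `X × X` is affine. -/
theorem isAffineMor_proj_of (aX : AlgGrp.Action G X)
    (h : RepByAlgSpWith IsAffineMor (FibCat.diag (FibCat.toSelf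
      (SpQuotSt Scheme.fppfPrecoverage ((overYon S).obj G) (yonAct aX))))) :
    IsAffineMor (IsoSec.proj : IsoSec.sheaf (trivA aX (snd X X)) (trivA aX (fst X X)) (𝟙 (X ⊗ X)) ⟶ _) := by
  have hiso : GrothLib.AlgSt.IsoInvariant (IsAffineMor : MorphismProperty (Sp S)) :=
    fun _ _ _ _ _ φ _ a ha => GrothLib.AlgSp.isAffineMor_iff.2
      ((MorphismProperty.cancel_left_of_respectsIso _ _ _).2 (GrothLib.AlgSp.isAffineMor_iff.1 ha))
  have h1 := mem_proj_of_diag (IsAlgSpace.yon_obj X : IsAlgSpace ((overYon S).obj X).left)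
    (IsAlgSpace.yon_obj _) (IsAlgSpace.yon_obj G : IsAlgSpace ((overYon S).obj G).left) hiso h
    (trivA aX (snd X X)) (trivA aX (fst X X)) (T := X ⊗ X) rfl rfl (topSp_hom_ext _ _)
    (trivF aX (snd X X)) (trivF aX (fst X X)) (trivK aX _) (trivK aX _) (trivK_base aX _) (trivK_base aX _)
    (trivK_natural aX _) (trivK_natural aX _)
  have e : (IsoSec.proj : IsoSec.sheaf (trivA aX (snd X X)) (trivA aX (fst X X)) (𝟙 (X ⊗ X)) ⟶ _) ≫
      (yon S).map (𝟙 (X ⊗ X)) = IsoSec.proj := by
    refine Eq.trans ?_ (Category.comp_id _)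
    exact congrArg (IsoSec.proj ≫ ·) ((yon S).map_id _)
  exact e ▸ h1

/-- If the quotient has affine diagonal, so does the scheme. -/
theorem isAffineHom_diag_of (aX : AlgGrp.Action G X) (hG : IsAffineHom G.hom)
    (h : RepByAlgSpWith IsAffineMor (FibCat.diag (FibCat.toSelf
      (SpQuotSt Scheme.fppfPrecoverage ((overYon S).obj G) (yonAct aX))))) :
    IsAffineHom (pullback.diagonal X.hom) := by
  obtain ⟨σ, hσ, hσφ₀⟩ := exists_unit_section (aX := yonAct aX) ((ofOverCat X).obj (Over.mk (snd X X)))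
  obtain ⟨σ', hσ', hσφ₀'⟩ := exists_unit_section (aX := yonAct aX) ((ofOverCat X).obj (Over.mk (fst X X)))
  have hσφ : σ ≫ (trivA aX (snd X X)).φ.left = (yon S).map (snd X X) := hσφ₀.trans (secYon_ofOverCat _)
  have hσφ' : σ' ≫ (trivA aX (fst X X)).φ.left = (yon S).map (fst X X) := hσφ₀'.trans (secYon_ofOverCat _)
  have hw : (σ' ≫ (trivA aX (fst X X)).φ.left) ≫ ((overYon S).obj X).hom =
      (σ ≫ (trivA aX (snd X X)).φ.left) ≫ ((overYon S).obj X).hom := topSp_hom_ext (T := X ⊗ X) _ _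
  have hp : IsPullback ((yon S).map (fst X X)) ((yon S).map (snd X X)) ((overYon S).obj X).hom
      ((overYon S).obj X).hom :=
    ((isPullback_fst_snd X X).map (yon S)).of_iso (Iso.refl _) (Iso.refl _) (Iso.refl _) (Iso.refl _)
      (by simp) (by simp) (topSp_hom_ext (T := X) _ _) (topSp_hom_ext (T := X) _ _)
  have hiso : IsIso (pullback.lift _ _ hw) := by
    have e : pullback.lift _ _ hw = hp.isoPullback.hom := by
      apply pullback.hom_ext
      · rw [pullback.lift_fst, IsPullback.isoPullback_hom_fst]; exact hσφ'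
      · rw [pullback.lift_snd, IsPullback.isoPullback_hom_snd]; exact hσφ
    rw [e]; infer_instance
  have h3 := repWith_diag_of_proj (Q := @IsAffineHom) (A := trivA aX (snd X X)) (A' := trivA aX (fst X X))
    (𝟙 (X ⊗ X)) (topSp_hom_ext _ _) σ hσ σ' hσ'
    (GrothLib.AlgSp.isAffineMor_iff.1 (isAffineMor_proj_of aX h)) (repWith_affine_of_section aX hG) hw hiso
  let d : X ⟶ X ⊗ X := lift (𝟙 X) (𝟙 X)
  have hd' : d.left = pullback.diagonal X.hom := by
    apply pullback.hom_ext <;> simp [d, pullback.diagonal] <;> rfl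
  refine hd' ▸ (repWith_yon_map_iff @IsAffineHom d).1 ?_
  refine (MorphismProperty.arrow_mk_iso_iff _ ?_).1 h3
  refine Arrow.isoMk (Iso.refl _) hp.isoPullback.symm ?_
  rw [Iso.refl_hom, Category.id_comp]
  change (yon S).map d = pullback.diagonal ((overYon S).obj X).hom ≫ hp.isoPullback.inv
  rw [Iso.eq_comp_inv]
  apply pullback.hom_ext <;> simp [pullback.diagonal, d, ← Functor.map_comp] <;> rfl

end GrothLib.SpQuot
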