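import Groth.Agent.Lib.SpQuot.IsomTorsor
import Groth.Agent.Lib.FibCat.Diag

/-!
# The diagonal of a classifying stack with sheaf torsors
-/

set_option backward.isDefEq.respectTransparency false
set_option backward.isDefEq.respectTransparency.types false

universe u

open CategoryTheory CategoryTheory.Limits MonoidalCategory CartesianMonoidalCategory MonObj GrpObj AlgebraicGeometry
open Opposite

namespace GrothLib.SpQuot

open _root_.AlgSp _root_.AlgSt

variable {S : Scheme.{u}} {B : Sp S} {G : Over B} [GrpObj G] {X : Over B} {aX : GAction G X}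

local notation "tS" => FibCat.toSelf (SpQuotSt Scheme.fppfPrecoverage G aX)

theorem exists_iso_over {A : SpQuotObj Scheme.fppfPrecoverage G aX} {y z : SpQuotObj Scheme.fppfPrecoverage G aX}
    (κ : z ⟶ A) (ψ : y ⟶ A) (e : y.base = z.base) (h : eqToHom e ≫ κ.base = ψ.base) :
    ∃ i : y ≅ z, i.hom.base = eqToHom e ∧ i.hom ≫ κ = ψ := by
  obtain ⟨l, hl1, hl2⟩ := exists_factor κ ψ (eqToHom e) h
  have : IsIso ((SpQuotSt Scheme.fppfPrecoverage G aX).p.map l) := by
    change IsIso l.base; rw [hl1]; infer_instance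
  have := (GrothLib.FibCat.IsFibGrpd.isIso_iff isFibGrpd l).2 inferInstance
  exact ⟨asIso l, hl1, hl2⟩

theorem inv_base {y z : SpQuotObj Scheme.fppfPrecoverage G aX} (i : y ≅ z) {e : y.base = z.base}
    (h : i.hom.base = eqToHom e) : i.inv.base = eqToHom e.symm := by
  have h1 : i.inv.base ≫ i.hom.base = 𝟙 _ := congrArg SpQuotObj.Hom.base i.inv_hom_id
  rw [h] at h1
  rw [← cancel_mono (eqToHom e), h1, eqToHom_trans, eqToHom_refl]

theorem IsoSec.comp_ψ {A A' : SpQuotObj Scheme.fppfPrecoverage G aX} {χ : A.base ⟶ A'.base}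
    {V V' : Over S} (s : IsoSec A A' χ V) (t : IsoSec A A' χ V') (m : V' ⟶ V) (e : t = s.res m)
    (l : restr A t.g ⟶ restr A s.g) (hb : l.base = m) (hl : l ≫ restrHom A s.g = restrHom A t.g) :
    l ≫ s.ψ = t.ψ := by
  subst e
  refine IsoSec.hom_eq _ _ ?_ fun W k q hq h' => ?_
  · rw [SpQuotObj.comp_base, hb, s.hψ, ← Category.assoc, IsoSec.res_g]
  · have hq' : (q ≫ l.top.left) ≫ (restr A s.g).π.left = (yon S).map (k ≫ m) := by
      rw [Category.assoc, hom_comm_left l, reassoc_of% hq, hb, Functor.map_comp]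
    rw [SpQuotObj.comp_top, Over.comp_left, ← Category.assoc, IsoSec.point_ψ s _ _ hq', IsoSec.ev_res]
    exact IsoSec.ev_congr rfl rfl (by rw [Category.assoc, ← Over.comp_left, ← SpQuotObj.comp_top, hl]) _ _

theorem IsoSec.eq_of_hom {A A' : SpQuotObj Scheme.fppfPrecoverage G aX} {χ : A.base ⟶ A'.base}
    {V : Over S} (s : IsoSec A A' χ V) (g : V ⟶ A.base) (hg : s.g = g) (ψ : restr A g ⟶ A')
    (hψ : ψ.base = g ≫ χ) (l : restr A g ⟶ restr A s.g) (hb : l.base = 𝟙 V)
    (hl : l ≫ restrHom A s.g = restrHom A g) (h : l ≫ s.ψ = ψ) : s = ⟨g, ψ, hψ⟩ := by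
  subst hg
  obtain ⟨g, ψ₀, hψ₀⟩ := s
  obtain ⟨l', -, hl'⟩ := exists_factor (restrHom A g) (restrHom A g) (𝟙 _) (Category.id_comp _)
  have : l = 𝟙 _ := by
    refine GrothLib.FibCat.IsFibGrpd.hom_ext' (isFibGrpd (aX := aX)) (restrHom A g) ?_ ?_
    · exact hb
    · rw [hl, Category.id_comp]
  subst this
  rw [Category.id_comp] at h
  subst h
  rfl

/-- The fibre of the diagonal is the sheaf of isomorphisms. -/
theorem exists_fp_diag {T : Over S} (y : FibCat.overCat T ⥤ᵇ FibCat.fp tS tS)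
    (A A' : SpQuotObj Scheme.fppfPrecoverage G aX) (hA : A.base = T) (hA' : A'.base = T)
    (κ : ∀ z : (FibCat.overCat T).obj, (y.obj z).obj.fst ⟶ A)
    (κ' : ∀ z : (FibCat.overCat T).obj, (y.obj z).obj.snd ⟶ A')
    (hf : ∀ z, (y.obj z).obj.fst.base = z.left) (hs : ∀ z, (y.obj z).obj.snd.base = z.left)
    (hκb : ∀ z, (κ z).base ≫ eqToHom hA = eqToHom (hf z) ≫ z.hom)
    (hκ'b : ∀ z, (κ' z).base ≫ eqToHom hA' = eqToHom (hs z) ≫ z.hom)
    (hκ : ∀ {z z' : (FibCat.overCat T).obj} (m : z ⟶ z'), (y.map m).hom.fst ≫ κ z' = κ z)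
    (hκ' : ∀ {z z' : (FibCat.overCat T).obj} (m : z ⟶ z'), (y.map m).hom.snd ≫ κ' z' = κ' z) :
    ∃ e : ofSp (IsoSec.sheaf A A' (eqToHom (hA.trans hA'.symm))) ⥤ᵇ FibCat.fp y (FibCat.diag tS),
      FibCat.IsEquivOver e ∧
        spMapOfOver (BasedFunctor.comp e (FibCat.fpFst y (FibCat.diag tS))) =
          IsoSec.proj ≫ (yon S).map (eqToHom hA) := by
  subst hA
  simp only [eqToHom_refl, Category.comp_id] at hκb
  let χ : A.base ⟶ A'.base := eqToHom hA'.symm
  let I := IsoSec.sheaf A A' χ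
  have hG := isFibGrpd (aX := aX)
  have hsec : ∀ a : (ofSp I).obj, IsoSec A A' χ a.base := fun a => a.sec
  let sc : ∀ a : (ofSp I).obj, IsoSec A A' χ a.base := fun a => a.sec
  have hresc : ∀ {a a' : (ofSp I).obj} (m : a ⟶ a'), sc a = (sc a').res m.hom := fun m => m.map_sec.symm
  let o : ∀ a : (ofSp I).obj, (FibCat.overCat A.base).obj := fun a => Over.mk (sc a).g
  have hi₁ : ∀ a : (ofSp I).obj, ∃ i : (y.obj (o a)).obj.fst ≅ restr A (sc a).g,
      i.hom.base = eqToHom (hf (o a)) ∧ i.hom ≫ restrHom A (sc a).g = κ (o a) := fun a =>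
    exists_iso_over (z := restr A (sc a).g) _ _ (hf (o a)) (by
      rw [restrHom_base]; exact (hκb (o a)).symm)
  have hi₂ : ∀ a : (ofSp I).obj, ∃ i : (y.obj (o a)).obj.snd ≅ restr A (sc a).g,
      i.hom.base = eqToHom (hs (o a)) ∧ i.hom ≫ (sc a).ψ = κ' (o a) := fun a =>
    exists_iso_over (z := restr A (sc a).g) _ _ (hs (o a)) (by
      rw [(sc a).hψ, ← cancel_mono (eqToHom hA')]
      simp only [χ, Category.assoc, eqToHom_trans, eqToHom_refl, Category.comp_id]
      exact (hκ'b (o a)).symm)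
  choose i₁ hi₁b hi₁h using hi₁
  choose i₂ hi₂b hi₂h using hi₂
  have hi : ∀ a : (ofSp I).obj, ∃ i : y.obj (o a) ≅ (FibCat.diag tS).obj (restr A (sc a).g),
      i.hom.hom.fst = (i₁ a).hom ∧ i.hom.hom.snd = (i₂ a).hom := fun a => by
    refine ⟨GrothLib.FibCat.Fp.isoMk (i₁ a) (i₂ a) ?_, rfl, rfl⟩
    rw [GrothLib.FibCat.diag_iso]
    change (i₁ a).hom.base ≫ 𝟙 _ = (y.obj (o a)).obj.iso.hom ≫ (i₂ a).hom.base
    have hj : (FibCat.selfOver (Over S)).p.IsHomLift (𝟙 ((y.obj (o a)).obj.fst.base)) (y.obj (o a)).obj.iso.hom :=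
      (y.obj (o a)).property
    rw [Category.comp_id, hi₁b, hi₂b, IsHomLift.fac' (FibCat.selfOver (Over S)).p
      (𝟙 ((y.obj (o a)).obj.fst.base)) (y.obj (o a)).obj.iso.hom |> fun h => (h : (y.obj (o a)).obj.iso.hom = _)]
    simp
  choose i hif his using hi
  let obj : (ofSp I).obj → (FibCat.fp y (FibCat.diag tS)).obj := fun a =>
    GrothLib.FibCat.Fp.mk (o a) (restr A (sc a).g) (i a) ((GrothLib.FibCat.Fp.isHomLift_iff _ _).2 (by
      rw [hif]
      exact (isHomLift_iff _ _ (hf (o a)) rfl).2 (by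
        simp only [eqToHom_refl, Category.comp_id]; exact (hi₁b a).trans (Category.comp_id _).symm)))
  have hg : ∀ {a a' : (ofSp I).obj} (m : a ⟶ a'), m.hom ≫ (sc a').g = (sc a).g := fun {a a'} m => by
    rw [hresc m, IsoSec.res_g]
  have hl : ∀ {a a' : (ofSp I).obj} (m : a ⟶ a'), ∃ l : restr A (sc a).g ⟶ restr A (sc a').g,
      l.base = m.hom ∧ l ≫ restrHom A (sc a').g = restrHom A (sc a).g := fun {a a'} m =>
    exists_factor (restrHom A (sc a').g) (restrHom A (sc a).g) m.hom (hg m)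
  choose l hlb hlh using @hl
  have hlψ : ∀ {a a' : (ofSp I).obj} (m : a ⟶ a'), l m ≫ (sc a').ψ = (sc a).ψ := fun {a a'} m =>
    IsoSec.comp_ψ (sc a') (sc a) m.hom (hresc m) (l m) (hlb m) (hlh m)
  have hlu : ∀ {a a' : (ofSp I).obj} (m : a ⟶ a') (l' : restr A (sc a).g ⟶ restr A (sc a').g),
      l'.base = m.hom → l' ≫ restrHom A (sc a').g = restrHom A (sc a).g → l' = l m := fun {a a'} m l' h1 h2 =>
    GrothLib.FibCat.IsFibGrpd.hom_ext' hG (restrHom A (sc a').g) (h1.trans (hlb m).symm) (h2.trans (hlh m).symm)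
  have hyb : ∀ {z z' : (FibCat.overCat A.base).obj} (k : z ⟶ z'),
      (y.map k).hom.fst.base ≫ eqToHom (hf z') = eqToHom (hf z) ≫ k.left ∧
        (y.map k).hom.snd.base ≫ eqToHom (hs z') = eqToHom (hs z) ≫ k.left := fun {z z'} k => by
    have h0 : (FibCat.fp tS tS).p.IsHomLift k.left (y.map k) :=
      have : (FibCat.overCat A.base).p.IsHomLift k.left k := IsHomLift.map (FibCat.overCat A.base).p k
      BasedFunctor.preserves_isHomLift y _ _
    exact ⟨(isHomLift_iff _ _ (hf z) (hf z')).1 ((GrothLib.FibCat.Fp.isHomLift_iff _ _).1 h0),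
      (isHomLift_iff _ _ (hs z) (hs z')).1 (GrothLib.FibCat.Fp.isHomLift_snd _ _ h0)⟩
  have hw : ∀ {a a' : (ofSp I).obj} (m : a ⟶ a'),
      y.map (Over.homMk m.hom (hg m) : o a ⟶ o a') ≫ (i a').hom = (i a).hom ≫ (FibCat.diag tS).map (l m) :=
    fun {a a'} m => by
      refine GrothLib.FibCat.Fp.hom_ext ?_ ?_
      · change (y.map _).hom.fst ≫ (i a').hom.hom.fst = (i a).hom.hom.fst ≫ l m
        rw [hif, hif]
        refine GrothLib.FibCat.IsFibGrpd.hom_ext' hG (restrHom A (sc a').g) ?_ ?_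
        · change (y.map _).hom.fst.base ≫ (i₁ a').hom.base = (i₁ a).hom.base ≫ (l m).base
          rw [hi₁b, hi₁b, hlb]
          exact (hyb _).1
        · rw [Category.assoc, hi₁h, Category.assoc, hlh, hi₁h]
          exact hκ _
      · change (y.map _).hom.snd ≫ (i a').hom.hom.snd = (i a).hom.hom.snd ≫ l m
        rw [his, his]
        refine GrothLib.FibCat.IsFibGrpd.hom_ext' hG (sc a').ψ ?_ ?_
        · change (y.map _).hom.snd.base ≫ (i₂ a').hom.base = (i₂ a).hom.base ≫ (l m).base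
          rw [hi₂b, hi₂b, hlb]
          exact (hyb _).2
        · rw [Category.assoc, hi₂h, Category.assoc, hlψ, hi₂h]
          exact hκ' _
  let e : ofSp I ⥤ᵇ FibCat.fp y (FibCat.diag tS) :=
    { toFunctor :=
        { obj := obj
          map := fun {a a'} m => GrothLib.FibCat.Fp.homMk (a := obj a) (b := obj a')
            (Over.homMk m.hom (hg m)) (l m) (hw m)
          map_id := fun a => GrothLib.FibCat.Fp.hom_ext (Over.OverMorphism.ext rfl)
            (hlu (𝟙 a) (𝟙 _) rfl (Category.id_comp _)).symm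
          map_comp := fun {a a' a''} m m' => GrothLib.FibCat.Fp.hom_ext (Over.OverMorphism.ext rfl)
            (hlu (m ≫ m') (l m ≫ l m') (by rw [SpQuotObj.comp_base, hlb, hlb]; rfl)
              (by rw [Category.assoc, hlh, hlh])).symm }
      w := rfl }
  refine ⟨e, GrothLib.FibCat.isEquivOver_iff e |>.2 ⟨⟨fun {a a'} f => ?_⟩, ⟨fun {a a' m m'} hm => ?_⟩,
    fun w => ?_⟩, ?_⟩
  · have hfst : (f.hom.fst.left ≫ (sc a').g) = (sc a).g := Over.w f.hom.fst
    have hlv : f.hom.snd.base = f.hom.fst.left := by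
      have hl0 := GrothLib.FibCat.Fp.isHomLift_snd f _ (IsHomLift.map (FibCat.fp y (FibCat.diag tS)).p f)
      exact ((Category.comp_id _).symm.trans
        ((isHomLift_iff ((FibCat.fp y (FibCat.diag tS)).p.map f) f.hom.snd rfl rfl).1 hl0)).trans (Category.id_comp _)
    have hw' := congrArg (fun t => t.hom.fst) f.hom.w
    change (y.map f.hom.fst).hom.fst ≫ (i a').hom.hom.fst = (i a).hom.hom.fst ≫ f.hom.snd at hw'
    have hw'' := congrArg (fun t => t.hom.snd) f.hom.w
    change (y.map f.hom.fst).hom.snd ≫ (i a').hom.hom.snd = (i a).hom.hom.snd ≫ f.hom.snd at hw''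
    rw [hif, hif] at hw'
    rw [his, his] at hw''
    have h1 : f.hom.snd ≫ restrHom A (sc a').g = restrHom A (sc a).g := by
      rw [← cancel_epi (i₁ a).hom, ← reassoc_of% hw', hi₁h a', hi₁h a]
      exact hκ f.hom.fst
    have h2 : f.hom.snd ≫ (sc a').ψ = (sc a).ψ := by
      rw [← cancel_epi (i₂ a).hom, ← reassoc_of% hw'', hi₂h a', hi₂h a]
      exact hκ' f.hom.fst
    have hres : sc a = (sc a').res f.hom.fst.left := by
      obtain ⟨l', hl'b, hl'⟩ := exists_factor (restrHom A (sc a').g)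
        (restrHom A ((sc a').res f.hom.fst.left).g) f.hom.fst.left (IsoSec.res_g _ _).symm
      have hψ' := IsoSec.comp_ψ (sc a') _ f.hom.fst.left rfl l' hl'b hl'
      obtain ⟨l₀, hl₀b, hl₀⟩ := exists_factor (restrHom A (sc a).g)
        (restrHom A ((sc a').res f.hom.fst.left).g) (𝟙 a.base)
        ((Category.id_comp _).trans (hfst.symm.trans (IsoSec.res_g _ _).symm))
      refine IsoSec.eq_of_hom (sc a) _ (hfst.symm.trans (IsoSec.res_g _ _).symm)
        ((sc a').res f.hom.fst.left).ψ ((sc a').res f.hom.fst.left).hψ l₀ hl₀b hl₀ ?_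
      rw [← h2, ← hψ', ← Category.assoc]
      congr 1
      refine GrothLib.FibCat.IsFibGrpd.hom_ext' hG (restrHom A (sc a').g) ?_ ?_
      · change l₀.base ≫ f.hom.snd.base = l'.base
        rw [hl₀b, hlv, hl'b]
        exact Category.id_comp _
      · rw [Category.assoc, h1, hl₀, hl']
    let m : a ⟶ a' := ⟨f.hom.fst.left, hres.symm⟩
    exact ⟨m, GrothLib.FibCat.Fp.hom_ext (Over.OverMorphism.ext rfl)
      (hlu m f.hom.snd hlv h1).symm⟩
  · exact Stk.EltObj.hom_ext (congrArg (fun t : obj a ⟶ obj a' => t.hom.fst.left) hm)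
  · obtain ⟨⟨z, s, j⟩, hj⟩ := w
    change (FibCat.fp tS tS).p.IsHomLift (𝟙 z.left) j.hom at hj
    have hj₁ := (GrothLib.FibCat.Fp.isHomLift_iff _ _).1 hj
    have hj₂ := GrothLib.FibCat.Fp.isHomLift_snd _ _ hj
    have hsz : s.base = z.left :=
      @IsHomLift.codomain_eq _ _ _ _ (SpQuotSt Scheme.fppfPrecoverage G aX).p _ _ _ _ (𝟙 z.left) j.hom.hom.fst hj₁
    have hj₁b : j.hom.hom.fst.base = eqToHom ((hf z).trans hsz.symm) := by
      have := (isHomLift_iff (𝟙 z.left) j.hom.hom.fst (hf z) hsz).1 hj₁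
      rw [Category.comp_id] at this
      rw [← cancel_mono (eqToHom hsz), eqToHom_trans]; exact this
    have hj₂b : j.hom.hom.snd.base = eqToHom ((hs z).trans hsz.symm) := by
      have := (isHomLift_iff (𝟙 z.left) j.hom.hom.snd (hs z) hsz).1 hj₂
      rw [Category.comp_id] at this
      rw [← cancel_mono (eqToHom hsz), eqToHom_trans]; exact this
    let j₁ : (y.obj z).obj.fst ≅ s := GrothLib.FibCat.Fp.isoFst j
    let j₂ : (y.obj z).obj.snd ≅ s := GrothLib.FibCat.Fp.isoSnd j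
    obtain ⟨θ, hθb, hθ⟩ := exists_iso_over (j₁.inv ≫ κ z) (restrHom A z.hom) (hsz.symm : z.left = s.base) (by
      rw [SpQuotObj.comp_base, inv_base j₁ hj₁b, restrHom_base, hκb, ← Category.assoc, ← Category.assoc,
        eqToHom_trans, eqToHom_trans, eqToHom_refl]
      exact Category.id_comp _)
    let ψ₀ : restr A z.hom ⟶ A' := θ.hom ≫ j₂.inv ≫ κ' z
    have hψ₀ : ψ₀.base = z.hom ≫ χ := by
      rw [← cancel_mono (eqToHom hA')]
      simp only [ψ₀, χ, SpQuotObj.comp_base, hθb, inv_base j₂ hj₂b, Category.assoc, eqToHom_trans, eqToHom_refl,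
        Category.comp_id, hκ'b]
      rw [← Category.assoc, ← Category.assoc]
      simp only [eqToHom_trans, eqToHom_refl]
      exact Category.id_comp _
    let a : (ofSp I).obj := ⟨z.left, (⟨z.hom, ψ₀, hψ₀⟩ : IsoSec A A' χ z.left)⟩
    refine ⟨a, GrothLib.FibCat.Fp.isoMk (a := obj a) (b := ⟨⟨z, s, j⟩, hj⟩) (Iso.refl z) θ ?_, ?_⟩
    · refine GrothLib.FibCat.Fp.hom_ext ?_ ?_
      · change (y.map (𝟙 z)).hom.fst ≫ j₁.hom = (i a).hom.hom.fst ≫ θ.hom
        rw [hif]
        refine GrothLib.FibCat.IsFibGrpd.hom_ext' hG (j₁.inv ≫ κ z) ?_ ?_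
        · change (y.map (𝟙 z)).hom.fst.base ≫ j₁.hom.base = (i₁ a).hom.base ≫ θ.hom.base
          have := (hyb (𝟙 z)).1
          rw [show j₁.hom.base = eqToHom (hf z) ≫ eqToHom hsz.symm by rw [eqToHom_trans]; exact hj₁b,
            reassoc_of% this, hi₁b, hθb]
          exact congrArg (eqToHom (hf z) ≫ ·) (Category.id_comp _)
        · rw [Category.assoc, Iso.hom_inv_id_assoc, hκ (𝟙 z), Category.assoc, hθ]
          exact (hi₁h a).symm
      · change (y.map (𝟙 z)).hom.snd ≫ j₂.hom = (i a).hom.hom.snd ≫ θ.hom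
        rw [his]
        refine GrothLib.FibCat.IsFibGrpd.hom_ext' hG (j₂.inv ≫ κ' z) ?_ ?_
        · change (y.map (𝟙 z)).hom.snd.base ≫ j₂.hom.base = (i₂ a).hom.base ≫ θ.hom.base
          have := (hyb (𝟙 z)).2
          rw [show j₂.hom.base = eqToHom (hs z) ≫ eqToHom hsz.symm by rw [eqToHom_trans]; exact hj₂b,
            reassoc_of% this, hi₂b, hθb]
          exact congrArg (eqToHom (hs z) ≫ ·) (Category.id_comp _)
        · rw [Category.assoc, Iso.hom_inv_id_assoc, hκ' (𝟙 z), Category.assoc]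
          exact (hi₂h a).symm
    · exact (GrothLib.FibCat.Fp.isHomLift_iff _ _).2 (IsHomLift.id rfl)
  · refine GrothLib.AlgSp.hom_ext fun V p => ?_
    rw [eqToHom_refl, (yon S).map_id]
    refine Eq.trans ?_ ((IsoSec.comp_proj p).symm.trans (congrArg (p ≫ ·) (Category.comp_id _).symm))
    apply (J S).uliftYonedaEquiv.injective
    rw [GrothendieckTopology.uliftYonedaEquiv_comp]
    refine Eq.trans ?_ (GrothendieckTopology.uliftYonedaEquiv_uliftYoneda_map (J S) (IsoSec.elt p).g).symm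
    change (⟨secHom (BasedFunctor.comp e (FibCat.fpFst y (FibCat.diag tS))) ⟨V, (J S).uliftYonedaEquiv p⟩⟩ :
      ULift (V ⟶ A.base)) = ⟨(IsoSec.elt p).g⟩
    exact congrArg ULift.up (Category.id_comp _)

/-- The diagonal of a classifying stack is representable, with the properties of the group. -/
theorem repByAlgSpWith_diag (hX : ∀ {Y : Over B} (a b : Y ⟶ X), a = b)
    (hterm : ∀ {T : Over S} (b b' : (yon S).obj T ⟶ B), b = b') (hB : IsAlgSpace B) (hG : IsAlgSpace G.left)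
    {P : MorphismProperty (Sp S)} [P.RespectsIso] (hloc : IsLocalOnBase IsFppfCover P)
    (hP : ∀ (V : Over S) (b : (yon S).obj V ⟶ B), P (pullback.snd G.hom b)) :
    RepByAlgSpWith P (FibCat.diag tS) := by
  intro T y
  let z₀ := GrothLib.FibCat.Yon.idObj T
  have hfst : ∀ z : (FibCat.overCat T).obj, (y.obj z).obj.fst.base = z.left := fun z => y.w_obj z
  have hsnd : ∀ z : (FibCat.overCat T).obj, (y.obj z).obj.snd.base = z.left := fun z =>
    (GrothLib.FibCat.Fp.snd_proj (y.obj z)).trans (hfst z)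
  let A := restr (y.obj z₀).obj.fst (eqToHom (hfst z₀).symm)
  let A' := restr (y.obj z₀).obj.snd (eqToHom (hsnd z₀).symm)
  obtain ⟨e₀, he₀, -⟩ := exists_factor (restrHom (y.obj z₀).obj.fst (eqToHom (hfst z₀).symm)) (𝟙 _)
    (eqToHom (hfst z₀)) (by
      rw [restrHom_base]
      exact (eqToHom_trans _ _).trans (eqToHom_refl _ _))
  obtain ⟨e₀', he₀', -⟩ := exists_factor (restrHom (y.obj z₀).obj.snd (eqToHom (hsnd z₀).symm)) (𝟙 _)
    (eqToHom (hsnd z₀)) (by
      rw [restrHom_base]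
      exact (eqToHom_trans _ _).trans (eqToHom_refl _ _))
  have hlift : ∀ z : (FibCat.overCat T).obj,
      (FibCat.fp tS tS).p.IsHomLift z.hom (y.map (GrothLib.FibCat.Yon.toId z)) := fun z =>
    have := GrothLib.FibCat.Yon.toId_lift z
    BasedFunctor.preserves_isHomLift y _ _
  obtain ⟨e, he, hmap⟩ := exists_fp_diag y A A' rfl rfl
    (fun z => (y.map (GrothLib.FibCat.Yon.toId z)).hom.fst ≫ e₀)
    (fun z => (y.map (GrothLib.FibCat.Yon.toId z)).hom.snd ≫ e₀') hfst hsnd
    (fun z => by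
      rw [eqToHom_refl, Category.comp_id, SpQuotObj.comp_base, he₀]
      exact (isHomLift_iff z.hom _ (hfst z) (hfst z₀)).1 ((GrothLib.FibCat.Fp.isHomLift_iff _ _).1 (hlift z)))
    (fun z => by
      rw [eqToHom_refl, Category.comp_id, SpQuotObj.comp_base, he₀']
      exact (isHomLift_iff z.hom _ (hsnd z) (hsnd z₀)).1 (GrothLib.FibCat.Fp.isHomLift_snd _ _ (hlift z)))
    (fun {z z'} m => by
      have h0 : y.map m ≫ y.map (GrothLib.FibCat.Yon.toId z') = y.map (GrothLib.FibCat.Yon.toId z) := by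
        rw [← y.map_comp, GrothLib.FibCat.Yon.map_comp_toId]
      rw [← Category.assoc]
      exact congrArg (· ≫ e₀) (congrArg (fun t => t.hom.fst) h0))
    (fun {z z'} m => by
      have h0 : y.map m ≫ y.map (GrothLib.FibCat.Yon.toId z') = y.map (GrothLib.FibCat.Yon.toId z) := by
        rw [← y.map_comp, GrothLib.FibCat.Yon.map_comp_toId]
      rw [← Category.assoc]
      exact congrArg (· ≫ e₀') (congrArg (fun t => t.hom.snd) h0))
  have hb : (yon S).map (eqToHom (rfl.trans rfl : A.base = A'.base)) ≫ A'.b = A.b := hterm _ _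
  refine ⟨⟨_, IsoSec.isAlgSpace_sheaf hX hB hG hb⟩, e, he, ?_⟩
  have hmap' : spMapOfOver (BasedFunctor.comp e (FibCat.fpFst y (FibCat.diag tS))) = IsoSec.proj :=
    hmap.trans ((congrArg (IsoSec.proj ≫ ·) ((yon S).map_id _)).trans (Category.comp_id _))
  exact hmap'.symm ▸ IsoSec.mem_proj hX hB hG hloc hP hb

end GrothLib.SpQuot
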