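import Groth.Agent.Lib.SpQuot.IsomGen
import Groth.Agent.Lib.SpQuot.DiagRep
import Groth.Agent.Lib.FibCat.Diag

/-!
# The diagonal of a quotient stack
-/

set_option backward.isDefEq.respectTransparency false
set_option backward.isDefEq.respectTransparency.types false

universe u

open CategoryTheory CategoryTheory.Limits MonoidalCategory CartesianMonoidalCategory MonObj GrpObj AlgebraicGeometry
open Opposite

namespace GrothLib.SpQuot

open _root_.AlgSp _root_.AlgSt

variable {S : Scheme.{u}} {B : Sp S} {G : Over B} [GrpObj G] {X : Over B} {aX : GAction G X}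

local notation "tS" => FibCat.toSelf (SpQuotSt Scheme.fppfPrecoverage G aX)

/-- The diagonal of a quotient stack is representable, with the properties of the group and of the diagonal of the space. -/
theorem repByAlgSpWith_diag' (hXs : IsAlgSpace X.left)
    (hterm : ∀ {T : Over S} (b b' : (yon S).obj T ⟶ B), b = b') (hB : IsAlgSpace B) (hG : IsAlgSpace G.left)
    {P : MorphismProperty (Sp S)} [P.RespectsIso] (hloc : IsLocalOnBase IsFppfCover P)
    (hcomp : ∀ (Q : SpQuotObj Scheme.fppfPrecoverage G aX) {E : Sp S} (n : E ⟶ Q.P.left) (c : E ⟶ X.left)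
      (d : Q.P.left ⟶ pullback X.hom X.hom), IsPullback n c d (pullback.diagonal X.hom) → P (n ≫ Q.π.left)) :
    RepByAlgSpWith P (FibCat.diag tS) := by
  intro T y
  let z₀ := GrothLib.FibCat.Yon.idObj T
  have hfst : ∀ z : (FibCat.overCat T).obj, (y.obj z).obj.fst.base = z.left := fun z => y.w_obj z
  have hsnd : ∀ z : (FibCat.overCat T).obj, (y.obj z).obj.snd.base = z.left := fun z =>
    (GrothLib.FibCat.Fp.snd_proj (y.obj z)).trans (hfst z)
  let A := restr (y.obj z₀).obj.fst (eqToHom (hfst z₀).symm)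
  let A' := restr (y.obj z₀).obj.snd (eqToHom (hsnd z₀).symm)
  obtain ⟨e₀, he₀, -⟩ := exists_factor (restrHom (y.obj z₀).obj.fst (eqToHom (hfst z₀).symm)) (𝟙 _)
    (eqToHom (hfst z₀)) (by
      rw [restrHom_base]
      exact (eqToHom_trans _ _).trans (eqToHom_refl _ _))
  obtain ⟨e₀', he₀', -⟩ := exists_factor (restrHom (y.obj z₀).obj.snd (eqToHom (hsnd z₀).symm)) (𝟙 _)
    (eqToHom (hsnd z₀)) (by
      rw [restrHom_base]
      exact (eqToHom_trans _ _).trans (eqToHom_refl _ _))
  have hlift : ∀ z : (FibCat.overCat T).obj,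
      (FibCat.fp tS tS).p.IsHomLift z.hom (y.map (GrothLib.FibCat.Yon.toId z)) := fun z =>
    have := GrothLib.FibCat.Yon.toId_lift z
    BasedFunctor.preserves_isHomLift y _ _
  obtain ⟨e, he, hmap⟩ := exists_fp_diag y A A' rfl rfl
    (fun z => (y.map (GrothLib.FibCat.Yon.toId z)).hom.fst ≫ e₀)
    (fun z => (y.map (GrothLib.FibCat.Yon.toId z)).hom.snd ≫ e₀') hfst hsnd
    (fun z => by
      rw [eqToHom_refl, Category.comp_id, SpQuotObj.comp_base, he₀]
      exact (isHomLift_iff z.hom _ (hfst z) (hfst z₀)).1 ((GrothLib.FibCat.Fp.isHomLift_iff _ _).1 (hlift z)))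
    (fun z => by
      rw [eqToHom_refl, Category.comp_id, SpQuotObj.comp_base, he₀']
      exact (isHomLift_iff z.hom _ (hsnd z) (hsnd z₀)).1 (GrothLib.FibCat.Fp.isHomLift_snd _ _ (hlift z)))
    (fun {z z'} m => by
      have h0 : y.map m ≫ y.map (GrothLib.FibCat.Yon.toId z') = y.map (GrothLib.FibCat.Yon.toId z) := by
        rw [← y.map_comp, GrothLib.FibCat.Yon.map_comp_toId]
      rw [← Category.assoc]
      exact congrArg (· ≫ e₀) (congrArg (fun t => t.hom.fst) h0))
    (fun {z z'} m => by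
      have h0 : y.map m ≫ y.map (GrothLib.FibCat.Yon.toId z') = y.map (GrothLib.FibCat.Yon.toId z) := by
        rw [← y.map_comp, GrothLib.FibCat.Yon.map_comp_toId]
      rw [← Category.assoc]
      exact congrArg (· ≫ e₀') (congrArg (fun t => t.hom.snd) h0))
  have hb : (yon S).map (eqToHom (rfl.trans rfl : A.base = A'.base)) ≫ A'.b = A.b := hterm _ _
  refine ⟨⟨_, IsoSec.isAlgSpace_sheaf' hXs hB hG hb⟩, e, he, ?_⟩
  have hmap' : spMapOfOver (BasedFunctor.comp e (FibCat.fpFst y (FibCat.diag tS))) = IsoSec.proj :=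
    hmap.trans ((congrArg (IsoSec.proj ≫ ·) ((yon S).map_id _)).trans (Category.comp_id _))
  exact hmap'.symm ▸ IsoSec.mem_proj' hXs hB hG hloc hcomp hb

end GrothLib.SpQuot
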