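import Groth.Agent.Lib.SpQuot.Torsor

/-!
# Morphisms out of a sheaf glued from a cartesian family over a covering sieve
-/

set_option backward.isDefEq.respectTransparency false
set_option backward.isDefEq.respectTransparency.types false

universe u

open CategoryTheory CategoryTheory.Limits MonoidalCategory CartesianMonoidalCategory MonObj GrpObj AlgebraicGeometry

namespace GrothLib.SpQuot

open _root_.AlgSp

variable {S : Scheme.{u}} {B : Sp S}

/-- A sheaf over `B` and a scheme `U` presented by its restrictions to the members of a sieve. -/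
structure Fam (Q : Over B) {U : Over S} (R : Sieve U) where
  π : Q.left ⟶ (yon S).obj U
  P : ∀ ⦃V : Over S⦄ (f : V ⟶ U), R.arrows f → Over B
  πP : ∀ ⦃V : Over S⦄ (f : V ⟶ U) (hf : R.arrows f), (P f hf).left ⟶ (yon S).obj V
  j : ∀ ⦃V : Over S⦄ (f : V ⟶ U) (hf : R.arrows f), P f hf ⟶ Q
  cart : ∀ ⦃V : Over S⦄ (f : V ⟶ U) (hf : R.arrows f), IsPullback (j f hf).left (πP f hf) π ((yon S).map f)

namespace Fam

variable {Q : Over B} {U : Over S} {R : Sieve U} (F : Fam Q R)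

theorem hom_ext (hR : R ∈ J S U) {Y : Over B} {k k' : Q ⟶ Y}
    (h : ∀ ⦃V : Over S⦄ (f : V ⟶ U) (hf : R.arrows f), F.j f hf ≫ k = F.j f hf ≫ k') : k = k' := by
  ext1
  refine hom_ext_small hR F.π fun V x hx => ?_
  obtain ⟨f, hf, e⟩ := small_iff.1 hx
  have e' : x ≫ F.π = 𝟙 _ ≫ (yon S).map f := by rw [Category.id_comp, e]
  have h2 := congrArg CommaMorphism.left (h f hf)
  simp only [Over.comp_left] at h2
  rw [← (F.cart f hf).lift_fst x (𝟙 _) e', Category.assoc, Category.assoc, h2]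

theorem exists_hom (hR : R ∈ J S U) {Y : Over B}
    (k : ∀ ⦃V : Over S⦄ (f : V ⟶ U) (hf : R.arrows f), F.P f hf ⟶ Y)
    (hk : ∀ ⦃V' V : Over S⦄ (h : V' ⟶ V) (f' : V' ⟶ U) (hf' : R.arrows f') (f : V ⟶ U) (hf : R.arrows f)
      (_ : h ≫ f = f') ⦃T : Over S⦄ (p : (yon S).obj T ⟶ (F.P f' hf').left) (q : (yon S).obj T ⟶ (F.P f hf).left),
      p ≫ (F.j f' hf').left = q ≫ (F.j f hf).left → q ≫ F.πP f hf = p ≫ F.πP f' hf' ≫ (yon S).map h →
        p ≫ (k f' hf').left = q ≫ (k f hf).left) :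
    ∃ K : Q ⟶ Y, ∀ ⦃V : Over S⦄ (f : V ⟶ U) (hf : R.arrows f), F.j f hf ≫ K = k f hf := by
  have hwit : ∀ ⦃V : Over S⦄ (x : (yon S).obj V ⟶ Q.left), Small R F.π x →
      ∃ (f : V ⟶ U) (hf : R.arrows f) (p : (yon S).obj V ⟶ (F.P f hf).left),
        p ≫ (F.j f hf).left = x ∧ p ≫ F.πP f hf = 𝟙 _ := fun V x hx => by
    obtain ⟨f, hf, e⟩ := small_iff.1 hx
    have e' : x ≫ F.π = 𝟙 _ ≫ (yon S).map f := by rw [Category.id_comp, e]
    exact ⟨f, hf, (F.cart f hf).lift x (𝟙 _) e', (F.cart f hf).lift_fst _ _ _, (F.cart f hf).lift_snd _ _ _⟩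
  choose f hf p hp1 hp2 using hwit
  have hind : ∀ ⦃V : Over S⦄ (x : (yon S).obj V ⟶ Q.left) (hx : Small R F.π x) ⦃W : Over S⦄ (f₁ : W ⟶ U)
      (hf₁ : R.arrows f₁) (q : (yon S).obj V ⟶ (F.P f₁ hf₁).left), q ≫ (F.j f₁ hf₁).left = x →
        q ≫ (k f₁ hf₁).left = p x hx ≫ (k (f x hx) (hf x hx)).left := fun V x hx W f₁ hf₁ q hq => by
    obtain ⟨h, hh⟩ := (yon S).map_surjective (q ≫ F.πP f₁ hf₁)
    refine (hk h (f x hx) (hf x hx) f₁ hf₁ ?_ (p x hx) q ((hp1 x hx).trans hq.symm) ?_).symm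
    · apply (yon S).map_injective
      rw [Functor.map_comp, hh, Category.assoc, ← (F.cart f₁ hf₁).w, ← Category.assoc, hq]
      refine (congrArg (· ≫ F.π) (hp1 x hx).symm).trans ?_
      rw [Category.assoc, (F.cart _ _).w, reassoc_of% (hp2 x hx)]
    · rw [reassoc_of% (hp2 x hx), hh]
  obtain ⟨K, hK, -⟩ := existsUnique_hom_of_small (Y := Y.left) hR F.π
    (fun V x hx => p x hx ≫ (k (f x hx) (hf x hx)).left) fun W V g x hx => by
      rw [← Category.assoc, hind ((yon S).map g ≫ x) (hx.of_comp g) (f x hx) (hf x hx) ((yon S).map g ≫ p x hx)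
        (by rw [Category.assoc, hp1])]
  have hw : K ≫ Y.hom = Q.hom := hom_ext_small hR F.π fun V x hx => by
    rw [reassoc_of% (hK x hx), Over.w (k _ _), ← Over.w (F.j _ _), reassoc_of% (hp1 x hx)]
  refine ⟨Over.homMk K hw, fun V f₁ hf₁ => ?_⟩
  ext1
  refine GrothLib.AlgSp.hom_ext fun T q => ?_
  change q ≫ (F.j f₁ hf₁).left ≫ K = _
  have hs : Small R F.π (q ≫ (F.j f₁ hf₁).left) := small_iff.2
    ⟨(yon S).preimage (q ≫ F.πP f₁ hf₁) ≫ f₁, R.downward_closed hf₁ _, by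
      rw [Category.assoc, (F.cart f₁ hf₁).w, Functor.map_comp, Functor.map_preimage, Category.assoc]⟩
  rw [← Category.assoc, hK _ hs, hind _ hs f₁ hf₁ q rfl]

/-- Tensoring a family with a sheaf over `B`. -/
noncomputable abbrev tensor (W : Over B) (F : Fam Q R) : Fam (W ⊗ Q) R where
  π := (snd W Q).left ≫ F.π
  P _ f hf := W ⊗ F.P f hf
  πP _ f hf := (snd W (F.P f hf)).left ≫ F.πP f hf
  j _ f hf := W ◁ F.j f hf
  cart _ f hf :=
    ((AlgSt.isPullback_whiskerLeft' (G := W) (F.j f hf)).map (Over.forget B)).paste_vert (F.cart f hf)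

end Fam

end GrothLib.SpQuot
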