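import Groth.Prelude.Def_AlgSpGpd
import Groth.Agent.Lib.AlgSp.Rep

/-!
# Points of fppf sheaves glue; morphisms out of a sheaf over a covered scheme glue
-/

set_option backward.isDefEq.respectTransparency false
set_option backward.isDefEq.respectTransparency.types false

universe u

open CategoryTheory CategoryTheory.Limits AlgebraicGeometry Opposite

namespace GrothLib.SpQuot

open _root_.AlgSp

variable {S : Scheme.{u}}

theorem sec_comp {V W : Over S} (g : W ⟶ V) {F : Sp S} (x : (yon S).obj V ⟶ F) :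
    (J S).uliftYonedaEquiv ((yon S).map g ≫ x) = F.obj.map g.op ((J S).uliftYonedaEquiv x) :=
  ((J S).uliftYonedaEquiv_naturality x g).symm

/-- Points glue along covering sieves. -/
theorem existsUnique_glue {F : Sp S} {V : Over S} {K : Sieve V} (hK : K ∈ J S V)
    (y : ∀ ⦃W : Over S⦄ (g : W ⟶ V), K.arrows g → ((yon S).obj W ⟶ F))
    (hy : ∀ ⦃W' W : Over S⦄ (h : W' ⟶ W) (g : W ⟶ V) (hg : K.arrows g),
      (yon S).map h ≫ y g hg = y (h ≫ g) (K.downward_closed hg h)) :
    ∃! x : (yon S).obj V ⟶ F, ∀ ⦃W : Over S⦄ (g : W ⟶ V) (hg : K.arrows g), (yon S).map g ≫ x = y g hg := by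
  let fam : Presieve.FamilyOfElements F.obj K.arrows := fun W g hg => (J S).uliftYonedaEquiv (y g hg)
  have hfam : fam.Compatible := by
    rw [Presieve.compatible_iff_sieveCompatible]
    intro W W' g h hg
    change (J S).uliftYonedaEquiv (y (h ≫ g) _) = F.obj.map h.op ((J S).uliftYonedaEquiv (y g hg))
    rw [← sec_comp, hy h g hg]
  obtain ⟨t, ht, htu⟩ := ((isSheaf_iff_isSheaf_of_type _ _).1 F.property K hK) fam hfam
  refine ⟨(J S).uliftYonedaEquiv.symm t, fun W g hg => ?_, fun x hx => ?_⟩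
  · apply (J S).uliftYonedaEquiv.injective
    rw [sec_comp, Equiv.apply_symm_apply]
    exact ht g hg
  · rw [Equiv.eq_symm_apply]
    refine htu _ fun W g hg => ?_
    change F.obj.map g.op ((J S).uliftYonedaEquiv x) = fam g hg
    rw [← sec_comp, hx g hg]

theorem hom_ext_cover {F : Sp S} {V : Over S} {K : Sieve V} (hK : K ∈ J S V) {x x' : (yon S).obj V ⟶ F}
    (h : ∀ ⦃W : Over S⦄ (g : W ⟶ V), K.arrows g → (yon S).map g ≫ x = (yon S).map g ≫ x') : x = x' :=
  (existsUnique_glue hK (fun W g _ => (yon S).map g ≫ x') fun W' W k g hg => by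
    rw [Functor.map_comp, Category.assoc]).unique h fun _ _ _ => rfl

/-- A natural family of maps on points is a morphism. -/
theorem existsUnique_hom_of_points {F Y : Sp S}
    (m : ∀ ⦃V : Over S⦄, ((yon S).obj V ⟶ F) → ((yon S).obj V ⟶ Y))
    (hm : ∀ ⦃W V : Over S⦄ (g : W ⟶ V) (x : (yon S).obj V ⟶ F),
      m ((yon S).map g ≫ x) = (yon S).map g ≫ m x) :
    ∃! f : F ⟶ Y, ∀ ⦃V : Over S⦄ (x : (yon S).obj V ⟶ F), x ≫ f = m x := by
  let f : F ⟶ Y := ⟨{
    app := fun T => TypeCat.ofHom (fun s =>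
      (J S).uliftYonedaEquiv (m ((J S).uliftYonedaEquiv.symm s : (yon S).obj T.unop ⟶ F)))
    naturality := fun T T' g => by
      ext s
      change (J S).uliftYonedaEquiv (m ((J S).uliftYonedaEquiv.symm (F.obj.map g s) : (yon S).obj T'.unop ⟶ F)) =
        Y.obj.map g.unop.op ((J S).uliftYonedaEquiv (m ((J S).uliftYonedaEquiv.symm s : (yon S).obj T.unop ⟶ F)))
      rw [← sec_comp, ← hm, GrothendieckTopology.uliftYonedaEquiv_symm_map] }⟩
  have hf : ∀ ⦃V : Over S⦄ (x : (yon S).obj V ⟶ F), x ≫ f = m x := fun V x => by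
    apply (J S).uliftYonedaEquiv.injective
    rw [GrothendieckTopology.uliftYonedaEquiv_comp]
    change (J S).uliftYonedaEquiv (m ((J S).uliftYonedaEquiv.symm ((J S).uliftYonedaEquiv x))) = _
    rw [Equiv.symm_apply_apply]
  exact ⟨f, hf, fun f' hf' => GrothLib.AlgSp.hom_ext fun T p => by rw [hf' p, hf p]⟩

/-- A point of a sheaf over `h_U` lies over a sieve. -/
def Small {U : Over S} (R : Sieve U) {F : Sp S} (π : F ⟶ (yon S).obj U) {V : Over S}
    (x : (yon S).obj V ⟶ F) : Prop :=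
  R.arrows ((yon S).preimage (x ≫ π))

theorem preimage_map_comp {U V W : Over S} {F : Sp S} (π : F ⟶ (yon S).obj U) (g : W ⟶ V)
    (x : (yon S).obj V ⟶ F) :
    (yon S).preimage (((yon S).map g ≫ x) ≫ π) = g ≫ (yon S).preimage (x ≫ π) := by
  apply (yon S).map_injective
  rw [Functor.map_preimage, Functor.map_comp, Functor.map_preimage, Category.assoc]

theorem small_iff {U : Over S} {R : Sieve U} {F : Sp S} {π : F ⟶ (yon S).obj U} {V : Over S}
    {x : (yon S).obj V ⟶ F} : Small R π x ↔ ∃ f : V ⟶ U, R.arrows f ∧ x ≫ π = (yon S).map f :=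
  ⟨fun h => ⟨_, h, ((yon S).map_preimage _).symm⟩, fun ⟨f, hf, e⟩ => by
    rw [Small, e, Functor.preimage_map]; exact hf⟩

theorem Small.of_comp {U : Over S} {R : Sieve U} {F : Sp S} {π : F ⟶ (yon S).obj U} {V W : Over S}
    {x : (yon S).obj V ⟶ F} (h : Small R π x) (g : W ⟶ V) : Small R π ((yon S).map g ≫ x) := by
  rw [Small, preimage_map_comp]
  exact R.downward_closed h g

theorem small_map_comp {U : Over S} {R : Sieve U} {F : Sp S} {π : F ⟶ (yon S).obj U} {V W : Over S}
    {x : (yon S).obj V ⟶ F} {g : W ⟶ V} :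
    Small R π ((yon S).map g ≫ x) ↔ (R.pullback ((yon S).preimage (x ≫ π))).arrows g := by
  rw [Small, preimage_map_comp]
  rfl

theorem hom_ext_small {U : Over S} {R : Sieve U} (hR : R ∈ J S U) {F Y : Sp S} (π : F ⟶ (yon S).obj U)
    {f f' : F ⟶ Y} (h : ∀ ⦃V : Over S⦄ (x : (yon S).obj V ⟶ F), Small R π x → x ≫ f = x ≫ f') : f = f' :=
  GrothLib.AlgSp.hom_ext fun V x =>
    hom_ext_cover (GrothendieckTopology.pullback_stable _ ((yon S).preimage (x ≫ π)) hR) fun W g hg => by
      simpa only [Category.assoc] using h _ (small_map_comp.2 hg)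

/-- Morphisms out of a sheaf over `h_U` glue along a covering sieve of `U`. -/
theorem existsUnique_hom_of_small {U : Over S} {R : Sieve U} (hR : R ∈ J S U) {F Y : Sp S}
    (π : F ⟶ (yon S).obj U)
    (m : ∀ ⦃V : Over S⦄ (x : (yon S).obj V ⟶ F), Small R π x → ((yon S).obj V ⟶ Y))
    (hm : ∀ ⦃W V : Over S⦄ (g : W ⟶ V) (x : (yon S).obj V ⟶ F) (hx : Small R π x),
      m ((yon S).map g ≫ x) (hx.of_comp g) = (yon S).map g ≫ m x hx) :
    ∃! f : F ⟶ Y, ∀ ⦃V : Over S⦄ (x : (yon S).obj V ⟶ F) (hx : Small R π x), x ≫ f = m x hx := by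
  have hcongr : ∀ ⦃V : Over S⦄ {x x' : (yon S).obj V ⟶ F} (_ : x = x') (hx : Small R π x)
      (hx' : Small R π x'), m x hx = m x' hx' := by
    intro V x x' e hx hx'; subst e; rfl
  have hex : ∀ ⦃V : Over S⦄ (x : (yon S).obj V ⟶ F), ∃! y : (yon S).obj V ⟶ Y,
      ∀ ⦃W : Over S⦄ (g : W ⟶ V) (hg : (R.pullback ((yon S).preimage (x ≫ π))).arrows g),
        (yon S).map g ≫ y = m ((yon S).map g ≫ x) (small_map_comp.2 hg) := fun V x =>
    existsUnique_glue (GrothendieckTopology.pullback_stable _ _ hR) _ fun W' W h g hg => by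
      rw [← hm h _ (small_map_comp.2 hg)]
      exact hcongr (by rw [Functor.map_comp, Category.assoc]) _ _
  obtain ⟨f, hf, -⟩ := existsUnique_hom_of_points (fun V x => (hex x).choose) fun W V g x => by
    refine ((hex ((yon S).map g ≫ x)).choose_spec.2 _ fun W' h hh => ?_).symm
    have hh' : (R.pullback ((yon S).preimage (x ≫ π))).arrows (h ≫ g) := by
      rw [preimage_map_comp] at hh
      simpa only [Sieve.pullback_apply, Category.assoc] using hh
    rw [← Category.assoc, ← Functor.map_comp, (hex x).choose_spec.1 _ hh']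
    exact hcongr (by rw [Functor.map_comp, Category.assoc]) _ _
  have hfm : ∀ ⦃V : Over S⦄ (x : (yon S).obj V ⟶ F) (hx : Small R π x), x ≫ f = m x hx := by
    intro V x hx
    rw [hf x]
    refine hom_ext_cover (GrothendieckTopology.pullback_stable _ ((yon S).preimage (x ≫ π)) hR) fun W g hg => ?_
    rw [(hex x).choose_spec.1 g hg, hm g x hx]
  exact ⟨f, hfm, fun f' hf' => hom_ext_small hR π fun V x hx => by rw [hf' x hx, hfm x hx]⟩

section Over

variable {B : Sp S}

theorem over_hom_ext {X Y : Over B} {f g : X ⟶ Y}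
    (h : ∀ ⦃V : Over S⦄ (b : (yon S).obj V ⟶ B) (p : Over.mk b ⟶ X), p ≫ f = p ≫ g) : f = g := by
  ext1
  refine GrothLib.AlgSp.hom_ext fun V x => ?_
  exact congrArg CommaMorphism.left (h (x ≫ X.hom) (Over.homMk x rfl))

end Over

end GrothLib.SpQuot
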