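import Groth.Agent.Lib.SpQuot.CompareMap

/-!
# Maps out of quotient stacks into sheaves
-/

set_option backward.isDefEq.respectTransparency false
set_option backward.isDefEq.respectTransparency.types false

universe u

open CategoryTheory CategoryTheory.Limits MonoidalCategory CartesianMonoidalCategory MonObj GrpObj AlgebraicGeometry
open Opposite

namespace GrothLib.SpQuot

open _root_.AlgSp _root_.AlgSt

section General

variable {S : Scheme.{u}} {B : Sp S} {G : Over B} [GrpObj G] {X : Over B} {aX : GAction G X}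

/-- An invariant map to a sheaf descends along a torsor. -/
theorem existsUnique_desc {M : Sp S} (f : X.left ⟶ M) (hf : aX.act.left ≫ f = (snd G X).left ≫ f)
    (A : SpQuotObj Scheme.fppfPrecoverage G aX) :
    ∃! m : (yon S).obj A.base ⟶ M, A.π.left ≫ m = A.φ.left ≫ f := by
  have key : ∀ ⦃W : Over S⦄ (s s' : (yon S).obj W ⟶ A.P.left), s' ≫ A.π.left = s ≫ A.π.left →
      s' ≫ A.φ.left ≫ f = s ≫ A.φ.left ≫ f := fun W s s' h => by
    let Z : Over B := Over.mk (s ≫ A.P.hom)
    let x : Z ⟶ A.P := Over.homMk s rfl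
    let y : Z ⟶ A.P := Over.homMk s' (by
      change s' ≫ A.P.hom = s ≫ A.P.hom
      rw [← Over.w A.π, reassoc_of% h])
    obtain ⟨g, hg, -⟩ := existsUnique_gm A.act A.cart x y (Over.OverMorphism.ext h)
    have h1 : y ≫ A.φ = gm aX g (x ≫ A.φ) := by rw [← hg]; exact gm_comp A.act (a' := aX) A.eqv g x
    have h2 := congrArg (fun t => t.left ≫ f) h1
    simp only [Over.comp_left, Category.assoc] at h2
    refine h2.trans ?_
    rw [gm, Over.comp_left, Category.assoc, hf, ← Category.assoc, ← Over.comp_left, lift_snd, Over.comp_left,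
      Category.assoc]
    rfl
  have hR := secSieve_mem A
  have hch : ∀ ⦃W : Over S⦄ (g : W ⟶ A.base), (secSieve A.π.left).arrows g →
      ∃ s : (yon S).obj W ⟶ A.P.left, s ≫ A.π.left = (yon S).map g := fun W g hg => hg
  choose s hs using hch
  obtain ⟨m, hm, huniq⟩ := existsUnique_glue hR (fun W g hg => s g hg ≫ A.φ.left ≫ f) fun W' W k g hg => by
    rw [← Category.assoc]
    exact key _ _ (by rw [Category.assoc, hs, hs, Functor.map_comp])
  refine ⟨m, GrothLib.AlgSp.hom_ext fun W p => ?_, fun m' hm' => huniq m' fun W g hg => ?_⟩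
  · obtain ⟨g, hg⟩ := (yon S).map_surjective (p ≫ A.π.left)
    rw [← Category.assoc, ← hg, hm g ⟨p, hg.symm⟩]
    exact key _ _ (by rw [hs, hg])
  · rw [← hs g hg, Category.assoc, hm']

theorem desc_comp {M : Sp S} (f : X.left ⟶ M) (hf : aX.act.left ≫ f = (snd G X).left ≫ f)
    {A A' : SpQuotObj Scheme.fppfPrecoverage G aX} (φ : A ⟶ A') {m : (yon S).obj A.base ⟶ M}
    {m' : (yon S).obj A'.base ⟶ M} (h : A.π.left ≫ m = A.φ.left ≫ f) (h' : A'.π.left ≫ m' = A'.φ.left ≫ f) :
    (yon S).map φ.base ≫ m' = m := by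
  refine (existsUnique_desc f hf A).unique ?_ h
  rw [← reassoc_of% (hom_comm_left φ), h', ← φ.wφ, Over.comp_left, Category.assoc]

theorem sec_comp' {M : Sp S} {V' V : Over S} (g : V' ⟶ V) (x : (yon S).obj V ⟶ M) :
    M.obj.map g.op ((J S).uliftYonedaEquiv x) = (J S).uliftYonedaEquiv ((yon S).map g ≫ x) :=
  (sec_comp g x).symm

/-- Functors over the base into the category of a sheaf agree if they agree on objects. -/
theorem basedFunctor_ext_ofSp {𝒳 : _root_.AlgSt.Cat S} {M : Sp S} {F F' : 𝒳 ⥤ᵇ ofSp M}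
    (h : ∀ a, (F.obj a).base = (F'.obj a).base ∧ HEq (F.obj a).sec (F'.obj a).sec) : F = F' := by
  have ho : ∀ a, F.obj a = F'.obj a := fun a => by
    obtain ⟨h1, h2⟩ := h a
    revert h1 h2
    generalize F.obj a = u
    generalize F'.obj a = v
    obtain ⟨T, s⟩ := u
    obtain ⟨T', s'⟩ := v
    rintro (rfl : T = T') h2
    exact congrArg (Stk.EltObj.mk T) (eq_of_heq h2)
  have hF : F.toFunctor = F'.toFunctor := by
    refine CategoryTheory.Functor.ext ho fun a a' φ => Stk.EltObj.hom_ext ?_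
    have h1 := Functor.congr_hom F.w φ
    have h2 := Functor.congr_hom F'.w φ
    change (F.map φ).hom = _ at h1
    change (F'.map φ).hom = _ at h2
    refine h1.trans ?_
    change _ = (eqToHom (ho a) ≫ F'.map φ ≫ eqToHom (ho a').symm).hom
    rw [Stk.EltObj.comp_hom, Stk.EltObj.comp_hom, h2,
      show (eqToHom (ho a)).hom = eqToHom (congrArg (·.base) (ho a)) from eqToHom_map (Stk.EltObj.forget M.obj) _,
      show (eqToHom (ho a').symm).hom = eqToHom (congrArg (·.base) (ho a').symm) from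
        eqToHom_map (Stk.EltObj.forget M.obj) _]
    simp
  obtain ⟨Ff, wF⟩ := F
  obtain ⟨Ff', wF'⟩ := F'
  cases hF
  rfl

theorem eq_sec_of_obj_eq {M : Sp S} (u : (ofSp M).obj) {T : Over S} {s : M.obj.obj (op T)} (hu : u = ⟨T, s⟩)
    {v : (ofSp M).obj} {V : Over S} {t : M.obj.obj (op V)} {g : V ⟶ T} (e₁ : V = v.base) (e₂ : T = u.base)
    (hv : v = ⟨V, t⟩) {k : v.base ⟶ u.base} (hk : M.obj.map k.op u.sec = v.sec)
    (hg : g = eqToHom e₁ ≫ k ≫ eqToHom e₂.symm) : M.obj.map g.op s = t := by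
  subst hu hv
  simp only [eqToHom_refl, Category.id_comp, Category.comp_id] at hg
  subst hg
  exact hk

end General

attribute [local instance] grpYon

variable {S : Scheme.{u}} {G : Over S} [GrpObj G] {X : Over S} {aX : AlgGrp.Action G X}

theorem yonAct_invariant {M : Sp S} (f : (yon S).obj X ⟶ M)
    (hf : (yon S).map aX.act ≫ f = (yon S).map (snd G X) ≫ f) :
    (yonAct aX).act.left ≫ (f : ((overYon S).obj X).left ⟶ M) =
      (snd ((overYon S).obj G) ((overYon S).obj X)).left ≫ f := by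
  rw [← Functor.Monoidal.μ_snd (overYon S) G X, yonAct_act, Over.comp_left, Over.comp_left, Category.assoc,
    Category.assoc]
  exact congrArg ((Functor.LaxMonoidal.μ (overYon S) G X).left ≫ ·) hf

variable (aX)

/-- The section of the sheaf over the base of a torsor. -/
theorem exists_desc {M : Sp S} (f : (yon S).obj X ⟶ M)
    (hf : (yon S).map aX.act ≫ f = (yon S).map (snd G X) ≫ f) (A : QuotObj Scheme.fppfPrecoverage G aX) :
    ∃! m : (yon S).obj A.base ⟶ M, (yon S).map A.π ≫ m = (yon S).map A.φ ≫ f :=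
  existsUnique_desc f (yonAct_invariant f hf) ((compare G X aX).obj A)

/-- The functor out of the quotient given by an invariant map. -/
noncomputable def outFunctor {M : Sp S} (f : (yon S).obj X ⟶ M)
    (hf : (yon S).map aX.act ≫ f = (yon S).map (snd G X) ≫ f) :
    QuotSt Scheme.fppfPrecoverage G aX ⥤ᵇ ofSp M where
  toFunctor :=
    { obj := fun A => ⟨A.base, (J S).uliftYonedaEquiv (exists_desc aX f hf A).choose⟩
      map := fun {A A'} φ => ⟨φ.base, (sec_comp' φ.base _).trans (congrArg _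
        (desc_comp (X := (overYon S).obj X) (A := (compare G X aX).obj A) (A' := (compare G X aX).obj A') f (yonAct_invariant f hf) ((compare G X aX).map φ)
          (exists_desc aX f hf A).choose_spec.1 (exists_desc aX f hf A').choose_spec.1))⟩
      map_id := fun _ => Stk.EltObj.hom_ext rfl
      map_comp := fun _ _ => Stk.EltObj.hom_ext rfl }
  w := rfl

theorem quotMap_outFunctor {M : Sp S} (f : (yon S).obj X ⟶ M)
    (hf : (yon S).map aX.act ≫ f = (yon S).map (snd G X) ≫ f) :
    BasedFunctor.comp (quotMap Scheme.fppfPrecoverage G aX) (outFunctor aX f hf) = ofSpMap f := by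
  refine GrothLib.SpQuot.basedFunctor_ext_ofSp fun a => ?_
  refine ⟨rfl, ?_⟩
  have hinv : (yon S).map ((G ◁ a.sec.down) ≫ aX.act) ≫ f = (yon S).map (snd G a.base) ≫ (yon S).map a.sec.down ≫ f := by
    rw [Functor.map_comp, Category.assoc, hf, ← Functor.map_comp_assoc, ← Functor.map_comp_assoc, whiskerLeft_snd]
  have h := (exists_desc aX f hf ((quotMap Scheme.fppfPrecoverage G aX).obj a)).unique
    (exists_desc aX f hf ((quotMap Scheme.fppfPrecoverage G aX).obj a)).choose_spec.1
    (y₂ := (yon S).map a.sec.down ≫ f) hinv.symm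
  refine heq_of_eq ?_
  change (J S).uliftYonedaEquiv _ = f.hom.app (op a.base) a.sec
  rw [h, GrothendieckTopology.uliftYonedaEquiv_comp]
  exact congrArg (f.hom.app (op a.base)) (GrothendieckTopology.uliftYonedaEquiv_uliftYoneda_map (J S) a.sec.down)

/-- The section given by a functor out of the quotient, at a point of the torsor. -/
theorem sec_spec {M : Sp S} (f : (yon S).obj X ⟶ M)
    (φ : QuotSt Scheme.fppfPrecoverage G aX ⥤ᵇ ofSp M)
    (h : BasedFunctor.comp (quotMap Scheme.fppfPrecoverage G aX) φ = ofSpMap f)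
    (A : QuotObj Scheme.fppfPrecoverage G aX) {s : M.obj.obj (op A.base)} (hs : φ.obj A = ⟨A.base, s⟩)
    {V : Over S} (x : V ⟶ A.P) :
    (yon S).map (x ≫ A.π) ≫ (J S).uliftYonedaEquiv.symm s = (yon S).map (x ≫ A.φ) ≫ f := by
  let a : (ofSch X).obj := ⟨V, ⟨x ≫ A.φ⟩⟩
  let A' := (compare G X aX).obj A
  let b : (ofSp A'.P.left).obj := ⟨V, (J S).uliftYonedaEquiv ((yon S).map x)⟩
  have hb : (imgX A' b).sec = a.sec := by
    change ((yon S).map A.φ).hom.app (op V) ((J S).uliftYonedaEquiv ((yon S).map x)) = ⟨x ≫ A.φ⟩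
    rw [← GrothendieckTopology.uliftYonedaEquiv_comp, ← Functor.map_comp]
    exact GrothendieckTopology.uliftYonedaEquiv_uliftYoneda_map (J S) (x ≫ A.φ)
  have : IsIso (trivHom aX (imgX A' b)) :=
    have := (isHomLift_iff (𝟙 (imgX A' b).base) (trivHom aX (imgX A' b)) rfl rfl).2 (by simp [trivHom]; rfl)
    GrothLib.FibCat.IsFibGrpd.isIso_of_isHomLift_id (isFibGrpd (aX := yonAct aX)) (R := (imgX A' b).base) _
  let ψ : (quotMap Scheme.fppfPrecoverage G aX).obj (imgX A' b) ⟶ A :=
    (compare G X aX).toFunctor.preimage (inv (trivHom aX (imgX A' b)) ≫ orbitHom A' b)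
  have hψ : ψ.base = x ≫ A.π := by
    have h1 : (inv (trivHom aX (imgX A' b)) ≫ orbitHom A' b).base = ψ.base :=
      congrArg SpQuotObj.Hom.base ((compare G X aX).toFunctor.map_preimage _).symm
    have h2 : (trivHom aX (imgX A' b) ≫ inv (trivHom aX (imgX A' b)) ≫ orbitHom A' b).base = (orbitHom A' b).base := by
      rw [IsIso.hom_inv_id_assoc]
    refine ((h1.symm.trans (Category.id_comp _).symm).trans ((congrArg (· ≫ (inv (trivHom aX (imgX A' b)) ≫ orbitHom A' b).base)
      (trivHom_base aX (imgX A' b)).symm).trans h2)).trans ((yon S).map_injective ?_)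
    change (yon S).map ((yon S).preimage (ptX A' b ≫ (yon S).map A.π)) = _
    rw [Functor.map_preimage, Functor.map_comp]
    exact congrArg (· ≫ (yon S).map A.π) (Equiv.symm_apply_apply _ _)
  have hm := (φ.map ψ).map_sec
  have hbase : ∀ {Z Z' : (QuotSt Scheme.fppfPrecoverage G aX).obj} (t : Z ⟶ Z'),
      (φ.map t).hom = eqToHom (φ.w_obj Z) ≫ t.base ≫ eqToHom (φ.w_obj Z').symm := fun t =>
    Functor.congr_hom φ.w t
  rw [hbase] at hm
  have h0 : φ.obj ((quotMap Scheme.fppfPrecoverage G aX).obj (imgX A' b)) = (ofSpMap f).obj (imgX A' b) :=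
    congrArg (fun F => F.obj (imgX A' b)) h
  rw [← hψ]
  apply (J S).uliftYonedaEquiv.injective
  refine ((sec_comp _ _).trans ?_).trans (GrothendieckTopology.uliftYonedaEquiv_comp (J S) _ f).symm
  refine (congrArg (M.obj.map ψ.base.op) (Equiv.apply_symm_apply _ _)).trans ?_
  refine (eq_sec_of_obj_eq (φ.obj A) hs (φ.w_obj _).symm (φ.w_obj _).symm h0 hm (by simp)).trans ?_
  exact congrArg (f.hom.app (op V))
    (hb.trans (GrothendieckTopology.uliftYonedaEquiv_uliftYoneda_map (J S) (x ≫ A.φ)).symm)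

theorem eq_outFunctor {M : Sp S} (f : (yon S).obj X ⟶ M)
    (hf : (yon S).map aX.act ≫ f = (yon S).map (snd G X) ≫ f)
    (φ : QuotSt Scheme.fppfPrecoverage G aX ⥤ᵇ ofSp M)
    (h : BasedFunctor.comp (quotMap Scheme.fppfPrecoverage G aX) φ = ofSpMap f) : φ = outFunctor aX f hf := by
  refine GrothLib.SpQuot.basedFunctor_ext_ofSp fun A => ?_
  obtain ⟨T, s, hT, hs⟩ : ∃ (T : Over S) (s : M.obj.obj (op T)) (hT : T = A.base),
      φ.obj A = ⟨T, s⟩ := ⟨_, _, φ.w_obj A, rfl⟩
  subst hT
  rw [hs]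
  refine ⟨rfl, heq_of_eq ?_⟩
  change s = (J S).uliftYonedaEquiv (exists_desc aX f hf A).choose
  rw [← Equiv.symm_apply_eq]
  refine (exists_desc aX f hf A).unique ?_ (exists_desc aX f hf A).choose_spec.1
  refine GrothLib.AlgSp.hom_ext fun V p => ?_
  obtain ⟨x, hx⟩ := (yon S).map_surjective p
  subst hx
  rw [← Functor.map_comp_assoc, ← Functor.map_comp_assoc]
  exact sec_spec aX f φ h A hs x

/-- Isomorphic functors into the category of a sheaf are equal. -/
theorem eq_of_iso_ofSp {𝒳 : _root_.AlgSt.Cat S} {M : Sp S} {F F' : 𝒳 ⥤ᵇ ofSp M} (i : F ≅ F') : F = F' := by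
  refine basedFunctor_ext_ofSp fun a => ?_
  have hl : (ofSp M).p.IsHomLift (𝟙 (𝒳.p.obj a)) (i.hom.toNatTrans.app a) := BasedNatTrans.isHomLift i.hom rfl
  have hh := IsHomLift.fac' (ofSp M).p (𝟙 (𝒳.p.obj a)) (i.hom.toNatTrans.app a)
  change (i.hom.toNatTrans.app a).hom = _ at hh
  rw [Category.id_comp, eqToHom_trans] at hh
  have key : ∀ {u v : (ofSp M).obj} (g : u ⟶ v) (e : u.base = v.base), g.hom = eqToHom e → HEq u.sec v.sec := by
    rintro ⟨T, s⟩ ⟨T', s'⟩ g (rfl : T = T') hg
    have := g.map_sec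
    rw [hg] at this
    refine heq_of_eq ?_
    simpa using this.symm
  exact ⟨(F.w_obj a).trans (F'.w_obj a).symm, key _ _ hh⟩

/-- A functor out of the quotient restricts to an invariant map. -/
theorem invariant_of_functor {M : Sp S} (f : (yon S).obj X ⟶ M)
    (φ : QuotSt Scheme.fppfPrecoverage G aX ⥤ᵇ ofSp M)
    (h : BasedFunctor.comp (quotMap Scheme.fppfPrecoverage G aX) φ = ofSpMap f) :
    (yon S).map aX.act ≫ f = (yon S).map (snd G X) ≫ f := by
  let A := (quotMap Scheme.fppfPrecoverage G aX).obj ⟨X, ⟨𝟙 X⟩⟩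
  have hobj : φ.obj A = ⟨X, f.hom.app (op X) ⟨𝟙 X⟩⟩ :=
    congrArg (fun F : ofSch X ⥤ᵇ ofSp M => F.obj ⟨X, ⟨𝟙 X⟩⟩) h
  have hs : φ.obj A = ⟨A.base, f.hom.app (op X) ⟨𝟙 X⟩⟩ := hobj
  have hm : (J S).uliftYonedaEquiv.symm (f.hom.app (op X) ⟨𝟙 X⟩ : M.obj.obj (op X)) = f := by
    apply (J S).uliftYonedaEquiv.injective
    rw [Equiv.apply_symm_apply]
    refine Eq.trans ?_ (congrArg (J S).uliftYonedaEquiv (Category.id_comp f))
    rw [GrothendieckTopology.uliftYonedaEquiv_comp]
    refine congrArg (f.hom.app (op X)) ?_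
    exact ((congrArg (J S).uliftYonedaEquiv ((yon S).map_id X).symm).trans
      (GrothendieckTopology.uliftYonedaEquiv_uliftYoneda_map (J S) (𝟙 X))).symm
  have h1 := sec_spec aX f φ h A hs (𝟙 (G ⊗ X))
  have hπ : A.π = snd G X := rfl
  have hφ : A.φ = aX.act := by
    change (G ◁ 𝟙 X) ≫ aX.act = aX.act
    rw [MonoidalCategory.whiskerLeft_id, Category.id_comp]
  rw [hπ, hφ] at h1
  simp only [Category.id_comp] at h1
  exact h1.symm.trans (congrArg ((yon S).map (snd G X) ≫ ·) hm)

end GrothLib.SpQuot
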