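import Groth.Agent.Lib.SpQuot.IsomTorsor

/-!
# The sheaf of isomorphisms with a map to a space with action
-/

set_option backward.isDefEq.respectTransparency false
set_option backward.isDefEq.respectTransparency.types false

universe u

open CategoryTheory CategoryTheory.Limits MonoidalCategory CartesianMonoidalCategory MonObj GrpObj AlgebraicGeometry
open Opposite

namespace GrothLib.SpQuot

open _root_.AlgSp _root_.AlgSt

variable {S : Scheme.{u}} {B : Sp S} {G : Over B} [GrpObj G] {X : Over B} {aX : GAction G X}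

namespace IsoSec

variable {A A' : SpQuotObj Scheme.fppfPrecoverage G aX} {χ : A.base ⟶ A'.base}

/-- Isomorphisms out of a trivialised torsor are points. -/
theorem existsUnique_of_point' (hb : (yon S).map χ ≫ A'.b = A.b)
    {W : Over S} (g : W ⟶ A.base) (σ : (yon S).obj W ⟶ A.P.left) (hσ : σ ≫ A.π.left = (yon S).map g)
    (y : (yon S).obj W ⟶ A'.P.left) (hy : y ≫ A'.π.left = (yon S).map (g ≫ χ))
    (hφ : y ≫ A'.φ.left = σ ≫ A.φ.left) :
    ∃ ψ : restr A g ⟶ A', ψ.base = g ≫ χ ∧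
      (∀ q : (yon S).obj W ⟶ (restr A g).P.left, q ≫ (restrHom A g).top.left = σ →
        q ≫ (restr A g).π.left = (yon S).map (𝟙 W) → q ≫ ψ.top.left = y) ∧
      ∀ ψ' : restr A g ⟶ A', ψ'.base = g ≫ χ →
        (∀ q : (yon S).obj W ⟶ (restr A g).P.left, q ≫ (restrHom A g).top.left = σ →
          q ≫ (restr A g).π.left = (yon S).map (𝟙 W) → q ≫ ψ'.top.left = y) → ψ' = ψ := by
  let R := restr A g
  let β : (yon S).obj W ⟶ B := R.b
  let q₀ : (yon S).obj W ⟶ R.P.left := (isPullback_left (restrHom A g)).lift σ ((yon S).map (𝟙 W)) (by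
    rw [hσ, restrHom_base, ← Functor.map_comp]
    exact congrArg _ (Category.id_comp _).symm)
  have hq₀ : q₀ ≫ R.π.left = (yon S).map (𝟙 W) := (isPullback_left (restrHom A g)).lift_snd _ _ _
  have hq₀' : q₀ ≫ (restrHom A g).top.left = σ := (isPullback_left (restrHom A g)).lift_fst _ _ _
  have hq₀b : q₀ ≫ R.P.hom = β := by
    rw [← Over.w R.π, reassoc_of% hq₀]
    exact (congrArg (· ≫ β) ((yon S).map_id W)).trans (Category.id_comp _)
  let τ : Over.mk β ⟶ R.P := Over.homMk q₀ hq₀b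
  have hsqo : IsPullback (orbitMap R.act τ).left (snd G (Over.mk β)).left R.π.left ((yon S).map (𝟙 W)) :=
    isPullback_orbitMap R τ (𝟙 W) hq₀
  have : IsIso ((yon S).map (𝟙 W)) := inferInstance
  have : IsIso (orbitMap R.act τ).left := hsqo.isIso_fst_of_isIso
  have hio : IsIso (orbitMap R.act τ) := by
    have : IsIso ((Over.forget B).map (orbitMap R.act τ)) := inferInstanceAs (IsIso (orbitMap R.act τ).left)
    exact isIso_of_reflects_iso (orbitMap R.act τ) (Over.forget B)
  have hyb : y ≫ A'.P.hom = β := by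
    rw [← Over.w A'.π, reassoc_of% hy]
    change _ ≫ A'.b = (yon S).map g ≫ A.b
    rw [Functor.map_comp, Category.assoc, hb]
  let υ : Over.mk β ⟶ A'.P := Over.homMk y hyb
  have hυ : υ.left ≫ A'.π.left = (yon S).map (g ≫ χ) := hy
  let top : R.P ⟶ A'.P := inv (orbitMap R.act τ) ≫ orbitMap A'.act υ
  have htop : orbitMap R.act τ ≫ top = orbitMap A'.act υ := IsIso.hom_inv_id_assoc _ _
  have hτtop : τ ≫ top = υ := by
    rw [← unit_orbitMap R.act τ, Category.assoc, htop, unit_orbitMap]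
  have hcomm : top.left ≫ A'.π.left = R.π.left ≫ (yon S).map (g ≫ χ) := by
    rw [← cancel_epi (orbitMap R.act τ).left, ← Category.assoc, ← Over.comp_left, htop,
      (isPullback_orbitMap A' υ (g ≫ χ) hυ).w, ← Category.assoc, hsqo.w, Category.assoc, ← Functor.map_comp]
    exact congrArg (fun t => _ ≫ (yon S).map t) (Category.id_comp _).symm
  have heqv : R.act.act ≫ top = (G ◁ top) ≫ A'.act.act := by
    rw [← cancel_epi (G ◁ orbitMap R.act τ), ← Category.assoc, ← orbitMap_eqv, Category.assoc, htop, orbitMap_eqv,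
      ← MonoidalCategory.whiskerLeft_comp_assoc, htop]
  have hwb : (yon S).map (g ≫ χ) ≫ A'.b = R.b := by
    rw [Functor.map_comp, Category.assoc, hb]; rfl
  have hwφ : top ≫ A'.φ = R.φ := by
    rw [← cancel_epi (orbitMap R.act τ), reassoc_of% htop, orbitMap, orbitMap, Category.assoc, Category.assoc,
      A'.eqv, R.eqv, ← MonoidalCategory.whiskerLeft_comp_assoc, ← MonoidalCategory.whiskerLeft_comp_assoc]
    refine congrArg (fun t => (G ◁ t) ≫ aX.act) (Over.OverMorphism.ext ?_)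
    rw [Over.comp_left, Over.comp_left]
    change y ≫ A'.φ.left = q₀ ≫ R.φ.left
    rw [hφ, ← (restrHom A g).wφ, Over.comp_left, reassoc_of% hq₀']
  refine ⟨mkHom (g ≫ χ) hwb top hcomm heqv hwφ, rfl, fun q h1 h2 => ?_, fun ψ' hb' hψ' => ?_⟩
  · have hq : q = q₀ := (isPullback_left (restrHom A g)).hom_ext (h1.trans hq₀'.symm) (h2.trans hq₀.symm)
    subst hq
    exact congrArg CommaMorphism.left hτtop
  · refine SpQuotObj.hom_ext hb' ?_
    change ψ'.top = top
    have h3 : τ ≫ ψ'.top = υ := by ext1; exact hψ' q₀ hq₀' hq₀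
    rw [← cancel_epi (orbitMap R.act τ), htop, orbitMap_eq, gm_top, Category.assoc, h3, ← orbitMap_eq]

/-- The sheaf of isomorphisms, restricted along a point of the source, is the restricted target. -/
theorem exists_isPullback_diag (hb : (yon S).map χ ≫ A'.b = A.b)
    {V : Over S} (f : V ⟶ A.base) (σ : (yon S).obj V ⟶ A.P.left) (hσ : σ ≫ A.π.left = (yon S).map f) :
    ∃ (m : pullback (proj : sheaf A A' χ ⟶ _) ((yon S).map f) ⟶ (restr A' (f ≫ χ)).P.left)
      (hab : ((restrHom A' (f ≫ χ)).top.left ≫ A'.φ.left) ≫ X.hom =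
        ((restr A' (f ≫ χ)).π.left ≫ σ ≫ A.φ.left) ≫ X.hom),
      m ≫ (restr A' (f ≫ χ)).π.left = pullback.snd _ _ ∧
        IsPullback m (m ≫ (restrHom A' (f ≫ χ)).top.left ≫ A'.φ.left)
          (pullback.lift _ _ hab) (pullback.diagonal X.hom) := by
  have hg : ∀ ⦃W : Over S⦄ (p : (yon S).obj W ⟶ pullback (proj : sheaf A A' χ ⟶ _) ((yon S).map f)),
      (elt (p ≫ pullback.fst _ _)).g = (yon S).preimage (p ≫ pullback.snd _ _) ≫ f := fun W p => by
    apply (yon S).map_injective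
    rw [← comp_proj, Functor.map_comp, Functor.map_preimage, Category.assoc, pullback.condition, Category.assoc]
  obtain ⟨m, hm, -⟩ := existsUnique_hom_of_points (Y := A'.P.left)
    (fun W p => (elt (p ≫ pullback.fst (proj : sheaf A A' χ ⟶ _) ((yon S).map f))).ev (𝟙 W)
      ((yon S).map ((yon S).preimage (p ≫ pullback.snd _ _)) ≫ σ)
      (by rw [Category.assoc, hσ, ← Functor.map_comp, Category.id_comp, hg p]))
    fun W' W h p => by
      rw [map_ev]
      have e : elt (((yon S).map h ≫ p) ≫ pullback.fst (proj : sheaf A A' χ ⟶ _) ((yon S).map f)) =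
          (elt (p ≫ pullback.fst _ _)).res h := by
        rw [Category.assoc, elt_comp]
      refine (ev_congr e rfl ?_ _ (by
        simp only [Category.assoc, hσ, Category.id_comp, res_g, hg p, ← Functor.map_comp])).trans ((ev_res _ _ _ _ _).trans (ev_congr rfl ?_ rfl _ _))
      · rw [preimage_map_comp, Functor.map_comp, Category.assoc]
      · exact (Category.id_comp h).trans (Category.comp_id h).symm
  have hw : m ≫ A'.π.left = pullback.snd _ _ ≫ (yon S).map (f ≫ χ) := GrothLib.AlgSp.hom_ext fun W p => by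
    rw [reassoc_of% (hm p), ev_π, Category.id_comp, hg p, Category.assoc, Functor.map_comp, Functor.map_preimage,
      Category.assoc]
  have hab : ((restrHom A' (f ≫ χ)).top.left ≫ A'.φ.left) ≫ X.hom =
      ((restr A' (f ≫ χ)).π.left ≫ σ ≫ A.φ.left) ≫ X.hom := by
    simp only [Category.assoc]
    rw [Over.w A'.φ, Over.w A.φ, ← Over.w A'.π, ← Over.w A.π, reassoc_of% (hom_comm_left (restrHom A' (f ≫ χ))),
      reassoc_of% hσ, restrHom_base]
    change _ ≫ _ ≫ A'.b = _ ≫ (yon S).map f ≫ A.b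
    rw [← hb, Functor.map_comp, Category.assoc]
  have hQ := isPullback_left (restrHom A' (f ≫ χ))
  let n : pullback (proj : sheaf A A' χ ⟶ _) ((yon S).map f) ⟶ (restr A' (f ≫ χ)).P.left :=
    hQ.lift m (pullback.snd _ _) (by rw [hw, restrHom_base])
  have hn1 : n ≫ (restrHom A' (f ≫ χ)).top.left = m := hQ.lift_fst _ _ _
  have hn2 : n ≫ (restr A' (f ≫ χ)).π.left = pullback.snd _ _ := hQ.lift_snd _ _ _
  have hφev : m ≫ A'.φ.left = pullback.snd _ _ ≫ σ ≫ A.φ.left := GrothLib.AlgSp.hom_ext fun W p => by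
    rw [reassoc_of% (hm p), ev, Category.assoc, ← Over.comp_left, (elt (p ≫ pullback.fst _ _)).ψ.wφ,
      ← (restrHom A (elt (p ≫ pullback.fst _ _)).g).wφ, Over.comp_left,
      (isPullback_left (restrHom A (elt (p ≫ pullback.fst _ _)).g)).lift_fst_assoc, Functor.map_preimage]
    simp only [Category.assoc]
  refine ⟨n, hab, hn2, ?_⟩
  have hcomm : n ≫ pullback.lift _ _ hab = (n ≫ (restrHom A' (f ≫ χ)).top.left ≫ A'.φ.left) ≫ pullback.diagonal X.hom := by
    apply pullback.hom_ext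
    · simp only [Category.assoc, pullback.lift_fst, pullback.diagonal_fst, Category.comp_id]
    · simp only [Category.assoc, pullback.lift_snd, pullback.diagonal_snd, Category.comp_id]
      rw [reassoc_of% hn1, reassoc_of% hn2, hφev]
  refine GrothLib.AlgSp.isPullback_of_yon hcomm fun W q z e => ?_
  obtain ⟨k, hk⟩ := (yon S).map_surjective (q ≫ (restr A' (f ≫ χ)).π.left)
  have hσk : ((yon S).map k ≫ σ) ≫ A.π.left = (yon S).map (k ≫ f) := by
    rw [Category.assoc, hσ, ← Functor.map_comp]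
  have hz1 : z = q ≫ (restrHom A' (f ≫ χ)).top.left ≫ A'.φ.left := by
    simpa using (congrArg (· ≫ pullback.fst _ _) e).symm
  have hz2 : z = q ≫ (restr A' (f ≫ χ)).π.left ≫ σ ≫ A.φ.left := by
    simpa using (congrArg (· ≫ pullback.snd _ _) e).symm
  have hy : (q ≫ (restrHom A' (f ≫ χ)).top.left) ≫ A'.π.left = (yon S).map ((k ≫ f) ≫ χ) := by
    rw [Category.assoc, hQ.w, ← reassoc_of% hk, restrHom_base]
    simp only [Functor.map_comp, Category.assoc]
  obtain ⟨ψ, hψ, hψv, hψu⟩ := existsUnique_of_point' hb (k ≫ f) _ hσk (q ≫ (restrHom A' (f ≫ χ)).top.left) hy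
    (by rw [Category.assoc, ← hz1, hz2, Category.assoc, ← reassoc_of% hk])
  let s : IsoSec A A' χ W := ⟨k ≫ f, ψ, hψ⟩
  have hs : pt s ≫ proj = (yon S).map k ≫ (yon S).map f := by
    rw [comp_proj, elt_pt, ← Functor.map_comp]
  let x := pullback.lift (pt s) ((yon S).map k) hs
  have hx2 : x ≫ pullback.snd _ _ = (yon S).map k := pullback.lift_snd _ _ _
  have hxm : x ≫ m = q ≫ (restrHom A' (f ≫ χ)).top.left := by
    rw [hm x]
    refine (ev_congr (s' := s) (by rw [show x ≫ pullback.fst _ _ = pt s from pullback.lift_fst _ _ _, elt_pt]) rfl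
      ?_ _ ?_).trans (hψv _ ((isPullback_left (restrHom A (k ≫ f))).lift_fst _ _ _)
        ((isPullback_left (restrHom A (k ≫ f))).lift_snd _ _ _))
    · rw [hx2, Functor.preimage_map]
    · rw [hσk]; exact congrArg _ (Category.id_comp _).symm
  have hxn : x ≫ n = q := hQ.hom_ext (by rw [Category.assoc, hn1, hxm]) (by rw [Category.assoc, hn2, hx2, hk])
  refine ⟨x, ⟨hxn, by rw [reassoc_of% hxn, hz1]⟩, fun x' hx' => ?_⟩
  have hx'2 : x' ≫ pullback.snd _ _ = (yon S).map k := by rw [← hn2, reassoc_of% hx'.1, hk]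
  have hx'm : x' ≫ m = q ≫ (restrHom A' (f ≫ χ)).top.left := by rw [← hn1, reassoc_of% hx'.1]
  refine pullback.hom_ext ?_ (hx'2.trans hx2.symm)
  rw [show x ≫ pullback.fst _ _ = pt s from pullback.lift_fst _ _ _]
  refine elt_injective ((?_ : _ = s).trans (elt_pt s).symm)
  have hg' : (elt (x' ≫ pullback.fst _ _)).g = k ≫ f := by rw [hg x', hx'2, Functor.preimage_map]
  obtain ⟨t, ht⟩ : ∃ t, elt (x' ≫ pullback.fst _ _) = t := ⟨_, rfl⟩
  rw [ht] at hg' ⊢
  obtain ⟨g', ψ', hψ'⟩ := t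
  obtain rfl : g' = k ≫ f := hg'
  have : ψ' = ψ := hψu ψ' hψ' fun r h1 h2 => by
    refine Eq.trans ?_ hx'm
    rw [hm x', point_ψ ⟨k ≫ f, ψ', hψ'⟩ r (𝟙 W) h2]
    refine ev_congr ht.symm rfl ?_ _ _
    rw [h1, hx'2, Functor.preimage_map]
  subst this
  rfl

theorem isAlgSpace_pullback_proj (hXs : IsAlgSpace X.left) (hB : IsAlgSpace B) (hG : IsAlgSpace G.left)
    (hb : (yon S).map χ ≫ A'.b = A.b) {V : Over S} (f : V ⟶ A.base) (σ : (yon S).obj V ⟶ A.P.left)
    (hσ : σ ≫ A.π.left = (yon S).map f) : IsAlgSpace (pullback (proj : sheaf A A' χ ⟶ _) ((yon S).map f)) := by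
  obtain ⟨n, hab, -, hn⟩ := exists_isPullback_diag hb f σ hσ
  exact IsAlgSpace.of_iso (GrothLib.AlgSp.isAlgSpace_pullback' (GrothLib.AlgSp.isAlgSpace_pullback' hB hXs hXs _ _)
    (isAlgSpace_torsor hB hG (restr A' (f ≫ χ))) hXs _ _) hn.isoPullback.symm

theorem isAlgSpace_sheaf' (hXs : IsAlgSpace X.left) (hB : IsAlgSpace B) (hG : IsAlgSpace G.left)
    (hb : (yon S).map χ ≫ A'.b = A.b) : IsAlgSpace (sheaf A A' χ) :=
  isAlgSpace_of_cover proj (secSieve_mem A) fun _ f ⟨σ, hσ⟩ => isAlgSpace_pullback_proj hXs hB hG hb f σ hσ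

theorem mem_proj' (hXs : IsAlgSpace X.left) (hB : IsAlgSpace B) (hG : IsAlgSpace G.left)
    {P : MorphismProperty (Sp S)} [P.RespectsIso] (hloc : IsLocalOnBase IsFppfCover P)
    (hcomp : ∀ (Q : SpQuotObj Scheme.fppfPrecoverage G aX) {E : Sp S} (n : E ⟶ Q.P.left) (c : E ⟶ X.left)
      (d : Q.P.left ⟶ pullback X.hom X.hom), IsPullback n c d (pullback.diagonal X.hom) → P (n ≫ Q.π.left))
    (hb : (yon S).map χ ≫ A'.b = A.b) : P (proj : sheaf A A' χ ⟶ _) := by
  obtain ⟨V, c, hc, hfl, hlfp, hx⟩ := GrothLib.AlgSt.exists_family_of_mem_J (secSieve_mem A)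
  choose s hs using hc
  have hcov : IsFppfCover (fun i => (yon S).obj (V i)) (fun i => (yon S).map (c i)) :=
    ⟨fun i => ⟨GrothLib.AlgSp.EtLocal.locP_of_repWith GrothLib.AlgSp.EtLocal.flat (IsAlgSpace.yon_obj A.base)
        ((repWith_yon_map_iff _ _).2 (hfl i)),
      GrothLib.AlgSp.EtLocal.locP_of_repWith GrothLib.AlgSp.EtLocal.lfp (IsAlgSpace.yon_obj A.base)
        ((repWith_yon_map_iff _ _).2 (hlfp i))⟩,
      fun x => by
        obtain ⟨x, rfl⟩ := (Points.schemeHomeo A.base).surjective x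
        obtain ⟨v, hv⟩ := hx x
        exact ⟨x, Points.schemeHomeo (V x) v,
          (Points.map_yon_map_apply (c x) v).trans (congrArg (Points.schemeHomeo A.base) hv)⟩⟩
  refine (hloc _ _ (IsAlgSpace.yon_obj A.base) (fun i => IsAlgSpace.yon_obj (V i)) hcov proj
    (isAlgSpace_sheaf' hXs hB hG hb) (fun i => pullback (proj : sheaf A A' χ ⟶ _) ((yon S).map (c i)))
    (fun i => pullback.snd _ _) (fun i => pullback.fst _ _)
    (fun i => isAlgSpace_pullback_proj hXs hB hG hb (c i) (s i) (hs i))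
    (fun i => IsPullback.of_hasPullback _ _)).2 fun i => ?_
  obtain ⟨n, hab, hn, hsq⟩ := exists_isPullback_diag hb (c i) (s i) (hs i)
  exact hn ▸ hcomp (restr A' (c i ≫ χ)) n _ _ hsq

end IsoSec

end GrothLib.SpQuot
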