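import Groth.Agent.Lib.SpQuot.Stack

/-!
# The sheaf of isomorphisms of two torsors
-/

set_option backward.isDefEq.respectTransparency false
set_option backward.isDefEq.respectTransparency.types false

universe u

open CategoryTheory CategoryTheory.Limits MonoidalCategory CartesianMonoidalCategory MonObj GrpObj AlgebraicGeometry
open Opposite

namespace GrothLib.SpQuot

open _root_.AlgSp _root_.AlgSt

variable {S : Scheme.{u}} {B : Sp S} {G : Over B} [GrpObj G] {X : Over B} {aX : GAction G X}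

/-- An isomorphism between restrictions of two objects. -/
structure IsoSec (A A' : SpQuotObj Scheme.fppfPrecoverage G aX) (χ : A.base ⟶ A'.base) (V : Over S) where
  g : V ⟶ A.base
  ψ : restr A g ⟶ A'
  hψ : ψ.base = g ≫ χ

namespace IsoSec

variable {A A' : SpQuotObj Scheme.fppfPrecoverage G aX} {χ : A.base ⟶ A'.base}

/-- The value at a point. -/
noncomputable def ev {V : Over S} (s : IsoSec A A' χ V) {W : Over S} (k : W ⟶ V) (σ : (yon S).obj W ⟶ A.P.left)
    (h : σ ≫ A.π.left = (yon S).map (k ≫ s.g)) : (yon S).obj W ⟶ A'.P.left :=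
  (isPullback_left (restrHom A s.g)).lift σ ((yon S).map k) (by
    rw [h, restrHom_base, Functor.map_comp]) ≫ s.ψ.top.left

theorem ev_π {V : Over S} (s : IsoSec A A' χ V) {W : Over S} (k : W ⟶ V) (σ : (yon S).obj W ⟶ A.P.left)
    (h : σ ≫ A.π.left = (yon S).map (k ≫ s.g)) :
    s.ev k σ h ≫ A'.π.left = (yon S).map (k ≫ s.g ≫ χ) := by
  rw [ev, Category.assoc, hom_comm_left s.ψ, s.hψ, ← Category.assoc,
    (isPullback_left (restrHom A s.g)).lift_snd, ← Functor.map_comp]

theorem point_ψ {V : Over S} (s : IsoSec A A' χ V) {W : Over S} (q : (yon S).obj W ⟶ (restr A s.g).P.left)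
    (k : W ⟶ V) (hq : q ≫ (restr A s.g).π.left = (yon S).map k) :
    q ≫ s.ψ.top.left = s.ev k (q ≫ (restrHom A s.g).top.left) (by
      rw [Category.assoc, hom_comm_left (restrHom A s.g), reassoc_of% hq, ← Functor.map_comp, restrHom_base]) := by
  rw [ev]
  congr 1
  exact (isPullback_left (restrHom A s.g)).hom_ext ((isPullback_left _).lift_fst _ _ _).symm
    (hq.trans ((isPullback_left (restrHom A s.g)).lift_snd _ _ _).symm)

theorem ev_congr {V : Over S} {s s' : IsoSec A A' χ V} (e : s = s') {W : Over S} {k k' : W ⟶ V} (hk : k = k')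
    {σ σ' : (yon S).obj W ⟶ A.P.left} (hσ : σ = σ') (h : σ ≫ A.π.left = (yon S).map (k ≫ s.g))
    (h' : σ' ≫ A.π.left = (yon S).map (k' ≫ s'.g)) : s.ev k σ h = s'.ev k' σ' h' := by
  subst e hk hσ; rfl

/-- A morphism with the same values is the same morphism. -/
theorem hom_eq {V : Over S} (s : IsoSec A A' χ V) (φ : restr A s.g ⟶ A') (hφ : φ.base = s.g ≫ χ)
    (h : ∀ ⦃W : Over S⦄ (k : W ⟶ V) (q : (yon S).obj W ⟶ (restr A s.g).P.left)
      (_ : q ≫ (restr A s.g).π.left = (yon S).map k)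
      (h' : (q ≫ (restrHom A s.g).top.left) ≫ A.π.left = (yon S).map (k ≫ s.g)),
      q ≫ φ.top.left = s.ev k (q ≫ (restrHom A s.g).top.left) h') : φ = s.ψ := by
  refine SpQuotObj.hom_ext (hφ.trans s.hψ.symm) ?_
  ext1
  refine GrothLib.AlgSp.hom_ext fun W q => ?_
  obtain ⟨k, hk⟩ := (yon S).map_surjective (q ≫ (restr A s.g).π.left)
  rw [point_ψ s q k hk.symm]
  exact h k q hk.symm _

theorem ext' {V : Over S} {s s' : IsoSec A A' χ V} (hg : s.g = s'.g)
    (h : ∀ ⦃W : Over S⦄ (k : W ⟶ V) (σ : (yon S).obj W ⟶ A.P.left) (h₁ : σ ≫ A.π.left = (yon S).map (k ≫ s.g))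
      (h₂ : σ ≫ A.π.left = (yon S).map (k ≫ s'.g)), s.ev k σ h₁ = s'.ev k σ h₂) : s = s' := by
  obtain ⟨g, ψ, hψ⟩ := s
  obtain ⟨g', ψ', hψ'⟩ := s'
  obtain rfl : g = g' := hg
  have : ψ = ψ' := hom_eq ⟨g, ψ', hψ'⟩ ψ hψ fun W k q hq h' =>
    (point_ψ ⟨g, ψ, hψ⟩ q k hq).trans (h k _ h' h')
  subst this
  rfl

theorem exists_res {V V' : Over S} (m : V' ⟶ V) (s : IsoSec A A' χ V) :
    ∃ t : IsoSec A A' χ V', ∃ hg : t.g = m ≫ s.g,
      ∀ ⦃W : Over S⦄ (k : W ⟶ V') (σ : (yon S).obj W ⟶ A.P.left) (h : σ ≫ A.π.left = (yon S).map (k ≫ t.g)),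
        t.ev k σ h = s.ev (k ≫ m) σ (by rw [h, hg, Category.assoc]) := by
  obtain ⟨l, hl, hl'⟩ := exists_factor (restrHom A s.g) (restrHom A (m ≫ s.g)) m rfl
  refine ⟨⟨m ≫ s.g, l ≫ s.ψ, by rw [SpQuotObj.comp_base, hl, s.hψ]; exact (Category.assoc _ _ _).symm⟩, rfl,
    fun W k σ h => ?_⟩
  simp only [ev, SpQuotObj.comp_top, Over.comp_left]
  rw [← Category.assoc]
  congr 1
  have hl'' := congrArg CommaMorphism.left (congrArg SpQuotObj.Hom.top hl')
  simp only [SpQuotObj.comp_top, Over.comp_left] at hl''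
  refine (isPullback_left (restrHom A s.g)).hom_ext ?_ ?_
  · rw [Category.assoc]
    exact ((congrArg (_ ≫ ·) hl'').trans ((isPullback_left (restrHom A (m ≫ s.g))).lift_fst _ _ _)).trans
      ((isPullback_left (restrHom A s.g)).lift_fst _ _ _).symm
  · rw [Category.assoc, hom_comm_left l, (isPullback_left (restrHom A s.g)).lift_snd]
    refine (congrArg (fun t => _ ≫ _ ≫ (yon S).map t) hl).trans ?_
    rw [Functor.map_comp]
    exact ((isPullback_left (restrHom A (m ≫ s.g))).lift_snd_assoc _ _ _ _)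

noncomputable def res {V V' : Over S} (m : V' ⟶ V) (s : IsoSec A A' χ V) : IsoSec A A' χ V' :=
  (exists_res m s).choose

theorem res_g {V V' : Over S} (m : V' ⟶ V) (s : IsoSec A A' χ V) : (s.res m).g = m ≫ s.g :=
  (exists_res m s).choose_spec.choose

theorem ev_res {V V' : Over S} (m : V' ⟶ V) (s : IsoSec A A' χ V) {W : Over S} (k : W ⟶ V')
    (σ : (yon S).obj W ⟶ A.P.left) (h : σ ≫ A.π.left = (yon S).map (k ≫ (s.res m).g)) :
    (s.res m).ev k σ h = s.ev (k ≫ m) σ (by rw [h, res_g, Category.assoc]) :=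
  (exists_res m s).choose_spec.choose_spec k σ h

variable (A A' χ)

/-- The presheaf of isomorphisms. -/
noncomputable def psh : (Over S)ᵒᵖ ⥤ Type (u + 1) where
  obj V := IsoSec A A' χ V.unop
  map m := TypeCat.ofHom (fun s => s.res m.unop)
  map_id V := by
    ext s
    refine ext' ((res_g _ _).trans (Category.id_comp _)) fun W k σ h₁ h₂ => ?_
    exact (ev_res _ _ _ _ h₁).trans (ev_congr rfl (Category.comp_id _) rfl _ _)
  map_comp {V V' V''} m m' := by
    ext s
    change s.res (m'.unop ≫ m.unop) = (s.res m.unop).res m'.unop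
    refine ext' (by rw [res_g, res_g, res_g, Category.assoc]) fun W k σ h₁ h₂ => ?_
    exact (ev_res _ _ _ _ h₁).trans ((ev_congr rfl (Category.assoc _ _ _).symm rfl _
      (by rw [h₂, res_g, res_g]; simp only [Category.assoc])).trans
      ((ev_res _ _ _ _ (by rw [h₂, res_g, Category.assoc])).symm.trans (ev_res _ _ _ _ h₂).symm))

theorem isSheaf_psh : Presheaf.IsSheaf (J S) (psh A A' χ) := by
  rw [isSheaf_iff_isSheaf_of_type]
  intro V K hK x hx
  rw [Presieve.compatible_iff_sieveCompatible] at hx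
  have hres : ∀ ⦃W' W : Over S⦄ (h : W' ⟶ W) (g : W ⟶ V) (hg : K.arrows g),
      x (h ≫ g) (K.downward_closed hg h) = (x g hg).res h := fun W' W h g hg => hx g h hg
  obtain ⟨p, hp, -⟩ := existsUnique_glue (F := (yon S).obj A.base) hK (fun W g hg => (yon S).map (x g hg).g)
    fun W' W h g hg => by rw [← Functor.map_comp, hres h g hg, res_g]
  let g₀ : V ⟶ A.base := (yon S).preimage p
  have hg₀ : ∀ ⦃W : Over S⦄ (g : W ⟶ V) (hg : K.arrows g), g ≫ g₀ = (x g hg).g := fun W g hg =>
    (yon S).map_injective (by rw [Functor.map_comp, Functor.map_preimage, hp g hg])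
  have hn : ∀ {a' : SpQuotObj Scheme.fppfPrecoverage G aX} (κ : a' ⟶ restr A g₀) (hκ : K.arrows κ.base),
      ∃ (n : a' ⟶ A'), n.base = κ.base ≫ g₀ ≫ χ ∧
        ∀ ⦃W : Over S⦄ (j : W ⟶ a'.base) (q : (yon S).obj W ⟶ a'.P.left) (_ : q ≫ a'.π.left = (yon S).map j)
          (h : (q ≫ κ.top.left ≫ (restrHom A g₀).top.left) ≫ A.π.left = (yon S).map (j ≫ (x κ.base hκ).g)),
          q ≫ n.top.left = (x κ.base hκ).ev j (q ≫ κ.top.left ≫ (restrHom A g₀).top.left) h := by
    intro a' κ hκ
    obtain ⟨l, hl, hl'⟩ := exists_factor (restrHom A (x κ.base hκ).g) (κ ≫ restrHom A g₀) (𝟙 a'.base)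
      ((Category.id_comp _).trans (hg₀ κ.base hκ).symm)
    refine ⟨l ≫ (x κ.base hκ).ψ, ?_, fun W j q hq h => ?_⟩
    · rw [SpQuotObj.comp_base, hl, (x κ.base hκ).hψ, ← hg₀ κ.base hκ, Category.assoc]
      exact Category.id_comp _
    · rw [SpQuotObj.comp_top, Over.comp_left, ← Category.assoc]
      refine (point_ψ (x κ.base hκ) (q ≫ l.top.left) j ?_).trans (ev_congr rfl rfl ?_ _ _)
      · rw [Category.assoc, hom_comm_left l, hl]
        exact ((congrArg (fun t => q ≫ a'.π.left ≫ t) ((yon S).map_id _)).trans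
          (congrArg (q ≫ ·) (Category.comp_id _))).trans hq
      · rw [Category.assoc]
        refine congrArg (q ≫ ·) ?_
        have := congrArg CommaMorphism.left (congrArg SpQuotObj.Hom.top hl')
        simpa only [SpQuotObj.comp_top, Over.comp_left] using this
  choose n hnb hnev using @hn
  have hπκ : ∀ {a' : SpQuotObj Scheme.fppfPrecoverage G aX} (κ : a' ⟶ restr A g₀) (hκ : K.arrows κ.base) ⦃W : Over S⦄
      (j : W ⟶ a'.base) (q : (yon S).obj W ⟶ a'.P.left), q ≫ a'.π.left = (yon S).map j →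
        (q ≫ κ.top.left ≫ (restrHom A g₀).top.left) ≫ A.π.left = (yon S).map (j ≫ (x κ.base hκ).g) := by
    intro a' κ hκ W j q hq
    simp only [Category.assoc, hom_comm_left (restrHom A g₀), reassoc_of% (hom_comm_left κ), restrHom_base]
    rw [reassoc_of% hq, ← Functor.map_comp, ← hg₀ κ.base hκ, Functor.map_comp, Functor.map_comp, Functor.map_comp]
  have hcomp : ∀ {a'' a' : SpQuotObj Scheme.fppfPrecoverage G aX} (l : a'' ⟶ a') (κ : a' ⟶ restr A g₀)
      (h : K.arrows κ.base) (h' : K.arrows (l ≫ κ).base), l ≫ n κ h = n (l ≫ κ) h' := by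
    intro a'' a' l κ h h'
    refine SpQuotObj.hom_ext ?_ ?_
    · rw [SpQuotObj.comp_base, hnb, hnb, SpQuotObj.comp_base, Category.assoc]
    · ext1
      refine GrothLib.AlgSp.hom_ext fun W q => ?_
      obtain ⟨j, hj⟩ := (yon S).map_surjective (q ≫ a''.π.left)
      have hq' : (q ≫ l.top.left) ≫ a'.π.left = (yon S).map (j ≫ l.base) := by
        rw [Category.assoc, hom_comm_left l, ← reassoc_of% hj, Functor.map_comp]
      rw [SpQuotObj.comp_top, Over.comp_left, ← Category.assoc, hnev κ h (j ≫ l.base) _ hq' (hπκ κ h _ _ hq'),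
        hnev (l ≫ κ) h' j q hj.symm (hπκ (l ≫ κ) h' j q hj.symm)]
      have e : x (l ≫ κ).base h' = (x κ.base h).res l.base := hres l.base κ.base h
      refine Eq.trans ?_ (ev_congr e rfl rfl _ ?_).symm
      · refine Eq.trans ?_ (ev_res _ _ _ _ ?_).symm
        · refine ev_congr rfl rfl ?_ _ _
          simp only [SpQuotObj.comp_top, Over.comp_left, Category.assoc]
        · rw [← e]; exact hπκ (l ≫ κ) h' j q hj.symm
      · rw [← e]; exact hπκ (l ≫ κ) h' j q hj.symm
  let L : GrothLib.Stk.Descent.Local (SpQuotSt Scheme.fppfPrecoverage G aX).p (restr A g₀) A' K (g₀ ≫ χ) :=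
    { n := fun κ hκ => n κ hκ
      map_n := fun κ hκ => hnb κ hκ
      comp := fun l κ h h' => hcomp l κ h h' }
  obtain ⟨α, hα, hαn⟩ := exists_hom_glue hK L
  refine ⟨⟨g₀, α, hα⟩, fun W g hg => ?_, fun b hb => ?_⟩
  · refine ext' ((res_g _ _).trans (hg₀ g hg)) fun W' k σ h₁ h₂ => ?_
    refine (ev_res _ _ _ _ h₁).trans ?_
    obtain ⟨l, hlb, hl⟩ := exists_factor (restrHom A g₀) (restrHom A (x g hg).g) g (hg₀ g hg)
    have hκ : K.arrows l.base := by rw [hlb]; exact hg
    let q : (yon S).obj W' ⟶ (restr A (x g hg).g).P.left :=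
      (isPullback_left (restrHom A (x g hg).g)).lift σ ((yon S).map k) (by
        rw [h₂, restrHom_base, Functor.map_comp])
    have hq : q ≫ (restr A (x g hg).g).π.left = (yon S).map k := (isPullback_left _).lift_snd _ _ _
    have hql : (q ≫ l.top.left) ≫ (restr A g₀).π.left = (yon S).map (k ≫ g) := by
      rw [Category.assoc, hom_comm_left l, reassoc_of% hq, hlb, Functor.map_comp]
    have hfst : q ≫ l.top.left ≫ (restrHom A g₀).top.left = σ := by
      rw [← Over.comp_left, ← SpQuotObj.comp_top, hl]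
      exact (isPullback_left _).lift_fst _ _ _
    refine Eq.trans ?_ ((point_ψ (⟨g₀, α, hα⟩ : IsoSec A A' χ V) (q ≫ l.top.left) (k ≫ g) hql).symm.trans ?_)
    · exact ev_congr rfl rfl (by rw [Category.assoc]; exact hfst.symm) _ _
    · rw [Category.assoc, ← Over.comp_left, ← SpQuotObj.comp_top, hαn l hκ]
      change q ≫ (n l hκ).top.left = _
      rw [hnev l hκ k q hq (hπκ l hκ k q hq)]
      exact ev_congr (by congr 1) rfl hfst _ _
  · have hbg : b.g = g₀ := by
      apply (yon S).map_injective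
      refine hom_ext_cover hK fun W g hg => ?_
      rw [← Functor.map_comp, ← Functor.map_comp, hg₀ g hg]
      refine congrArg (yon S).map ((res_g g b).symm.trans ?_)
      exact congrArg IsoSec.g (hb g hg)
    refine ext' hbg fun W k σ h₁ h₂ => ?_
    refine hom_ext_cover (GrothendieckTopology.pullback_stable _ k hK) fun W' h hh => ?_
    obtain ⟨t, ht⟩ : ∃ t, (yon S).map h ≫ σ = t := ⟨_, rfl⟩
    let q : (yon S).obj W ⟶ (restr A g₀).P.left :=
      (isPullback_left (restrHom A g₀)).lift σ ((yon S).map k) (by rw [h₂, restrHom_base, Functor.map_comp])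
    have hnat : ∀ (s : IsoSec A A' χ V) (h₁ : σ ≫ A.π.left = (yon S).map (k ≫ s.g)),
        (yon S).map h ≫ s.ev k σ h₁ = s.ev (h ≫ k) ((yon S).map h ≫ σ)
          (by rw [Category.assoc, h₁, ← Functor.map_comp, Category.assoc]) := by
      intro s h₁
      rw [ev, ev, ← Category.assoc]
      congr 1
      refine (isPullback_left (restrHom A s.g)).hom_ext ?_ ?_
      · rw [Category.assoc, (isPullback_left (restrHom A s.g)).lift_fst, (isPullback_left (restrHom A s.g)).lift_fst]
      · rw [Category.assoc, (isPullback_left (restrHom A s.g)).lift_snd, (isPullback_left (restrHom A s.g)).lift_snd,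
          Functor.map_comp]
    rw [hnat b h₁, hnat ⟨g₀, α, hα⟩ h₂]
    have hb' : b.res (h ≫ k) = x (h ≫ k) hh := hb (h ≫ k) hh
    have hbr := ev_res (h ≫ k) b (𝟙 W') ((yon S).map h ≫ σ) (by
      rw [res_g, Category.id_comp, Category.assoc, h₁, ← Functor.map_comp, Category.assoc])
    refine ((ev_congr rfl (Category.id_comp _).symm rfl _ _).trans hbr.symm).trans
      ((ev_congr hb' rfl rfl _ (by
        rw [Category.id_comp, ← hg₀ (h ≫ k) hh, Category.assoc, h₂, ← Functor.map_comp, Category.assoc])).trans ?_)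
    obtain ⟨l, hlb, hl⟩ := exists_factor (restrHom A g₀) (restrHom A (x (h ≫ k) hh).g) (h ≫ k) (hg₀ _ hh)
    have hκ : K.arrows l.base := by rw [hlb]; exact hh
    let q' : (yon S).obj W' ⟶ (restr A (x (h ≫ k) hh).g).P.left :=
      (isPullback_left (restrHom A (x (h ≫ k) hh).g)).lift ((yon S).map h ≫ σ) ((yon S).map (𝟙 W')) (by
        rw [restrHom_base, ← hg₀ (h ≫ k) hh, Category.assoc, h₂, ← Functor.map_comp, ← Functor.map_comp,
          Category.id_comp, Category.assoc])
    have hq' : q' ≫ (restr A (x (h ≫ k) hh).g).π.left = (yon S).map (𝟙 W') := (isPullback_left _).lift_snd _ _ _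
    have hfst : q' ≫ l.top.left ≫ (restrHom A g₀).top.left = (yon S).map h ≫ σ := by
      rw [← Over.comp_left, ← SpQuotObj.comp_top, hl]
      exact (isPullback_left _).lift_fst _ _ _
    have hql : (q' ≫ l.top.left) ≫ (restr A g₀).π.left = (yon S).map (h ≫ k) := by
      rw [Category.assoc, hom_comm_left l, reassoc_of% hq', hlb, ← Functor.map_comp]
      exact congrArg _ (Category.id_comp _)
    refine Eq.trans ?_ ((point_ψ (⟨g₀, α, hα⟩ : IsoSec A A' χ V) (q' ≫ l.top.left) (h ≫ k) hql).trans ?_)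
    · refine Eq.trans ?_ (Category.assoc _ _ _).symm
      rw [← Over.comp_left, ← SpQuotObj.comp_top, hαn l hκ]
      change _ = q' ≫ (n l hκ).top.left
      rw [hnev l hκ (𝟙 W') q' hq' (hπκ l hκ _ q' hq')]
      exact ev_congr (by congr 1; exact hlb.symm) rfl hfst.symm _ _
    · exact ev_congr rfl rfl (by rw [Category.assoc]; exact hfst) _ _

/-- The sheaf of isomorphisms. -/
noncomputable def sheaf : Sp S := ⟨psh A A' χ, isSheaf_psh A A' χ⟩

variable {A A' χ}

/-- The section of a point. -/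
noncomputable def elt {V : Over S} (x : (yon S).obj V ⟶ sheaf A A' χ) : IsoSec A A' χ V :=
  ((J S).uliftYonedaEquiv (F := sheaf A A' χ) (X := V)) x

/-- The point of a section. -/
noncomputable def pt {V : Over S} (s : IsoSec A A' χ V) : (yon S).obj V ⟶ sheaf A A' χ :=
  ((J S).uliftYonedaEquiv (F := sheaf A A' χ) (X := V)).symm s

theorem elt_pt {V : Over S} (s : IsoSec A A' χ V) : elt (pt s) = s := by
  unfold elt pt
  exact Equiv.apply_symm_apply _ _

theorem elt_injective {V : Over S} {x y : (yon S).obj V ⟶ sheaf A A' χ} (h : elt x = elt y) : x = y :=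
  ((J S).uliftYonedaEquiv).injective h

theorem elt_comp {V W : Over S} (k : W ⟶ V) (x : (yon S).obj V ⟶ sheaf A A' χ) :
    elt ((yon S).map k ≫ x) = (elt x).res k :=
  sec_comp k x

theorem exists_proj : ∃ π : sheaf A A' χ ⟶ (yon S).obj A.base,
    ∀ ⦃V : Over S⦄ (x : (yon S).obj V ⟶ sheaf A A' χ), x ≫ π = (yon S).map (elt x).g := by
  obtain ⟨π, hπ, -⟩ := existsUnique_hom_of_points (F := sheaf A A' χ) (Y := (yon S).obj A.base)
    (fun V x => (yon S).map (elt x).g) fun W V g x => by rw [elt_comp, ← Functor.map_comp, res_g]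
  exact ⟨π, hπ⟩

/-- The projection to the base. -/
noncomputable def proj : sheaf A A' χ ⟶ (yon S).obj A.base := exists_proj.choose

theorem comp_proj {V : Over S} (x : (yon S).obj V ⟶ sheaf A A' χ) : x ≫ proj = (yon S).map (elt x).g :=
  exists_proj.choose_spec x

end IsoSec

end GrothLib.SpQuot
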