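import Groth.Agent.Lib.SpQuot.SheafGlue
import Groth.Agent.Lib.SpQuot.Family
import Groth.Agent.Lib.SpQuot.FibGrpd

/-!
# Objects of the quotient category with sheaf torsors glue
-/

set_option backward.isDefEq.respectTransparency false
set_option backward.isDefEq.respectTransparency.types false

universe u

open CategoryTheory CategoryTheory.Limits MonoidalCategory CartesianMonoidalCategory MonObj GrpObj AlgebraicGeometry

namespace GrothLib.SpQuot

open _root_.AlgSp AlgSt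

variable {S : Scheme.{u}} {B : Sp S}

/-- Morphisms out of a family with transition maps. -/
theorem Fam.exists_hom_of_trans {Q : Over B} {U : Over S} {R : Sieve U} (F : Fam Q R) (hR : R ∈ J S U) {Y : Over B}
    (t : ∀ ⦃V' V : Over S⦄ (h : V' ⟶ V) (f' : V' ⟶ U) (hf' : R.arrows f') (f : V ⟶ U) (hf : R.arrows f),
      h ≫ f = f' → (F.P f' hf' ⟶ F.P f hf))
    (htj : ∀ ⦃V' V : Over S⦄ (h : V' ⟶ V) (f' : V' ⟶ U) (hf' : R.arrows f') (f : V ⟶ U) (hf : R.arrows f)
      (e : h ≫ f = f'), t h f' hf' f hf e ≫ F.j f hf = F.j f' hf')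
    (htπ : ∀ ⦃V' V : Over S⦄ (h : V' ⟶ V) (f' : V' ⟶ U) (hf' : R.arrows f') (f : V ⟶ U) (hf : R.arrows f)
      (e : h ≫ f = f'), (t h f' hf' f hf e).left ≫ F.πP f hf = F.πP f' hf' ≫ (yon S).map h)
    (k : ∀ ⦃V : Over S⦄ (f : V ⟶ U) (hf : R.arrows f), F.P f hf ⟶ Y)
    (hk : ∀ ⦃V' V : Over S⦄ (h : V' ⟶ V) (f' : V' ⟶ U) (hf' : R.arrows f') (f : V ⟶ U) (hf : R.arrows f)
      (e : h ≫ f = f'), t h f' hf' f hf e ≫ k f hf = k f' hf') :
    ∃ K : Q ⟶ Y, ∀ ⦃V : Over S⦄ (f : V ⟶ U) (hf : R.arrows f), F.j f hf ≫ K = k f hf :=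
  F.exists_hom hR k fun V' V h f' hf' f hf e T p q h1 h2 => by
    have hq : q = p ≫ (t h f' hf' f hf e).left := (F.cart f hf).hom_ext
      (by rw [Category.assoc, ← Over.comp_left, htj, h1]) (by rw [Category.assoc, htπ, h2])
    rw [hq, Category.assoc, ← Over.comp_left, hk]

variable {G : Over B} [GrpObj G] {X : Over B} {aX : GAction G X}

/-- A descent datum of objects along a sieve. -/
structure ObjDD {U : Over S} (R : Sieve U) (aX : GAction G X) where
  A : ∀ ⦃V : Over S⦄ (f : V ⟶ U), R.arrows f → SpQuotObj Scheme.fppfPrecoverage G aX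
  e : ∀ ⦃V : Over S⦄ (f : V ⟶ U) (hf : R.arrows f), (A f hf).base = V
  l : ∀ ⦃V' V : Over S⦄ (h : V' ⟶ V) (f' : V' ⟶ U) (hf' : R.arrows f') (f : V ⟶ U) (hf : R.arrows f),
    h ≫ f = f' → (A f' hf' ⟶ A f hf)
  lbase : ∀ ⦃V' V : Over S⦄ (h : V' ⟶ V) (f' : V' ⟶ U) (hf' : R.arrows f') (f : V ⟶ U) (hf : R.arrows f)
    (w : h ≫ f = f'), (l h f' hf' f hf w).base ≫ eqToHom (e f hf) = eqToHom (e f' hf') ≫ h
  comp : ∀ ⦃V'' V' V : Over S⦄ (h' : V'' ⟶ V') (h : V' ⟶ V) (f'' : V'' ⟶ U) (hf'' : R.arrows f'')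
    (f' : V' ⟶ U) (hf' : R.arrows f') (f : V ⟶ U) (hf : R.arrows f) (w' : h' ≫ f' = f'') (w : h ≫ f = f'),
    l h' f'' hf'' f' hf' w' ≫ l h f' hf' f hf w = l (h' ≫ h) f'' hf'' f hf (by rw [Category.assoc, w, w'])

theorem ObjDD.exists_glue {U : Over S} {R : Sieve U} (hR : R ∈ J S U) (D : ObjDD R aX) :
    ∃ (A : SpQuotObj Scheme.fppfPrecoverage G aX) (hA : A.base = U)
      (m : ∀ ⦃V : Over S⦄ (f : V ⟶ U) (hf : R.arrows f), D.A f hf ⟶ A),
      (∀ ⦃V : Over S⦄ (f : V ⟶ U) (hf : R.arrows f), (m f hf).base ≫ eqToHom hA = eqToHom (D.e f hf) ≫ f) ∧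
      ∀ ⦃V' V : Over S⦄ (h : V' ⟶ V) (f' : V' ⟶ U) (hf' : R.arrows f') (f : V ⟶ U) (hf : R.arrows f)
        (w : h ≫ f = f'), D.l h f' hf' f hf w ≫ m f hf = m f' hf' := by
  let π' : ∀ ⦃V : Over S⦄ (f : V ⟶ U) (hf : R.arrows f), (D.A f hf).P.left ⟶ (yon S).obj V :=
    fun V f hf => (D.A f hf).π.left ≫ (yon S).map (eqToHom (D.e f hf))
  let b' : ∀ ⦃V : Over S⦄ (f : V ⟶ U) (hf : R.arrows f), (yon S).obj V ⟶ B :=
    fun V f hf => (yon S).map (eqToHom (D.e f hf).symm) ≫ (D.A f hf).b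
  have hπb : ∀ ⦃V : Over S⦄ (f : V ⟶ U) (hf : R.arrows f), π' f hf ≫ b' f hf = (D.A f hf).P.hom :=
    fun V f hf => by
      simp only [π', b', Category.assoc]
      rw [← Functor.map_comp_assoc, eqToHom_trans, eqToHom_refl, (yon S).map_id, Category.id_comp]
      exact Over.w (D.A f hf).π
  let dd : DD R :=
    { P := fun V f hf => (D.A f hf).P.left
      π := π'
      t := fun V' V h f' hf' f hf w => (D.l h f' hf' f hf w).top.left
      cart := fun V' V h f' hf' f hf w => (isPullback_left _).paste_vert (IsPullback.of_vert_isIso ⟨by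
        rw [← Functor.map_comp, ← Functor.map_comp, D.lbase]⟩)
      comp := fun V'' V' V h' h f'' hf'' f' hf' f hf w' w => by
        rw [← D.comp h' h f'' hf'' f' hf' f hf w' w]; rfl }
  obtain ⟨P₀, π₀, m₀, hm₀, hm₀t⟩ := dd.exists_glue
  obtain ⟨b, hb, -⟩ := existsUnique_glue (F := B) hR b' fun V' V h f hf => by
    simp only [b']
    have e1 := D.lbase h (h ≫ f) (R.downward_closed hf h) f hf rfl
    rw [← SpQuotObj.hom_wb (D.l h (h ≫ f) (R.downward_closed hf h) f hf rfl), ← Functor.map_comp_assoc,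
      ← Functor.map_comp_assoc]
    congr 2
    rw [← cancel_mono (eqToHom (D.e f hf)), Category.assoc, eqToHom_trans, eqToHom_refl, Category.comp_id,
      Category.assoc, e1, eqToHom_trans_assoc, eqToHom_refl, Category.id_comp]
  let Q : Over B := Over.mk (π₀ ≫ b)
  let jF : ∀ ⦃V : Over S⦄ (f : V ⟶ U) (hf : R.arrows f), (D.A f hf).P ⟶ Q := fun V f hf =>
    Over.homMk (m₀ f hf) (by
      change m₀ f hf ≫ π₀ ≫ b = _
      rw [reassoc_of% (hm₀ f hf).w, hb f hf]
      exact hπb f hf)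
  let F : Fam Q R := ⟨π₀, fun V f hf => (D.A f hf).P, π', jF, hm₀⟩
  let FG := F.tensor G
  let πQ : Q ⟶ Over.mk b := Over.homMk π₀ rfl
  have htj : ∀ ⦃V' V : Over S⦄ (h : V' ⟶ V) (f' : V' ⟶ U) (hf' : R.arrows f') (f : V ⟶ U) (hf : R.arrows f)
      (w : h ≫ f = f'), (D.l h f' hf' f hf w).top ≫ jF f hf = jF f' hf' := fun V' V h f' hf' f hf w => by
    ext1; exact hm₀t h f' hf' f hf w
  have htπ : ∀ ⦃V' V : Over S⦄ (h : V' ⟶ V) (f' : V' ⟶ U) (hf' : R.arrows f') (f : V ⟶ U) (hf : R.arrows f)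
      (w : h ≫ f = f'), (D.l h f' hf' f hf w).top.left ≫ π' f hf = π' f' hf' ≫ (yon S).map h :=
    fun V' V h f' hf' f hf w => (dd.cart h f' hf' f hf w).w
  obtain ⟨act, hact⟩ := FG.exists_hom_of_trans hR
    (fun V' V h f' hf' f hf w => G ◁ (D.l h f' hf' f hf w).top)
    (fun V' V h f' hf' f hf w => by
      change (G ◁ (D.l h f' hf' f hf w).top) ≫ (G ◁ jF f hf) = G ◁ jF f' hf'
      rw [← MonoidalCategory.whiskerLeft_comp, htj])
    (fun V' V h f' hf' f hf w => by
      change (G ◁ (D.l h f' hf' f hf w).top).left ≫ (snd G (D.A f hf).P).left ≫ π' f hf =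
        ((snd G (D.A f' hf').P).left ≫ π' f' hf') ≫ _
      rw [← Category.assoc, ← Over.comp_left, whiskerLeft_snd, Over.comp_left, Category.assoc, htπ]
      simp only [Category.assoc])
    (fun V f hf => (D.A f hf).act.act ≫ jF f hf)
    (fun V' V h f' hf' f hf w => by rw [← htj h f' hf' f hf w, ← reassoc_of% (D.l h f' hf' f hf w).eqv])
  replace hact : ∀ ⦃V : Over S⦄ (f : V ⟶ U) (hf : R.arrows f),
      (G ◁ jF f hf) ≫ act = (D.A f hf).act.act ≫ jF f hf := hact
  let aQ : GAction G Q :=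
    { act := act
      one_act := (F.tensor (𝟙_ (Over B))).hom_ext hR fun V f hf => by
        change (𝟙_ (Over B) ◁ jF f hf) ≫ (η[G] ▷ Q) ≫ act = (𝟙_ (Over B) ◁ jF f hf) ≫ (λ_ Q).hom
        rw [whisker_exchange_assoc, hact, reassoc_of% (D.A f hf).act.one_act, leftUnitor_naturality]
      mul_act := (F.tensor (G ⊗ G)).hom_ext hR fun V f hf => by
        change ((G ⊗ G) ◁ jF f hf) ≫ (μ[G] ▷ Q) ≫ act = ((G ⊗ G) ◁ jF f hf) ≫ (α_ G G Q).hom ≫ (G ◁ act) ≫ act
        rw [whisker_exchange_assoc, hact, reassoc_of% (D.A f hf).act.mul_act, tensor_whiskerLeft]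
        simp only [Category.assoc, Iso.inv_hom_id_assoc]
        rw [← MonoidalCategory.whiskerLeft_comp_assoc G (G ◁ jF f hf), hact, MonoidalCategory.whiskerLeft_comp_assoc,
          hact] }
  obtain ⟨φ, hφ⟩ := F.exists_hom_of_trans hR (fun V' V h f' hf' f hf w => (D.l h f' hf' f hf w).top) htj htπ
    (fun V f hf => (D.A f hf).φ) (fun V' V h f' hf' f hf w => (D.l h f' hf' f hf w).wφ)
  replace hφ : ∀ ⦃V : Over S⦄ (f : V ⟶ U) (hf : R.arrows f), jF f hf ≫ φ = (D.A f hf).φ := hφ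
  have hinv : act ≫ πQ = snd G Q ≫ πQ := FG.hom_ext hR fun V f hf => by
    change (G ◁ jF f hf) ≫ act ≫ πQ = (G ◁ jF f hf) ≫ snd G Q ≫ πQ
    rw [reassoc_of% (hact f hf), whiskerLeft_snd_assoc]
    ext1
    change (D.A f hf).act.act.left ≫ m₀ f hf ≫ π₀ = (snd G (D.A f hf).P).left ≫ m₀ f hf ≫ π₀
    rw [(hm₀ f hf).w]
    change _ ≫ π' f hf ≫ _ = _ ≫ π' f hf ≫ _
    simp only [π', Category.assoc]
    rw [← Category.assoc, ← Over.comp_left, (D.A f hf).cart.w, Over.comp_left, Category.assoc]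
  have hlift : ∀ ⦃W V : Over S⦄ (f : W ⟶ U) (hf : R.arrows f) (γ : (yon S).obj V ⟶ B) (x : Over.mk γ ⟶ Q)
      (a : V ⟶ W), x.left ≫ π₀ = (yon S).map (a ≫ f) →
        ∃ x' : Over.mk γ ⟶ (D.A f hf).P, x' ≫ jF f hf = x ∧ x'.left ≫ π' f hf = (yon S).map a := by
    intro W V f hf γ x a e
    have e' : x.left ≫ π₀ = (yon S).map a ≫ (yon S).map f := by rw [e, Functor.map_comp]
    refine ⟨Over.homMk ((hm₀ f hf).lift x.left ((yon S).map a) e') ?_, ?_, (hm₀ f hf).lift_snd _ _ _⟩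
    · rw [← Over.w (jF f hf)]
      exact ((hm₀ f hf).lift_fst_assoc _ _ _ _).trans (Over.w x)
    · ext1; exact (hm₀ f hf).lift_fst _ _ _
  have hsmall : ∀ ⦃V : Over S⦄ (γ : (yon S).obj V ⟶ B) (y z : Over.mk γ ⟶ Q), y ≫ πQ = z ≫ πQ →
      Small R π₀ z.left → ∃! g : Over.mk γ ⟶ G, gm aQ g z = y := by
    intro V γ y z hyz hz
    obtain ⟨f, hf, e⟩ := small_iff.1 hz
    have hy : y.left ≫ π₀ = (yon S).map (𝟙 V ≫ f) := by
      rw [Category.id_comp, ← e]; exact congrArg CommaMorphism.left hyz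
    obtain ⟨y', hy1, hy2⟩ := hlift f hf γ y (𝟙 V) hy
    obtain ⟨z', hz1, hz2⟩ := hlift f hf γ z (𝟙 V) (by rw [Category.id_comp]; exact e)
    have hgm : ∀ g : Over.mk γ ⟶ G, gm aQ g z = gm (D.A f hf).act g z' ≫ jF f hf := fun g => by
      rw [← hz1, gm_comp (a' := aQ) _ (hact f hf).symm]
    have hπ'' : ∀ w : Over.mk γ ⟶ (D.A f hf).P, w.left ≫ π' f hf = (yon S).map (𝟙 V) →
        w ≫ (D.A f hf).π = z' ≫ (D.A f hf).π := fun w hw => by
      ext1
      rw [← cancel_mono ((yon S).map (eqToHom (D.e f hf)))]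
      simp only [Over.comp_left, Category.assoc]
      exact hw.trans hz2.symm
    obtain ⟨g, hg, hgu⟩ := existsUnique_gm _ (D.A f hf).cart z' y' (hπ'' y' hy2)
    refine ⟨g, by dsimp only; rw [hgm, hg, hy1], fun g' hg' => hgu g' ?_⟩
    ext1
    refine (hm₀ f hf).hom_ext ?_ ?_
    · exact (congrArg CommaMorphism.left (hgm g')).symm.trans
        ((congrArg CommaMorphism.left hg').trans (congrArg CommaMorphism.left hy1).symm)
    · have h3 := congrArg CommaMorphism.left (gm_π _ (D.A f hf).cart g' z')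
      change _ ≫ π' f hf = _ ≫ π' f hf
      rw [hy2, ← hz2]
      simp only [π', ← Category.assoc]
      exact congrArg (· ≫ _) h3
  have hcart : IsPullback act (snd G Q) πQ πQ := by
    refine isPullback_over_of_points hinv fun V γ y z e => ?_
    have hex : ∃! g : Over.mk γ ⟶ G, gm aQ g z = y := by
      let t : V ⟶ U := (yon S).preimage (z.left ≫ π₀)
      have hK : R.pullback t ∈ J S V := GrothendieckTopology.pullback_stable _ t hR
      let r : ∀ ⦃W : Over S⦄ (h : W ⟶ V), Over.mk ((yon S).map h ≫ γ) ⟶ Over.mk γ :=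
        fun W h => Over.homMk ((yon S).map h) rfl
      have hsm : ∀ ⦃W : Over S⦄ (h : W ⟶ V), (R.pullback t).arrows h →
          ∃! g : Over.mk ((yon S).map h ≫ γ) ⟶ G, gm aQ g (r h ≫ z) = r h ≫ y := fun W h hh =>
        hsmall _ _ _ (by rw [Category.assoc, e, Category.assoc]) (small_map_comp.2 hh)
      choose g hg hgu using hsm
      obtain ⟨g₀, hg₀, -⟩ := existsUnique_glue (F := G.left) hK (fun W h hh => (g h hh).left)
        fun W' W k h hh => by
          let rk : Over.mk ((yon S).map (k ≫ h) ≫ γ) ⟶ Over.mk ((yon S).map h ≫ γ) :=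
            Over.homMk ((yon S).map k) (by
              change (yon S).map k ≫ (yon S).map h ≫ γ = _
              rw [← Functor.map_comp_assoc]; rfl)
          have hr : rk ≫ r h = r (k ≫ h) := by ext1; exact ((yon S).map_comp k h).symm
          exact congrArg CommaMorphism.left (hgu (k ≫ h) _ (rk ≫ g h hh) (by
            dsimp only
            rw [← hr, Category.assoc, Category.assoc, ← comp_gm, hg h hh]))
      have hg₀b : g₀ ≫ G.hom = γ := hom_ext_cover hK fun W h hh => by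
        rw [reassoc_of% (hg₀ h hh)]; exact Over.w (g h hh)
      let gg : Over.mk γ ⟶ G := Over.homMk g₀ hg₀b
      have hr' : ∀ ⦃W : Over S⦄ (h : W ⟶ V) (hh : (R.pullback t).arrows h), r h ≫ gg = g h hh :=
        fun W h hh => by ext1; exact hg₀ h hh
      refine ⟨gg, ?_, fun g' hg' => ?_⟩
      · ext1
        refine hom_ext_cover hK fun W h hh => ?_
        have := congrArg CommaMorphism.left ((comp_gm aQ (r h) gg z).trans
          ((congrArg (gm aQ · (r h ≫ z)) (hr' h hh)).trans (hg h hh)))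
        exact this
      · ext1
        refine hom_ext_cover hK fun W h hh => ?_
        have := congrArg CommaMorphism.left ((hgu h hh (r h ≫ g') (by dsimp only; rw [← comp_gm, hg'])).trans (hr' h hh).symm)
        exact this
    obtain ⟨g, hg, hgu⟩ := hex
    refine ⟨lift g z, ⟨hg, lift_snd _ _⟩, fun w hw => ?_⟩
    rw [← hgu (w ≫ fst G Q) (by rw [← hw.2]; exact (gm_fst_snd aQ w).trans hw.1), ← hw.2, ← comp_lift, lift_fst_snd,
      Category.comp_id]
  let A : SpQuotObj Scheme.fppfPrecoverage G aX :=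
    { base := U
      b := b
      P := Q
      act := aQ
      π := πQ
      cart := hcart
      loc := (hasSecLoc_fppf_iff _).2 (secSieve_mem_of_local _ hR fun V f hf => by
        refine GrothendieckTopology.superset_covering _ ?_
          (GrothendieckTopology.pullback_stable (J S) (eqToHom (D.e f hf).symm) (secSieve_mem (D.A f hf)))
        rintro W g ⟨s, hs⟩
        refine ⟨s ≫ m₀ f hf, ?_⟩
        change (s ≫ m₀ f hf) ≫ π₀ = _
        rw [Category.assoc, (hm₀ f hf).w]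
        change s ≫ ((D.A f hf).π.left ≫ _) ≫ _ = _
        rw [Category.assoc, reassoc_of% hs]
        simp only [Functor.map_comp, Category.assoc]
        rw [← Functor.map_comp_assoc (yon S) (eqToHom (D.e f hf).symm), eqToHom_trans, eqToHom_refl,
          (yon S).map_id, Category.id_comp])
      φ := φ
      eqv := FG.hom_ext hR fun V f hf => by
        change (G ◁ jF f hf) ≫ act ≫ φ = (G ◁ jF f hf) ≫ (G ◁ φ) ≫ aX.act
        rw [reassoc_of% (hact f hf), hφ, ← MonoidalCategory.whiskerLeft_comp_assoc, hφ]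
        exact (D.A f hf).eqv }
  refine ⟨A, rfl, fun V f hf => mkHom (A' := A) (eqToHom (D.e f hf) ≫ f) ?_ (jF f hf) ?_ (hact f hf).symm
    (hφ f hf), fun V f hf => Category.comp_id _, fun V' V h f' hf' f hf w => ?_⟩
  · change (yon S).map (eqToHom (D.e f hf) ≫ f) ≫ b = _
    rw [Functor.map_comp, Category.assoc, hb f hf, ← Functor.map_comp_assoc, eqToHom_trans, eqToHom_refl,
      (yon S).map_id, Category.id_comp]
  · exact (hm₀ f hf).w.trans (by simp only [dd, π', Category.assoc, Functor.map_comp])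
  · refine SpQuotObj.hom_ext ?_ (htj h f' hf' f hf w)
    change (D.l h f' hf' f hf w).base ≫ eqToHom (D.e f hf) ≫ f = eqToHom (D.e f' hf') ≫ f'
    rw [← Category.assoc, D.lbase, Category.assoc, w]

end GrothLib.SpQuot
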