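import Groth.Agent.Lib.SpQuot.Glue

/-!
# Descent of sheaves over a covering sieve of a scheme
-/

set_option backward.isDefEq.respectTransparency false
set_option backward.isDefEq.respectTransparency.types false

universe u

open CategoryTheory CategoryTheory.Limits AlgebraicGeometry Opposite

namespace GrothLib.SpQuot

open _root_.AlgSp

variable {S : Scheme.{u}}

/-- A descent datum of sheaves along a sieve on a scheme, in cartesian form. -/
structure DD {U : Over S} (R : Sieve U) where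
  P : ∀ ⦃V : Over S⦄ (f : V ⟶ U), R.arrows f → Sp S
  π : ∀ ⦃V : Over S⦄ (f : V ⟶ U) (hf : R.arrows f), P f hf ⟶ (yon S).obj V
  t : ∀ ⦃V' V : Over S⦄ (h : V' ⟶ V) (f' : V' ⟶ U) (hf' : R.arrows f') (f : V ⟶ U) (hf : R.arrows f),
    h ≫ f = f' → (P f' hf' ⟶ P f hf)
  cart : ∀ ⦃V' V : Over S⦄ (h : V' ⟶ V) (f' : V' ⟶ U) (hf' : R.arrows f') (f : V ⟶ U) (hf : R.arrows f)
    (e : h ≫ f = f'), IsPullback (t h f' hf' f hf e) (π f' hf') (π f hf) ((yon S).map h)
  comp : ∀ ⦃V'' V' V : Over S⦄ (h' : V'' ⟶ V') (h : V' ⟶ V) (f'' : V'' ⟶ U) (hf'' : R.arrows f'')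
    (f' : V' ⟶ U) (hf' : R.arrows f') (f : V ⟶ U) (hf : R.arrows f) (e' : h' ≫ f' = f'') (e : h ≫ f = f'),
    t h' f'' hf'' f' hf' e' ≫ t h f' hf' f hf e =
      t (h' ≫ h) f'' hf'' f hf (by rw [Category.assoc, e, e'])

namespace DD

variable {U : Over S} {R : Sieve U} (D : DD R)

theorem t_congr ⦃V' V : Over S⦄ {h₁ h₂ : V' ⟶ V} (eh : h₁ = h₂) (f' : V' ⟶ U) (hf' : R.arrows f') (f : V ⟶ U)
    (hf : R.arrows f) (e₁ : h₁ ≫ f = f') (e₂ : h₂ ≫ f = f') :
    D.t h₁ f' hf' f hf e₁ = D.t h₂ f' hf' f hf e₂ := by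
  subst eh; rfl

/-- A section of the glued sheaf. -/
structure Elt (V : Over S) where
  f : V ⟶ U
  s : ∀ ⦃W : Over S⦄ (g : W ⟶ V) (f' : W ⟶ U) (hf' : R.arrows f'), g ≫ f = f' →
    ((yon S).obj W ⟶ D.P f' hf')
  sec : ∀ ⦃W : Over S⦄ (g : W ⟶ V) (f' : W ⟶ U) (hf' : R.arrows f') (e : g ≫ f = f'),
    s g f' hf' e ≫ D.π f' hf' = 𝟙 _
  comp : ∀ ⦃W' W : Over S⦄ (h : W' ⟶ W) (g : W ⟶ V) (f'' : W' ⟶ U) (hf'' : R.arrows f'') (f' : W ⟶ U)
    (hf' : R.arrows f') (e' : h ≫ f' = f'') (e : g ≫ f = f'),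
    s (h ≫ g) f'' hf'' (by rw [Category.assoc, e, e']) ≫ D.t h f'' hf'' f' hf' e' =
      (yon S).map h ≫ s g f' hf' e

theorem Elt.s_congr {V : Over S} (a : D.Elt V) ⦃W : Over S⦄ {g g' : W ⟶ V} (eg : g = g') (f' : W ⟶ U)
    (hf' : R.arrows f') (e : g ≫ a.f = f') (e' : g' ≫ a.f = f') : a.s g f' hf' e = a.s g' f' hf' e' := by
  subst eg; rfl

theorem Elt.s_congr' {V : Over S} {a b : D.Elt V} (hab : a = b) ⦃W : Over S⦄ (g : W ⟶ V) (f' : W ⟶ U)
    (hf' : R.arrows f') (e : g ≫ a.f = f') (e' : g ≫ b.f = f') : a.s g f' hf' e = b.s g f' hf' e' := by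
  subst hab; rfl

theorem Elt.ext' {V : Over S} {a b : D.Elt V} (hf : a.f = b.f)
    (hs : ∀ ⦃W : Over S⦄ (g : W ⟶ V) (f' : W ⟶ U) (hf' : R.arrows f') (e : g ≫ a.f = f') (e' : g ≫ b.f = f'),
      a.s g f' hf' e = b.s g f' hf' e') : a = b := by
  obtain ⟨fa, sa, _, _⟩ := a
  obtain ⟨fb, sb, _, _⟩ := b
  obtain rfl : fa = fb := hf
  have : sa = sb := by
    funext W g f' hf' e
    exact hs g f' hf' e e
  subst this
  rfl

/-- Restriction of sections. -/
@[simps]
def Elt.res {V V' : Over S} (k : V' ⟶ V) (a : D.Elt V) : D.Elt V' where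
  f := k ≫ a.f
  s W g f' hf' e := a.s (g ≫ k) f' hf' (by rw [Category.assoc, e])
  sec W g f' hf' e := a.sec _ _ _ _
  comp W' W h g f'' hf'' f' hf' e' e := by
    rw [← a.comp h (g ≫ k) f'' hf'' f' hf' e' (by rw [Category.assoc, e])]
    exact congrArg (· ≫ _) (Elt.s_congr D a (Category.assoc _ _ _) _ _ _ _)

/-- The glued presheaf. -/
def psh : (Over S)ᵒᵖ ⥤ Type (u + 1) where
  obj V := D.Elt V.unop
  map k := TypeCat.ofHom (fun a => Elt.res D k.unop a)
  map_id V := by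
    ext a
    refine Elt.ext' D (Category.id_comp _) fun W g f' hf' e e' => ?_
    exact Elt.s_congr D a (Category.comp_id _) _ _ _ _
  map_comp {V V' V''} k l := by
    ext a
    refine Elt.ext' D (Category.assoc _ _ _) fun W g f' hf' e e' => ?_
    exact Elt.s_congr D a (Category.assoc _ _ _).symm _ _ _ _

theorem point_ext ⦃W : Over S⦄ {f' : W ⟶ U} {hf' : R.arrows f'} {V : Over S} {h : W ⟶ V} {f : V ⟶ U}
    {hf : R.arrows f} (e : h ≫ f = f') {T : Over S} (p q : (yon S).obj T ⟶ D.P f' hf')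
    (h1 : p ≫ D.t h f' hf' f hf e = q ≫ D.t h f' hf' f hf e) (h2 : p ≫ D.π f' hf' = q ≫ D.π f' hf') : p = q :=
  (D.cart h f' hf' f hf e).hom_ext h1 h2

theorem isSheaf_psh : Presheaf.IsSheaf (J S) D.psh := by
  rw [isSheaf_iff_isSheaf_of_type]
  intro V K hK x hx
  rw [Presieve.compatible_iff_sieveCompatible] at hx
  have hres : ∀ ⦃W' W : Over S⦄ (h : W' ⟶ W) (g : W ⟶ V) (hg : K.arrows g),
      x (h ≫ g) (K.downward_closed hg h) = Elt.res D h (x g hg) := fun W' W h g hg => hx g h hg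
  obtain ⟨p, hp, -⟩ := existsUnique_glue (F := (yon S).obj U) hK (fun W g hg => (yon S).map (x g hg).f)
    fun W' W h g hg => by rw [← Functor.map_comp, hres h g hg]; rfl
  have hf : ∀ ⦃W : Over S⦄ (g : W ⟶ V) (hg : K.arrows g), g ≫ (yon S).preimage p = (x g hg).f := fun W g hg =>
    (yon S).map_injective (by rw [Functor.map_comp, Functor.map_preimage, hp g hg])
  have hxf : ∀ ⦃W : Over S⦄ (g : W ⟶ V) (f' : W ⟶ U) (_ : g ≫ (yon S).preimage p = f') ⦃W' : Over S⦄
      (h : W' ⟶ W) (hh : K.arrows (h ≫ g)), 𝟙 W' ≫ (x (h ≫ g) hh).f = h ≫ f' := fun W g f' e W' h hh => by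
    rw [Category.id_comp, ← hf _ hh, Category.assoc, e]
  have hcomp : ∀ ⦃W'' W' : Over S⦄ (k : W'' ⟶ W') (g : W' ⟶ V) (hg : K.arrows g) (g'' : W'' ⟶ V)
      (eg : k ≫ g = g'') (hg'' : K.arrows g'') (f'' : W'' ⟶ U) (hf'' : R.arrows f'') (f' : W' ⟶ U)
      (hf' : R.arrows f') (e1 : 𝟙 W'' ≫ (x g'' hg'').f = f'') (e : 𝟙 W' ≫ (x g hg).f = f') (e' : k ≫ f' = f''),
      (x g'' hg'').s (𝟙 W'') f'' hf'' e1 ≫ D.t k f'' hf'' f' hf' e' =
        (yon S).map k ≫ (x g hg).s (𝟙 W') f' hf' e := by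
    intro W'' W' k g hg g'' eg hg'' f'' hf'' f' hf' e1 e e'
    subst eg
    rw [← (x g hg).comp k (𝟙 W') f'' hf'' f' hf' e' e]
    congr 1
    refine (Elt.s_congr' D (hres k g hg) (𝟙 W'') f'' hf'' e1
      (show 𝟙 W'' ≫ k ≫ (x g hg).f = f'' by
        rw [Category.id_comp, ← Category.id_comp (x g hg).f, e, e'])).trans ?_
    exact Elt.s_congr D _ ((Category.id_comp k).trans (Category.comp_id k).symm) _ _ _ _
  have hsg : ∀ ⦃W : Over S⦄ (g : W ⟶ V) (f' : W ⟶ U) (hf' : R.arrows f') (e : g ≫ (yon S).preimage p = f'),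
      ∃! s : (yon S).obj W ⟶ D.P f' hf', ∀ ⦃W' : Over S⦄ (h : W' ⟶ W) (hh : K.arrows (h ≫ g)),
        (yon S).map h ≫ s = (x (h ≫ g) hh).s (𝟙 W') (h ≫ f') (R.downward_closed hf' h) (hxf g f' e h hh) ≫
          D.t h (h ≫ f') (R.downward_closed hf' h) f' hf' rfl := fun W g f' hf' e =>
    existsUnique_glue (GrothendieckTopology.pullback_stable _ g hK) _ fun W'' W' k h hh => by
      rw [← Category.assoc, ← hcomp k (h ≫ g) hh ((k ≫ h) ≫ g) (Category.assoc _ _ _).symm
        (by rw [Category.assoc]; exact K.downward_closed hh k) ((k ≫ h) ≫ f') (R.downward_closed hf' (k ≫ h))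
        (h ≫ f') (R.downward_closed hf' h) (hxf g f' e _ _) (hxf g f' e h hh) (Category.assoc _ _ _).symm,
        Category.assoc, D.comp]
  choose s hs hsu using hsg
  let a : D.Elt V :=
    { f := (yon S).preimage p
      s := s
      sec := fun W g f' hf' e => by
        refine hom_ext_cover (GrothendieckTopology.pullback_stable _ g hK) fun W' h hh => ?_
        rw [← Category.assoc, hs g f' hf' e h hh, Category.assoc, (D.cart h _ _ f' hf' rfl).w,
          reassoc_of% ((x (h ≫ g) hh).sec _ _ _ _), Category.comp_id]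
      comp := fun W' W h g f'' hf'' f' hf' e' e => by
        refine hom_ext_cover (GrothendieckTopology.pullback_stable _ (h ≫ g) hK) fun W'' k hk => ?_
        have hk' : K.arrows ((k ≫ h) ≫ g) := by rw [Category.assoc]; exact hk
        rw [← Category.assoc, hs _ f'' hf'' _ k hk, Category.assoc, D.comp, ← Category.assoc _ _ (s g f' hf' e),
          ← Functor.map_comp, hs g f' hf' e (k ≫ h) hk']
        subst e'
        have aux : ∀ (g₁ g₂ : W'' ⟶ V) (hg₁ : K.arrows g₁) (hg₂ : K.arrows g₂) (f₁ f₂ : W'' ⟶ U)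
            (h₁ : R.arrows f₁) (h₂ : R.arrows f₂) (c₁ : 𝟙 W'' ≫ (x g₁ hg₁).f = f₁)
            (c₂ : 𝟙 W'' ≫ (x g₂ hg₂).f = f₂) (d₁ : (k ≫ h) ≫ f' = f₁) (d₂ : (k ≫ h) ≫ f' = f₂), g₁ = g₂ →
            (x g₁ hg₁).s (𝟙 W'') f₁ h₁ c₁ ≫ D.t (k ≫ h) f₁ h₁ f' hf' d₁ =
              (x g₂ hg₂).s (𝟙 W'') f₂ h₂ c₂ ≫ D.t (k ≫ h) f₂ h₂ f' hf' d₂ := by
          intro g₁ g₂ hg₁ hg₂ f₁ f₂ h₁ h₂ c₁ c₂ d₁ d₂ eg
          subst eg d₁ d₂
          rfl
        exact aux _ _ _ _ _ _ _ _ _ _ _ _ (Category.assoc _ _ _).symm }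
  refine ⟨a, fun W g hg => Elt.ext' D (hf g hg) fun W' h f' hf' e e' => ?_, fun b hb => ?_⟩
  · change s (h ≫ g) f' hf' _ = (x g hg).s h f' hf' e'
    have hhg : K.arrows (h ≫ g) := K.downward_closed hg h
    refine ((hsu (h ≫ g) f' hf' _) _ fun W'' k hk => ?_).symm
    have hk' : K.arrows ((k ≫ h) ≫ g) := K.downward_closed hg _
    rw [← (x g hg).comp k h (k ≫ f') (R.downward_closed hf' k) f' hf' rfl e']
    congr 1
    have hke : (k ≫ h) ≫ (x g hg).f = k ≫ f' := by rw [Category.assoc, e']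
    have hh2 : x (k ≫ h ≫ g) hk = Elt.res D (k ≫ h) (x g hg) := by
      rw [← hres (k ≫ h) g hg]
      congr 1 <;> simp only [Category.assoc]
    refine Eq.trans ?_ (Elt.s_congr' D hh2 (𝟙 W'') (k ≫ f') (R.downward_closed hf' k) _
      (by rw [Category.id_comp]; exact hke)).symm
    exact Elt.s_congr D _ (Category.id_comp _).symm _ _ _ _
  · have hbf : b.f = a.f := by
      apply (yon S).map_injective
      refine hom_ext_cover hK fun W g hg => ?_
      rw [← Functor.map_comp, ← Functor.map_comp, hf g hg]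
      exact congrArg (yon S).map (congrArg Elt.f (hb g hg))
    refine Elt.ext' D hbf fun W g f' hf' e e' => ?_
    refine hsu g f' hf' e' _ fun W' h hh => ?_
    rw [← b.comp h g (h ≫ f') (R.downward_closed hf' h) f' hf' rfl e]
    congr 1
    have hbr : Elt.res D (h ≫ g) b = x (h ≫ g) hh := hb (h ≫ g) hh
    refine Eq.trans ?_ (Elt.s_congr' D hbr (𝟙 W') (h ≫ f') (R.downward_closed hf' h)
      (by rw [Category.id_comp]; exact (by rw [Category.assoc, e] : (h ≫ g) ≫ b.f = h ≫ f')) _)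
    exact Elt.s_congr D b (Category.id_comp _).symm _ _ _ _

/-- The glued sheaf. -/
def glued : Sp S := ⟨D.psh, D.isSheaf_psh⟩

/-- The section of a point. -/
noncomputable def elt {V : Over S} (x : (yon S).obj V ⟶ D.glued) : D.Elt V := (J S).uliftYonedaEquiv x

theorem elt_comp {V W : Over S} (g : W ⟶ V) (x : (yon S).obj V ⟶ D.glued) :
    D.elt ((yon S).map g ≫ x) = Elt.res D g (D.elt x) := sec_comp g x

theorem exists_glue : ∃ (P : Sp S) (π : P ⟶ (yon S).obj U)
    (m : ∀ ⦃V : Over S⦄ (f : V ⟶ U) (hf : R.arrows f), D.P f hf ⟶ P),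
    (∀ ⦃V : Over S⦄ (f : V ⟶ U) (hf : R.arrows f), IsPullback (m f hf) (D.π f hf) π ((yon S).map f)) ∧
    ∀ ⦃V' V : Over S⦄ (h : V' ⟶ V) (f' : V' ⟶ U) (hf' : R.arrows f') (f : V ⟶ U) (hf : R.arrows f)
      (e : h ≫ f = f'), D.t h f' hf' f hf e ≫ m f hf = m f' hf' := by
  obtain ⟨π, hπ, -⟩ := existsUnique_hom_of_points (F := D.glued) (Y := (yon S).obj U)
    (fun V x => (yon S).map (D.elt x).f) fun W V g x => by
      rw [D.elt_comp, ← Functor.map_comp]; rfl
  have hm : ∀ ⦃V : Over S⦄ (f : V ⟶ U) (hf : R.arrows f), ∃ m : D.P f hf ⟶ D.glued,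
      ∀ ⦃T : Over S⦄ (p : (yon S).obj T ⟶ D.P f hf) (a : T ⟶ V), p ≫ D.π f hf = (yon S).map a →
        (D.elt (p ≫ m)).f = a ≫ f ∧ ∀ ⦃W : Over S⦄ (g : W ⟶ T) (f' : W ⟶ U) (hf' : R.arrows f')
          (e : g ≫ (D.elt (p ≫ m)).f = f') (e' : (g ≫ a) ≫ f = f'),
          (D.elt (p ≫ m)).s g f' hf' e ≫ D.t (g ≫ a) f' hf' f hf e' = (yon S).map g ≫ p := by
    intro V f hf
    have hE : ∀ ⦃T : Over S⦄ (p : (yon S).obj T ⟶ D.P f hf), ∃ E : D.Elt T,
        E.f = (yon S).preimage (p ≫ D.π f hf) ≫ f ∧ ∀ ⦃W : Over S⦄ (g : W ⟶ T) (f' : W ⟶ U)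
          (hf' : R.arrows f') (e : g ≫ E.f = f') (e' : (g ≫ (yon S).preimage (p ≫ D.π f hf)) ≫ f = f'),
          E.s g f' hf' e ≫ D.t (g ≫ (yon S).preimage (p ≫ D.π f hf)) f' hf' f hf e' =
            (yon S).map g ≫ p := by
      intro T p
      let a := (yon S).preimage (p ≫ D.π f hf)
      have hw : ∀ ⦃W : Over S⦄ (g : W ⟶ T), ((yon S).map g ≫ p) ≫ D.π f hf = 𝟙 _ ≫ (yon S).map (g ≫ a) :=
        fun W g => by rw [Category.id_comp, Functor.map_comp, Functor.map_preimage, Category.assoc]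
      refine ⟨{ f := a ≫ f
                s := fun W g f' hf' e => (D.cart (g ≫ a) f' hf' f hf (by rw [Category.assoc, e])).lift
                  ((yon S).map g ≫ p) (𝟙 _) (hw g)
                sec := fun W g f' hf' e => (D.cart (g ≫ a) f' hf' f hf _).lift_snd _ _ _
                comp := fun W' W h g f'' hf'' f' hf' e' e =>
                  D.point_ext (h := g ≫ a) (f := f) (hf := hf) (by rw [Category.assoc, e]) _ _ ?_ ?_ },
              rfl, fun W g f' hf' e e' => (D.cart (g ≫ a) f' hf' f hf _).lift_fst _ _ _⟩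
      · rw [Category.assoc, D.comp, D.t_congr (Category.assoc h g a).symm f'' hf'' f hf _
            (by simp only [Category.assoc, e, e']),
          (D.cart ((h ≫ g) ≫ a) f'' hf'' f hf _).lift_fst, Category.assoc,
          (D.cart (g ≫ a) f' hf' f hf _).lift_fst, Functor.map_comp, Category.assoc]
      · rw [Category.assoc, (D.cart h f'' hf'' f' hf' e').w,
          reassoc_of% ((D.cart ((h ≫ g) ≫ a) f'' hf'' f hf _).lift_snd ((yon S).map (h ≫ g) ≫ p) (𝟙 _)
            (hw _)), Category.assoc, (D.cart (g ≫ a) f' hf' f hf _).lift_snd, Category.comp_id]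
        simp only [Category.assoc, e, e']
    choose E hEf hEs using hE
    obtain ⟨m, hm, -⟩ := existsUnique_hom_of_points (F := D.P f hf) (Y := D.glued)
      (fun T p => (J S).uliftYonedaEquiv.symm (E p)) fun W T g p => by
        apply (J S).uliftYonedaEquiv.injective
        rw [Equiv.apply_symm_apply, sec_comp, Equiv.apply_symm_apply]
        have hpre : (yon S).preimage (((yon S).map g ≫ p) ≫ D.π f hf) = g ≫ (yon S).preimage (p ≫ D.π f hf) :=
          preimage_map_comp _ g p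
        change E ((yon S).map g ≫ p) = Elt.res D g (E p)
        refine Elt.ext' D (by rw [hEf, Elt.res_f, hEf, hpre, Category.assoc]) fun W' k f' hf' e e' => ?_
        have c1 : (k ≫ (yon S).preimage (((yon S).map g ≫ p) ≫ D.π f hf)) ≫ f = f' := by
          rw [Category.assoc, ← hEf, e]
        refine D.point_ext (h := k ≫ (yon S).preimage (((yon S).map g ≫ p) ≫ D.π f hf)) (f := f) (hf := hf) c1
          _ _ ?_ ?_
        · rw [hEs _ k f' hf' e c1]
          change _ = (E p).s (k ≫ g) f' hf' _ ≫ _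
          rw [D.t_congr (show k ≫ (yon S).preimage (((yon S).map g ≫ p) ≫ D.π f hf) =
              (k ≫ g) ≫ (yon S).preimage (p ≫ D.π f hf) by rw [hpre, Category.assoc]) f' hf' f hf c1
            (by rw [Category.assoc k g _, ← hpre]; exact c1),
            hEs p (k ≫ g) f' hf' _ _, Functor.map_comp, Category.assoc]
        · rw [(E _).sec, (Elt.res D g (E p)).sec]
    refine ⟨m, fun T p a hpa => ?_⟩
    have ea : a = (yon S).preimage (p ≫ D.π f hf) := by rw [hpa, Functor.preimage_map]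
    subst ea
    have he : D.elt (p ≫ m) = E p := by
      rw [hm p]
      exact Equiv.apply_symm_apply _ _
    rw [he]
    exact ⟨hEf p, hEs p⟩
  choose m hm using hm
  have hsq : ∀ ⦃V : Over S⦄ (f : V ⟶ U) (hf : R.arrows f), m f hf ≫ π = D.π f hf ≫ (yon S).map f :=
    fun V f hf => GrothLib.AlgSp.hom_ext fun T p => by
      rw [← Category.assoc, hπ, (hm f hf p _ ((yon S).map_preimage _).symm).1, Functor.map_comp,
        Functor.map_preimage, Category.assoc]
  have huniq : ∀ ⦃V : Over S⦄ (f : V ⟶ U) (hf : R.arrows f) ⦃T : Over S⦄ (y : (yon S).obj T ⟶ D.glued)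
      (a : T ⟶ V) (e : y ≫ π = (yon S).map (a ≫ f)) (x : (yon S).obj T ⟶ D.P f hf),
      x ≫ m f hf = y → x ≫ D.π f hf = (yon S).map a →
        x = (D.elt y).s (𝟙 T) (a ≫ f) (R.downward_closed hf a)
              (by rw [Category.id_comp]; exact (yon S).map_injective ((hπ y).symm.trans e)) ≫
            D.t a (a ≫ f) (R.downward_closed hf a) f hf rfl := by
    intro V f hf T y a e x hx1 hx2
    subst hx1
    have h := (hm f hf x a hx2).2 (𝟙 T) (a ≫ f) (R.downward_closed hf a)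
      (by rw [Category.id_comp]; exact (yon S).map_injective ((hπ _).symm.trans e)) (by rw [Category.id_comp])
    rw [(yon S).map_id] at h
    refine ((Category.id_comp x).symm.trans h.symm).trans ?_
    exact congrArg (_ ≫ ·) (D.t_congr (Category.id_comp a) _ _ f hf _ rfl)
  refine ⟨D.glued, π, m, fun V f hf => GrothLib.AlgSp.isPullback_of_yon (hsq f hf) fun T y z e => ?_,
    fun V' V h f' hf' f hf e => GrothLib.AlgSp.hom_ext fun T p => ?_⟩
  · obtain ⟨a, rfl⟩ := (yon S).map_surjective z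
    rw [← Functor.map_comp] at e
    have hy : (D.elt y).f = a ≫ f := (yon S).map_injective ((hπ y).symm.trans e)
    have ex : 𝟙 T ≫ (D.elt y).f = a ≫ f := by rw [Category.id_comp, hy]
    let x := (D.elt y).s (𝟙 T) (a ≫ f) (R.downward_closed hf a) ex ≫
      D.t a (a ≫ f) (R.downward_closed hf a) f hf rfl
    have hxπ : x ≫ D.π f hf = (yon S).map a := by
      rw [Category.assoc, (D.cart a _ _ f hf rfl).w, reassoc_of% ((D.elt y).sec _ _ _ _)]
    refine ⟨x, ⟨?_, hxπ⟩, fun x' hx' => huniq f hf y a e x' hx'.1 hx'.2⟩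
    apply (J S).uliftYonedaEquiv.injective
    refine Elt.ext' D ((hm f hf x a hxπ).1.trans hy.symm) fun W g f' hf' e₁ e₂ => ?_
    have c : (g ≫ a) ≫ f = f' := by rw [Category.assoc, ← hy]; exact e₂
    refine D.point_ext (h := g ≫ a) (f := f) (hf := hf) c _ _ ?_ ?_
    · refine ((hm f hf x a hxπ).2 g f' hf' e₁ c).trans ?_
      have h1 := (D.elt y).comp g (𝟙 T) f' hf' (a ≫ f) (R.downward_closed hf a)
        (by rw [← hy]; exact e₂) ex
      change (yon S).map g ≫ _ ≫ _ = _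
      rw [← Category.assoc, ← h1, Category.assoc, D.comp]
      congr 1
      all_goals exact Elt.s_congr D _ (Category.comp_id g) _ _ _ _
    · exact ((D.elt (x ≫ m f hf)).sec g f' hf' e₁).trans ((D.elt y).sec g f' hf' e₂).symm
  · obtain ⟨a, ha⟩ := (yon S).map_surjective (p ≫ D.π f' hf')
    have hpt : (p ≫ D.t h f' hf' f hf e) ≫ D.π f hf = (yon S).map (a ≫ h) := by
      rw [Category.assoc, (D.cart h f' hf' f hf e).w, ← reassoc_of% ha, Functor.map_comp]
    rw [← Category.assoc]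
    apply (J S).uliftYonedaEquiv.injective
    refine Elt.ext' D ?_ fun W g f'' hf'' e₁ e₂ => ?_
    · exact ((hm f hf _ _ hpt).1.trans (by rw [Category.assoc, e])).trans (hm f' hf' p a ha.symm).1.symm
    have c' : (g ≫ a) ≫ f' = f'' := by
      rw [Category.assoc, ← (hm f' hf' p a ha.symm).1]; exact e₂
    have c : (g ≫ a ≫ h) ≫ f = f'' := by simp only [Category.assoc, e]; rw [← c', Category.assoc]
    refine D.point_ext (h := g ≫ a ≫ h) (f := f) (hf := hf) c _ _ ?_ ?_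
    · refine ((hm f hf _ _ hpt).2 g f'' hf'' e₁ c).trans ?_
      rw [D.t_congr (Category.assoc g a h).symm f'' hf'' f hf c (by rw [Category.assoc, e, c']),
        ← D.comp (g ≫ a) h f'' hf'' f' hf' f hf c' e, ← Category.assoc, ← (hm f' hf' p a ha.symm).2 g f'' hf'' e₂ c']
      rfl
    · exact ((D.elt ((p ≫ D.t h f' hf' f hf e) ≫ m f hf)).sec g f'' hf'' e₁).trans
        ((D.elt (p ≫ m f' hf')).sec g f'' hf'' e₂).symm

end DD

end GrothLib.SpQuot
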