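import Groth.Prelude.Def_AlgSt6
import Groth.Agent.Lib.SpQuot.Glue

/-!
# Sheaf torsors: algebra on points, equivariant maps are cartesian, secants form covering sieves
-/

set_option backward.isDefEq.respectTransparency false
set_option backward.isDefEq.respectTransparency.types false

universe u

open CategoryTheory CategoryTheory.Limits MonoidalCategory CartesianMonoidalCategory MonObj GrpObj AlgebraicGeometry

namespace GrothLib.SpQuot

open _root_.AlgSp

variable {S : Scheme.{u}} {B : Sp S} {G : Over B} [GrpObj G]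

section Act

variable {P : Over B} (a : GAction G P)

/-- `g • x` on points. -/
noncomputable def gm {Z : Over B} (g : Z ⟶ G) (x : Z ⟶ P) : Z ⟶ P := lift g x ≫ a.act

theorem one_gm {Z : Over B} (x : Z ⟶ P) : gm a 1 x = x := by
  have h : lift (1 : Z ⟶ G) x = x ≫ (λ_ P).inv ≫ (η[G] ▷ P) := by
    apply CartesianMonoidalCategory.hom_ext
    · simp [Hom.one_def]
    · simp
  rw [gm, h, Category.assoc, Category.assoc, a.one_act, Iso.inv_hom_id, Category.comp_id]

theorem gm_gm {Z : Over B} (g h : Z ⟶ G) (x : Z ⟶ P) : gm a g (gm a h x) = gm a (g * h) x := by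
  have hμ : lift (g * h) x = lift (lift g h) x ≫ (μ[G] ▷ P) := by
    apply CartesianMonoidalCategory.hom_ext
    · simp [Hom.mul_def]
    · simp
  have hw : lift g (lift h x ≫ a.act) = lift (lift g h) x ≫ (α_ G G P).hom ≫ (G ◁ a.act) := by
    apply CartesianMonoidalCategory.hom_ext
    · simp
    · simp only [lift_snd, Category.assoc, whiskerLeft_snd]
      rw [← Category.assoc (lift (lift g h) x), ← Category.assoc]
      congr 1
      apply CartesianMonoidalCategory.hom_ext <;> simp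
  rw [gm, gm, gm, hw, hμ, Category.assoc, Category.assoc, Category.assoc, ← a.mul_act]

theorem comp_gm {Z' Z : Over B} (e : Z' ⟶ Z) (g : Z ⟶ G) (x : Z ⟶ P) :
    e ≫ gm a g x = gm a (e ≫ g) (e ≫ x) := by
  rw [gm, gm, ← Category.assoc, comp_lift]

theorem gm_inv_gm {Z : Over B} (g : Z ⟶ G) (x : Z ⟶ P) : gm a g⁻¹ (gm a g x) = x := by
  rw [gm_gm, inv_mul_cancel, one_gm]

theorem gm_fst_snd {Z : Over B} (w : Z ⟶ G ⊗ P) : gm a (w ≫ fst G P) (w ≫ snd G P) = w ≫ a.act := by
  rw [gm, ← comp_lift, lift_fst_snd, Category.comp_id]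

theorem gm_comp {P' : Over B} {a' : GAction G P'} {f : P ⟶ P'} (hf : a.act ≫ f = (G ◁ f) ≫ a'.act)
    {Z : Over B} (g : Z ⟶ G) (x : Z ⟶ P) : gm a g x ≫ f = gm a' g (x ≫ f) := by
  rw [gm, gm, Category.assoc, hf, ← Category.assoc]
  congr 1
  apply CartesianMonoidalCategory.hom_ext <;> simp

/-- Equivariance is detected on points. -/
theorem eqv_of_gm {P' : Over B} {a' : GAction G P'} {f : P ⟶ P'}
    (h : ∀ ⦃V : Over S⦄ (b : (yon S).obj V ⟶ B) (g : Over.mk b ⟶ G) (x : Over.mk b ⟶ P),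
      gm a g x ≫ f = gm a' g (x ≫ f)) : a.act ≫ f = (G ◁ f) ≫ a'.act := by
  refine over_hom_ext fun V b w => ?_
  rw [← Category.assoc, ← gm_fst_snd, h, gm, ← Category.assoc]
  congr 1
  apply CartesianMonoidalCategory.hom_ext <;> simp

variable {T : Over B} {π : P ⟶ T} (hc : IsPullback a.act (snd G P) π π)

include hc

theorem gm_π {Z : Over B} (g : Z ⟶ G) (x : Z ⟶ P) : gm a g x ≫ π = x ≫ π := by
  rw [gm, Category.assoc, hc.w, lift_snd_assoc]

theorem existsUnique_gm {Z : Over B} (x y : Z ⟶ P) (h : y ≫ π = x ≫ π) : ∃! g : Z ⟶ G, gm a g x = y := by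
  refine ⟨hc.lift y x h ≫ fst G P, ?_, fun g hg => ?_⟩
  · have e : x = hc.lift y x h ≫ snd G P := (hc.lift_snd y x h).symm
    change gm a (hc.lift y x h ≫ fst G P) x = y
    rw [show gm a (hc.lift y x h ≫ fst G P) x = gm a (hc.lift y x h ≫ fst G P) (hc.lift y x h ≫ snd G P) from
      congrArg (gm a _) e, gm_fst_snd, hc.lift_fst]
  · have e : lift g x = hc.lift y x h :=
      hc.hom_ext (by rw [hc.lift_fst]; exact hg) (by rw [lift_snd, hc.lift_snd])
    rw [← e, lift_fst]

theorem gm_right_cancel {Z : Over B} (g g' : Z ⟶ G) (x : Z ⟶ P) (h : gm a g x = gm a g' x) : g = g' :=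
  (existsUnique_gm a hc x (gm a g' x) (gm_π a hc g' x)).unique h rfl

end Act

section HasSec

/-- The sieve of morphisms along which `π` has sections. -/
def secSieve {T : Over S} {P : Sp S} (π : P ⟶ (yon S).obj T) : Sieve T where
  arrows W g := ∃ s : (yon S).obj W ⟶ P, s ≫ π = (yon S).map g
  downward_closed := by
    rintro W V g ⟨s, hs⟩ h
    exact ⟨(yon S).map h ≫ s, by rw [Category.assoc, hs, Functor.map_comp]⟩

theorem hasSecLoc_fppf_iff {T : Over S} {P : Sp S} (π : P ⟶ (yon S).obj T) :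
    AlgSt.HasSecLoc Scheme.fppfPrecoverage π ↔ secSieve π ∈ J S T := by
  constructor
  · rintro ⟨R, hR, h⟩
    change Sieve.overEquiv T (secSieve π) ∈ Scheme.fppfTopology T.left
    refine GrothendieckTopology.superset_covering _ ?_ (Precoverage.generate_mem_toGrothendieck hR)
    rw [Sieve.generate_le_iff]
    intro Y f hf
    rw [Sieve.overEquiv_iff]
    exact h f hf
  · intro hJ
    obtain ⟨R, hR, hle⟩ := Precoverage.mem_toGrothendieck_iff_of_isStableUnderComposition.1
      (show Sieve.overEquiv T (secSieve π) ∈ Scheme.fppfTopology T.left from hJ)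
    exact ⟨R, hR, fun T' f hf => (Sieve.overEquiv_iff (secSieve π) f).1 (hle _ _ hf)⟩

theorem secSieve_mem_of_isPullback {T T' : Over S} {P P' : Sp S} {π : P ⟶ (yon S).obj T}
    {π' : P' ⟶ (yon S).obj T'} {top : P' ⟶ P} {f : T' ⟶ T} (h : IsPullback top π' π ((yon S).map f))
    (hJ : secSieve π ∈ J S T) : secSieve π' ∈ J S T' := by
  refine GrothendieckTopology.superset_covering _ ?_ (GrothendieckTopology.pullback_stable _ f hJ)
  rintro W g ⟨s, hs⟩
  exact ⟨h.lift s ((yon S).map g) (by rw [hs, Functor.map_comp]), h.lift_snd _ _ _⟩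

/-- Sections over the members of a covering sieve give sections locally. -/
theorem secSieve_mem_of_local {T : Over S} {P : Sp S} (π : P ⟶ (yon S).obj T) {R : Sieve T} (hR : R ∈ J S T)
    (h : ∀ ⦃W : Over S⦄ (g : W ⟶ T), R.arrows g → (secSieve π).pullback g ∈ J S W) : secSieve π ∈ J S T :=
  GrothendieckTopology.transitive _ hR _ fun _ g hg => h g hg

end HasSec

/-- A square over a morphism of schemes is cartesian if it is so on points. -/
theorem isPullback_over_of_points {P₁ P₂ P₃ P₄ : Over B} {t : P₁ ⟶ P₂} {l : P₁ ⟶ P₃} {r : P₂ ⟶ P₄} {d : P₃ ⟶ P₄}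
    (w : t ≫ r = l ≫ d)
    (h : ∀ ⦃V : Over S⦄ (b : (yon S).obj V ⟶ B) (y : Over.mk b ⟶ P₂) (z : Over.mk b ⟶ P₃),
      y ≫ r = z ≫ d → ∃! x : Over.mk b ⟶ P₁, x ≫ t = y ∧ x ≫ l = z) : IsPullback t l r d := by
  have hl : IsPullback t.left l.left r.left d.left := by
    refine GrothLib.AlgSp.isPullback_of_yon (congrArg CommaMorphism.left w) fun V y z e => ?_
    let b := y ≫ P₂.hom
    have hb : z ≫ P₃.hom = b := by
      rw [← Over.w d, ← reassoc_of% e, Over.w r]
    let y' : Over.mk b ⟶ P₂ := Over.homMk y rfl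
    let z' : Over.mk b ⟶ P₃ := Over.homMk z hb
    obtain ⟨x, ⟨hx1, hx2⟩, hu⟩ := h b y' z' (by ext1; exact e)
    refine ⟨x.left, ⟨congrArg CommaMorphism.left hx1, congrArg CommaMorphism.left hx2⟩, fun x' hx' => ?_⟩
    have hx'b : x' ≫ P₁.hom = b := by
      rw [← Over.w t, ← Category.assoc, hx'.1]
    exact congrArg CommaMorphism.left (hu (Over.homMk x' hx'b) ⟨by ext1; exact hx'.1, by ext1; exact hx'.2⟩)
  exact (IsPullback.of_map_of_faithful (Over.forget B) hl)

/-- The cartesian property of torsors: an equivariant map over a morphism of schemes, out of a pseudo-torsor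
with sections locally, into a pseudo-torsor, is a cartesian square. -/
theorem isPullback_of_eqv {P P' : Over B} {a : GAction G P} {a' : GAction G P'} {T T' : Over S}
    {b : (yon S).obj T ⟶ B} {b' : (yon S).obj T' ⟶ B} {π : P ⟶ Over.mk b} {π' : P' ⟶ Over.mk b'}
    (hc : IsPullback a.act (snd G P) π π) (hc' : IsPullback a'.act (snd G P') π' π')
    (hloc : secSieve π.left ∈ J S T) (f : T ⟶ T') (w : (yon S).map f ≫ b' = b) (top : P ⟶ P')
    (hcomm : top ≫ π' = π ≫ AlgSt.bHom f w) (he : a.act ≫ top = (G ◁ top) ≫ a'.act) :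
    IsPullback top π π' (AlgSt.bHom f w) := by
  refine isPullback_over_of_points hcomm fun V β y z e => ?_
  let t : V ⟶ T := (yon S).preimage z.left
  have huniq : ∀ ⦃W : Over S⦄ (γ : (yon S).obj W ⟶ B) (x x' : Over.mk γ ⟶ P),
      x ≫ π = x' ≫ π → x ≫ top = x' ≫ top → x = x' := by
    intro W γ x x' h1 h2
    obtain ⟨g, hg, -⟩ := existsUnique_gm a hc x' x h1
    have hg1 : g = 1 := gm_right_cancel a' hc' g 1 (x' ≫ top) (by
      rw [← gm_comp a he, hg, h2, one_gm])
    rw [← hg, hg1, one_gm]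
  have hex : ∀ ⦃W : Over S⦄ (γ : (yon S).obj W ⟶ B) (e' : Over.mk γ ⟶ Over.mk β) (s : Over.mk γ ⟶ P),
      s ≫ π = e' ≫ z → ∃ x : Over.mk γ ⟶ P, x ≫ top = e' ≫ y ∧ x ≫ π = e' ≫ z := by
    intro W γ e' s hs
    obtain ⟨g, hg, -⟩ := existsUnique_gm a' hc' (s ≫ top) (e' ≫ y) (by
      rw [Category.assoc, e, Category.assoc, hcomm, reassoc_of% hs])
    exact ⟨gm a g s, by rw [gm_comp a he, hg], by rw [gm_π a hc, hs]⟩
  have hK : (secSieve π.left).pullback t ∈ J S V := GrothendieckTopology.pullback_stable _ t hloc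
  have hpt : ∀ ⦃W : Over S⦄ (g : W ⟶ V), ((secSieve π.left).pullback t).arrows g →
      ∃ x : Over.mk ((yon S).map g ≫ β) ⟶ P,
        x.left ≫ top.left = (yon S).map g ≫ y.left ∧ x.left ≫ π.left = (yon S).map g ≫ z.left := by
    rintro W g ⟨s, hs⟩
    have hs' : s ≫ π.left = (yon S).map g ≫ z.left := by
      rw [hs, Functor.map_comp, Functor.map_preimage]
    let e' : Over.mk ((yon S).map g ≫ β) ⟶ Over.mk β := Over.homMk ((yon S).map g) rfl
    let s' : Over.mk ((yon S).map g ≫ β) ⟶ P := Over.homMk s (by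
      change s ≫ P.hom = (yon S).map g ≫ β
      rw [← Over.w π, reassoc_of% hs', Over.w z]
      rfl)
    obtain ⟨x, hx1, hx2⟩ := hex _ e' s' (by ext1; exact hs')
    exact ⟨x, congrArg CommaMorphism.left hx1, congrArg CommaMorphism.left hx2⟩
  choose x hx1 hx2 using hpt
  have hunl : ∀ ⦃W : Over S⦄ (p p' : (yon S).obj W ⟶ P.left), p ≫ π.left = p' ≫ π.left →
      p ≫ top.left = p' ≫ top.left → p = p' := by
    intro W p p' h1 h2
    have hp' : p' ≫ P.hom = p ≫ P.hom := by
      rw [← Over.w π, reassoc_of% h1]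
    exact congrArg CommaMorphism.left (huniq (p ≫ P.hom) (Over.homMk p rfl) (Over.homMk p' hp')
      (by ext1; exact h1) (by ext1; exact h2))
  obtain ⟨q, hq, -⟩ := existsUnique_glue hK (fun W g hg => (x g hg).left) fun W' W h g hg =>
    hunl _ _ (by rw [Category.assoc, hx2, hx2, Functor.map_comp, Category.assoc])
      (by rw [Category.assoc, hx1, hx1, Functor.map_comp, Category.assoc])
  have hq1 : q ≫ top.left = y.left := hom_ext_cover hK fun W g hg => by rw [reassoc_of% hq g hg, hx1]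
  have hq2 : q ≫ π.left = z.left := hom_ext_cover hK fun W g hg => by rw [reassoc_of% hq g hg, hx2]
  have hqb : q ≫ P.hom = β := by
    rw [← Over.w π, reassoc_of% hq2]
    exact Over.w z
  refine ⟨Over.homMk q hqb, ⟨by ext1; exact hq1, by ext1; exact hq2⟩, fun x' hx' => huniq β _ _ ?_ ?_⟩
  · rw [hx'.2]; ext1; exact hq2.symm
  · rw [hx'.1]; ext1; exact hq1.symm

end GrothLib.SpQuot
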